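import Mathlib
import Cfsg.Agent.KFacts.RgdTI
import Cfsg.Agent.Nodes.CardSup_m3
import Cfsg.Agent.FastGrp
import Cfsg.Agent.Prune
set_option linter.all false
prune_inst 0x7ffcfefbabac9fdfffff7e7ffef9dffc30c0dfffefdfff43ffe9efff6fdf33a13fe5fb8f1df050ffcff7e29c30b87813f97eca3feb6bdc7ffffd5ff45ffbee1fb7efbd2d71dfbcb40ffc6ffffbf17fbefffffffffffffffffffffffffffffffffffdffffffff
open scoped Cfsg.Agent.FastGrp

-- part: H400/TwoExcLine
section
/-!
# Lines of long root groups (hub H1, exceptional families), helper400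

`A2 cs h x y`: the group `E = X y ⊔ X (x + y)` is the union of `q + 1` root groups which intersect trivially.

* `card_inf_line` : if a subgroup `H` meets all these root groups in a subgroup of order `e`, then
  `|H ∩ E| + q = e + q * e`;
* `line_dichotomy` : hence `e = 1` or `e = q` (for a prime `p`);
* `conj_of_mem_line` : the elements of `E` are conjugate to elements of `X (x + y)`.
-/

set_option autoImplicit false
set_option linter.unusedSectionVars false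

namespace Cfsg.Agent.H400.TwoExc

open CoxeterSystem Cfsg.Agent.ChevalleyStructure.CoxeterGeom Cfsg.Agent.Tits.Roots Cfsg.Agent.Tits.Core
  Cfsg.Agent.Tits.Exchange Cfsg.Agent.Nodes.Reps Cfsg.Agent.Nodes.BNOf Cfsg.Agent.Nodes.StabComb
  Cfsg.Agent.Nodes.Bruhat Cfsg.Agent.Nodes.OppDec Cfsg.Agent.Nodes.PosPair Cfsg.Agent.Nodes.Coroot
  Cfsg.Agent.KFacts.RgdPar Cfsg.Agent.KFacts.RgdSL Cfsg.Agent.KFacts.RgdTI Cfsg.Agent.Nodes.LeviDec
open scoped commutatorElement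

variable {I W Y : Type*} [Fintype I] [DecidableEq I] [Group W] [Group Y] {M : CoxeterMatrix I}
  {cs : CoxeterSystem M W} {A : I → I → ℤ} {h : IsCartan M A} {p : ℕ} {T : Subgroup Y} {n : I → Y}
  {X : (I → ℤ) → Subgroup Y}

variable (R : RGD cs h p T n X) [Finite W] {x y : I → ℤ} (hA : A2 cs h x y)

include R hA

theorem line_inf : X y ⊓ X (x + y) = ⊥ := by
  refine X_inf_X R hA.ry hA.rxy ?_
  intro h0
  exact hA.rx.ne_zero (by simpa using h0.symm)

theorem mem_line {g : Y} : g ∈ X (x + y) ⊔ X y ↔ ∃ w ∈ X (x + y), ∃ v ∈ X y, g = w * v := by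
  have h1 : X (x + y) ≤ Subgroup.normalizer (X y : Set Y) := by
    intro u hu
    rw [mem_normalizer_iff_cj]
    ext g
    rw [mem_cj]
    constructor
    · intro hg
      have h2 := hA.comm_right R hu hg
      have h3 : g = u * (u⁻¹ * g * u) * u⁻¹ := by group
      rw [h3, h2]
      simpa using hg
    · intro hg
      have h2 := hA.comm_right R hu hg
      have h3 : u⁻¹ * g * u = g := by rw [mul_assoc, ← h2]; group
      rw [h3]; exact hg
  rw [← SetLike.mem_coe, Subgroup.coe_mul_of_left_le_normalizer_right _ _ h1, Set.mem_mul]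
  constructor
  · rintro ⟨w, hw, v, hv, e⟩
    exact ⟨w, hw, v, hv, e.symm⟩
  · rintro ⟨w, hw, v, hv, e⟩
    exact ⟨w, hw, v, hv, e.symm⟩

theorem line_unique {w w' v v' : Y} (hw : w ∈ X (x + y)) (hw' : w' ∈ X (x + y)) (hv : v ∈ X y) (hv' : v' ∈ X y)
    (he : w * v = w' * v') : w = w' ∧ v = v' := by
  have h1 : w'⁻¹ * w = v' * v⁻¹ := by
    rw [inv_mul_eq_iff_eq_mul, ← mul_assoc, ← he, mul_inv_cancel_right]
  have h2 : w'⁻¹ * w ∈ X y ⊓ X (x + y) := by
    refine Subgroup.mem_inf.2 ⟨?_, mul_mem (inv_mem hw') hw⟩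
    rw [h1]; exact mul_mem hv' (inv_mem hv)
  rw [line_inf R hA, Subgroup.mem_bot] at h2
  have h3 : w = w' := (inv_mul_eq_one.1 h2).symm
  subst h3
  exact ⟨rfl, mul_left_cancel he⟩

/-- the conjugates of `X y` under `X x` -/
theorem conj_eq_mul {u v : Y} : u * v * u⁻¹ = ⁅u, v⁆ * v := by
  rw [commutatorElement_def]; group

theorem exists_conj_of_mem {w v : Y} (hw : w ∈ X (x + y)) (hv : v ∈ X y) (hv1 : v ≠ 1) :
    ∃ u ∈ X x, w * v = u * v * u⁻¹ := by
  obtain ⟨u, hu, e⟩ := hA.symm.comm_surj R hv hv1 (w := w⁻¹) (by rw [add_comm]; exact inv_mem hw)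
  refine ⟨u, hu, ?_⟩
  rw [conj_eq_mul R hA, ← commutatorElement_inv, e, inv_inv]

theorem conj_inj {u u' v v' : Y} (hu : u ∈ X x) (hu' : u' ∈ X x) (hv : v ∈ X y) (hv' : v' ∈ X y) (hv1 : v ≠ 1)
    (he : u * v * u⁻¹ = u' * v' * u'⁻¹) : u = u' ∧ v = v' := by
  rw [conj_eq_mul R hA, conj_eq_mul R hA] at he
  obtain ⟨h1, h2⟩ := line_unique R hA (hA.comm_mem R hu hv) (hA.comm_mem R hu' hv') hv hv' he
  subst h2
  refine ⟨?_, rfl⟩
  refine hA.symm.comm_inj R hv hv1 hu hu' ?_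
  rw [← commutatorElement_inv, h1, commutatorElement_inv]

theorem conj_not_mem {u v : Y} (hu : u ∈ X x) (hv : v ∈ X y) (hv1 : v ≠ 1) : u * v * u⁻¹ ∉ X (x + y) := by
  intro h1
  rw [conj_eq_mul R hA] at h1
  have h2 : v ∈ X y ⊓ X (x + y) := Subgroup.mem_inf.2 ⟨hv, (mul_mem_cancel_left (hA.comm_mem R hu hv)).1 h1⟩
  rw [line_inf R hA, Subgroup.mem_bot] at h2
  exact hv1 h2

theorem conj_mem_line {u v : Y} (hu : u ∈ X x) (hv : v ∈ X y) : u * v * u⁻¹ ∈ X (x + y) ⊔ X y := by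
  rw [conj_eq_mul R hA]
  exact mul_mem (Subgroup.mem_sup_left (hA.comm_mem R hu hv)) (Subgroup.mem_sup_right hv)

end Cfsg.Agent.H400.TwoExc
end

-- part: H400/TwoExcFree
section
/-!
# Long root elements have no fixed points (hub H1, exceptional families), helper400

* `card_stab_inf` : if `Z` is normalised by the transitive subgroup `B` then `|Z ∩ Y_a|` does not depend on `a`, also for
  the conjugates of `Z`;
* `dich` : numerical dichotomy;
* `stab_inf_eq_bot` : `B` transitive, `c = x + y` a dominant root with `A2 x y` and `LR c`: `X c` acts semiregularly.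
-/

set_option autoImplicit false
set_option linter.unusedSectionVars false

namespace Cfsg.Agent.H400.TwoExc

open CoxeterSystem Cfsg.Agent.ChevalleyStructure.CoxeterGeom Cfsg.Agent.Tits.Roots Cfsg.Agent.Tits.Core
  Cfsg.Agent.Tits.Exchange Cfsg.Agent.Nodes.Reps Cfsg.Agent.Nodes.BNOf Cfsg.Agent.Nodes.StabComb
  Cfsg.Agent.Nodes.Bruhat Cfsg.Agent.Nodes.OppDec Cfsg.Agent.Nodes.PosPair Cfsg.Agent.Nodes.Coroot
  Cfsg.Agent.KFacts.RgdPar Cfsg.Agent.KFacts.RgdSL Cfsg.Agent.KFacts.RgdTI Cfsg.Agent.Nodes.LeviDec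
open scoped commutatorElement

section Act

variable {Y Ω : Type*} [Group Y] [MulAction Y Ω]

end Act

theorem dich {p q e N i f k : ℕ} (hp : p.Prime) (hq : q = p ^ f) (he : e = p ^ i) (hif : i ≤ f) (hN : N = p ^ k)
    (h : N + q = e + q * e) : e = 1 ∨ e = q := by
  rcases Nat.eq_zero_or_pos i with h0 | h0
  · left; rw [he, h0, pow_zero]
  rcases hif.eq_or_lt with h1 | h1
  · right; rw [he, hq, h1]
  exfalso
  obtain ⟨d, rfl⟩ : ∃ d, f = i + (d + 1) := ⟨f - i - 1, by omega⟩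
  have hp1 : 1 < p := hp.one_lt
  have he1 : 1 < e := by rw [he]; exact Nat.one_lt_pow (by omega) hp1
  obtain ⟨e', rfl⟩ : ∃ e', e = e' + 1 := ⟨e - 1, by omega⟩
  have hN' : N = (e' + 1) + q * e' := by linarith only [h]
  have h2 : N = p ^ i * (1 + p ^ (d + 1) * e') := by
    rw [hN', hq, pow_add, ← he]; ring
  have hk : i < k := by
    by_contra hk
    have h3 : p ^ k ≤ p ^ i := Nat.pow_le_pow_right hp.pos (by omega)
    rw [← hN, h2] at h3
    have h4 : 0 < p ^ (d + 1) * e' := by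
      have : 0 < e' := by omega
      positivity
    have h5 : 0 < p ^ i := by positivity
    nlinarith only [he, h3, h4]
  obtain ⟨l, rfl⟩ : ∃ l, k = i + (l + 1) := ⟨k - i - 1, by omega⟩
  rw [hN, pow_add] at h2
  have h3 : p ^ (l + 1) = 1 + p ^ (d + 1) * e' := Nat.eq_of_mul_eq_mul_left (pow_pos hp.pos i) h2
  have h4 : p ∣ p ^ (l + 1) := dvd_pow_self p (by omega)
  have h5 : p ∣ p ^ (d + 1) * e' := Dvd.dvd.mul_right (dvd_pow_self p (by omega)) _
  rw [h3] at h4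
  have h6 := (Nat.dvd_add_left h5).1 h4
  exact hp.one_lt.ne' (Nat.dvd_one.1 h6)

variable {I W Y : Type*} [Fintype I] [DecidableEq I] [Group W] [Group Y] {M : CoxeterMatrix I}
  {cs : CoxeterSystem M W} {A : I → I → ℤ} {h : IsCartan M A} {p : ℕ} {T : Subgroup Y} {n : I → Y}
  {X : (I → ℤ) → Subgroup Y} {R : RGD cs h p T n X}

theorem half_eq [Finite W] {a : I → ℤ} (ha : IsRoot cs h a) (hd : ∀ i, 0 ≤ cpr cs h (sr i) a) :
    PS T X (Ge cs h a) = PJ cs h T X {i | cpr cs h (sr i) a = 0} :=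
  PS_half_of_dom (f := ell cs h ha) hd

theorem B_le_Ge [Finite W] {a : I → ℤ} (ha : IsRoot cs h a) (hd : ∀ i, 0 ≤ cpr cs h (sr i) a) :
    RGD.B cs h T X ≤ PS T X (Ge cs h a) := by
  rw [half_eq ha hd]; exact B_le_PJ

theorem B_le_normalizer [Finite W] {a : I → ℤ} (L : LR R a) (hd : ∀ i, 0 ≤ cpr cs h (sr i) a) :
    RGD.B cs h T X ≤ Subgroup.normalizer (X a : Set Y) :=
  le_trans (B_le_Ge L.root hd) L.PS_le_normalizer

theorem sub_rep_eq [Finite W] (R : RGD cs h p T n X) {x y : I → ℤ} (hA : A2 cs h x y) : ∃ w : W,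
    rep cs h w (x + y) = y := by
  obtain ⟨⟨u, hu⟩, hu1⟩ := (Subgroup.ne_bot_iff_exists_ne_one).1 (X_ne_bot R hA.rx)
  obtain ⟨s, hs, -⟩ := exists_mu R hA.rx hu (fun h0 => hu1 (Subtype.ext h0))
  refine ⟨s, ?_⟩
  rw [hs, cpr_add cs h _ _ hA.rx, cpr_self cs h hA.rx, hA.cyx]
  have : (2 + -1 : ℤ) • x = x := by norm_num
  rw [this]; abel

theorem A2.card_eq [Finite W] [Finite Y] (R : RGD cs h p T n X) {x y : I → ℤ} (hA : A2 cs h x y) :
    Nat.card (X (x + y)) = Nat.card (X y) := by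
  obtain ⟨w, hw⟩ := sub_rep_eq R hA
  rw [← hw, Nodes.CardSup.card_X_rep R w hA.rxy, hw]

theorem A2.card_eq' [Finite W] [Finite Y] (R : RGD cs h p T n X) {x y : I → ℤ} (hA : A2 cs h x y) :
    Nat.card (X (x + y)) = Nat.card (X x) := by
  have := A2.card_eq R hA.symm
  rwa [add_comm] at this

end Cfsg.Agent.H400.TwoExc
end

-- part: H400/HeisBound
section
/-!
# Subgroups of a Heisenberg type group which avoid the centre, helper400

`heis_bound` : `Z ≤ Q` central, `[Q, Q] ≤ Z`, `{⁅y, g⁆ : g ∈ Q} = Z` for every `y ∈ Q`, `y ∉ Z`; then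
`|D|² |Z| ≤ |Q|` for every subgroup `D` of `Q` with `D ∩ Z = 1`.
-/

set_option autoImplicit false

namespace Cfsg.Agent.H400.HeisBound

open scoped commutatorElement

variable {Y : Type*} [Group Y]

theorem card_sup_of_comm [Finite Y] {D Z : Subgroup Y} (hc : ∀ z ∈ Z, ∀ d ∈ D, z * d = d * z) (hd : D ⊓ Z = ⊥) :
    Nat.card ↥(D ⊔ Z) = Nat.card D * Nat.card Z := by
  have h1 : Z ≤ Subgroup.normalizer (D : Set Y) := by
    intro z hz
    rw [Subgroup.mem_normalizer_iff]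
    intro d
    constructor
    · intro hd
      have : z * d * z⁻¹ = d := by rw [hc z hz d hd]; group
      rw [this]; exact hd
    · intro hd
      have h2 := hc z hz _ hd
      have : z * d * z⁻¹ = d := mul_left_cancel (a := z) (by rw [h2]; group)
      rwa [this] at hd
  rw [← Nat.card_prod]
  have h2 : ∀ g, g ∈ D ⊔ Z ↔ ∃ d ∈ D, ∃ z ∈ Z, d * z = g := by
    intro g
    rw [← SetLike.mem_coe, Subgroup.coe_mul_of_right_le_normalizer_left _ _ h1, Set.mem_mul]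
    rfl
  symm
  refine Nat.card_congr (Equiv.ofBijective
    (fun x : D × Z => (⟨(x.1 : Y) * x.2, (h2 _).2 ⟨_, x.1.2, _, x.2.2, rfl⟩⟩ : ↥(D ⊔ Z))) ⟨?_, ?_⟩)
  · rintro ⟨⟨a, ha⟩, ⟨b, hb⟩⟩ ⟨⟨a', ha'⟩, ⟨b', hb'⟩⟩ e
    have e1 : a * b = a' * b' := congrArg Subtype.val e
    have e2 : a'⁻¹ * a = b' * b⁻¹ := by
      rw [inv_mul_eq_iff_eq_mul, ← mul_assoc, ← e1, mul_inv_cancel_right]
    have e3 : a'⁻¹ * a ∈ D ⊓ Z :=
      Subgroup.mem_inf.2 ⟨mul_mem (inv_mem ha') ha, by rw [e2]; exact mul_mem hb' (inv_mem hb)⟩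
    rw [hd, Subgroup.mem_bot] at e3
    have e4 : a = a' := (inv_mul_eq_one.1 e3).symm
    subst e4
    have e5 : b = b' := mul_left_cancel e1
    subst e5
    rfl
  · rintro ⟨g, hg⟩
    obtain ⟨a, ha, b, hb, e⟩ := (h2 g).1 hg
    exact ⟨(⟨a, ha⟩, ⟨b, hb⟩), Subtype.ext e⟩

/-- distinct linear characters of a quotient -/
theorem card_le_of_hom {D Q : Type*} [Group Q] [Finite Q] [Finite D] (N : Subgroup Q) [N.Normal] (f : D → (Q →* ℂˣ))
    (hf : Function.Injective f) (hN : ∀ d, ∀ g ∈ N, f d g = 1) : Nat.card D * Nat.card N ≤ Nat.card Q := by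
  classical
  have := Fintype.ofFinite D
  have := Fintype.ofFinite (Q ⧸ N)
  let F : D → ((Q ⧸ N) →* ℂ) := fun d => (Units.coeHom ℂ).comp (QuotientGroup.lift N (f d) (fun g hg => hN d g hg))
  have hF : Function.Injective F := by
    intro d d' e
    apply hf
    ext g
    have h1 := congrArg (fun φ : (Q ⧸ N) →* ℂ => φ (QuotientGroup.mk g)) e
    exact h1
  have h1 := ((linearIndependent_monoidHom (Q ⧸ N) ℂ).comp F hF).fintype_card_le_finrank
  rw [Module.finrank_fintype_fun_eq_card, ← Nat.card_eq_fintype_card, ← Nat.card_eq_fintype_card] at h1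
  calc Nat.card D * Nat.card N ≤ Nat.card (Q ⧸ N) * Nat.card N := Nat.mul_le_mul_right _ h1
    _ = Nat.card Q := (Subgroup.card_eq_card_quotient_mul_card_subgroup N).symm

theorem exists_hom {Z : Subgroup Y} [Finite Y] (hZ : Z ≠ ⊥) (hc : ∀ a ∈ Z, ∀ b ∈ Z, a * b = b * a) :
    ∃ φ : Z →* ℂˣ, ∃ z : Z, φ z ≠ 1 := by
  let _ : CommGroup Z := { (inferInstance : Group Z) with
    mul_comm := fun a b => Subtype.ext (hc a a.2 b b.2) }
  obtain ⟨z, hz⟩ := (Subgroup.ne_bot_iff_exists_ne_one).1 hZ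
  have : NeZero (Monoid.exponent Z) := ⟨Monoid.exponent_ne_zero_of_finite⟩
  obtain ⟨φ, hφ⟩ := CommGroup.exists_apply_ne_one_of_hasEnoughRootsOfUnity Z ℂ hz
  exact ⟨φ, z, hφ⟩

/-- **The bound.** -/
theorem heis_bound [Finite Y] {Q Z D : Subgroup Y} (hZQ : Z ≤ Q) (hZc : ∀ z ∈ Z, ∀ g ∈ Q, z * g = g * z)
    (hcomm : ∀ a ∈ Q, ∀ b ∈ Q, ⁅a, b⁆ ∈ Z) (hZ : Z ≠ ⊥)
    (hsurj : ∀ y ∈ Q, y ∉ Z → ∀ w ∈ Z, ∃ g ∈ Q, ⁅y, g⁆ = w) (hDQ : D ≤ Q) (hD : D ⊓ Z = ⊥) :
    Nat.card D * (Nat.card D * Nat.card Z) ≤ Nat.card Q := by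
  obtain ⟨φ, z₀, hφ⟩ := exists_hom hZ (fun a ha b hb => hZc a ha b (hZQ hb))
  have hmulR : ∀ a ∈ Q, ∀ b ∈ Q, ∀ c ∈ Q, ⁅a, b * c⁆ = ⁅a, b⁆ * ⁅a, c⁆ := by
    intro a ha b hb c hc
    have h1 := hZc _ (hcomm a ha c hc) b hb
    have h2 : ⁅a, b * c⁆ = ⁅a, b⁆ * (b * ⁅a, c⁆ * b⁻¹) := by simp only [commutatorElement_def]; group
    rw [h2, ← h1]; group
  have hmulL : ∀ a ∈ Q, ∀ b ∈ Q, ∀ c ∈ Q, ⁅a * b, c⁆ = ⁅a, c⁆ * ⁅b, c⁆ := by
    intro a ha b hb c hc
    have h1 := hZc _ (hcomm b hb c hc) a ha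
    have h2 : ⁅a * b, c⁆ = (a * ⁅b, c⁆ * a⁻¹) * ⁅a, c⁆ := by simp only [commutatorElement_def]; group
    rw [h2, ← h1]
    have h3 := hZc _ (hcomm b hb c hc) _ (hZQ (hcomm a ha c hc))
    calc ⁅b, c⁆ * a * a⁻¹ * ⁅a, c⁆ = ⁅b, c⁆ * ⁅a, c⁆ := by group
      _ = _ := h3
  let F : D → (Q →* ℂˣ) := fun d =>
    { toFun := fun g => φ ⟨⁅(d : Y), (g : Y)⁆, hcomm _ (hDQ d.2) _ g.2⟩
      map_one' := by
        have : (⟨⁅(d : Y), ((1 : Q) : Y)⁆, hcomm _ (hDQ d.2) _ (1 : Q).2⟩ : Z) = 1 :=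
          Subtype.ext (by simp only [commutatorElement_def, _root_.OneMemClass.coe_one, _root_.mul_one, _root_.mul_inv_cancel, _root_.inv_one])
        rw [this, map_one]
      map_mul' := by
        intro g g'
        rw [← map_mul]
        congr 1
        exact Subtype.ext (hmulR _ (hDQ d.2) _ g.2 _ g'.2) }
  have hF : Function.Injective F := by
    intro d d' e
    by_contra hne
    have h1 : ((d' : Y)⁻¹ * d) ∉ Z := by
      intro h1
      have h2 : (d' : Y)⁻¹ * d ∈ D ⊓ Z := Subgroup.mem_inf.2 ⟨mul_mem (inv_mem d'.2) d.2, h1⟩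
      rw [hD, Subgroup.mem_bot] at h2
      exact hne (Subtype.ext (inv_mul_eq_one.1 h2).symm)
    have h1Q : ((d' : Y)⁻¹ * d) ∈ Q := mul_mem (inv_mem (hDQ d'.2)) (hDQ d.2)
    obtain ⟨g, hg, hgz⟩ := hsurj _ h1Q h1 z₀ z₀.2
    have h2 := congrArg (fun ψ : Q →* ℂˣ => ψ ⟨g, hg⟩) e
    have h3 : φ ⟨⁅(d : Y), g⁆, hcomm _ (hDQ d.2) _ hg⟩ = φ ⟨⁅(d' : Y), g⁆, hcomm _ (hDQ d'.2) _ hg⟩ := h2
    have h4 : ⁅(d : Y), g⁆ = ⁅(d' : Y), g⁆ * z₀ := by
      rw [← hgz, ← hmulL _ (hDQ d'.2) _ h1Q _ hg, mul_inv_cancel_left]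
    have h5 : (⟨⁅(d : Y), g⁆, hcomm _ (hDQ d.2) _ hg⟩ : Z) = ⟨⁅(d' : Y), g⁆, hcomm _ (hDQ d'.2) _ hg⟩ * z₀ :=
      Subtype.ext h4
    rw [h5, map_mul] at h3
    exact hφ (mul_eq_left.1 h3)
  have hDc : ∀ a ∈ D, ∀ b ∈ D, ⁅a, b⁆ = 1 := by
    intro a ha b hb
    have h1 : ⁅a, b⁆ ∈ D ⊓ Z := by
      refine Subgroup.mem_inf.2 ⟨?_, hcomm a (hDQ ha) b (hDQ hb)⟩
      rw [commutatorElement_def]
      exact mul_mem (mul_mem (mul_mem ha hb) (inv_mem ha)) (inv_mem hb)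
    rwa [hD, Subgroup.mem_bot] at h1
  have hnorm : ((D ⊔ Z).subgroupOf Q).Normal := by
    refine ⟨fun g hg k => ?_⟩
    rw [Subgroup.mem_subgroupOf] at hg ⊢
    have h1 : ((k * g * k⁻¹ : Q) : Y) = ⁅(k : Y), (g : Y)⁆ * g := by
      rw [commutatorElement_def]
      show (k : Y) * g * (k : Y)⁻¹ = _
      group
    rw [h1]
    exact mul_mem (Subgroup.mem_sup_right (hcomm _ k.2 _ g.2)) hg
  have h1 := card_le_of_hom ((D ⊔ Z).subgroupOf Q) F hF (by
    intro d g hg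
    rw [Subgroup.mem_subgroupOf] at hg
    have h2 : (g : Y) ∈ D ⊔ Z → φ ⟨⁅(d : Y), (g : Y)⁆, hcomm _ (hDQ d.2) _ g.2⟩ = 1 := by
      intro h3
      have h4 : ⁅(d : Y), (g : Y)⁆ = 1 := by
        have h5 : D ⊔ Z ≤ Subgroup.centralizer ({(d : Y)} : Set Y) := by
          refine sup_le ?_ ?_
          · intro x hx
            rw [Subgroup.mem_centralizer_iff]
            rintro _ rfl
            exact commutatorElement_eq_one_iff_mul_comm.1 (hDc _ d.2 x hx)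
          · intro x hx
            rw [Subgroup.mem_centralizer_iff]
            rintro _ rfl
            exact (hZc x hx _ (hDQ d.2)).symm
        rw [commutatorElement_eq_one_iff_mul_comm]
        exact Subgroup.mem_centralizer_iff.1 (h5 h3) _ rfl
      have h5 : (⟨⁅(d : Y), (g : Y)⁆, hcomm _ (hDQ d.2) _ g.2⟩ : Z) = 1 := Subtype.ext h4
      rw [h5, map_one]
    exact h2 hg)
  have h2 : Nat.card ((D ⊔ Z).subgroupOf Q) = Nat.card D * Nat.card Z := by
    rw [Nat.card_congr (Subgroup.subgroupOfEquivOfLe (sup_le hDQ hZQ)).toEquiv]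
    exact card_sup_of_comm (fun z hz d hd => hZc z hz d (hDQ hd)) hD
  rwa [h2] at h1

end Cfsg.Agent.H400.HeisBound
end

-- part: H400/TwoExcHeis
section
/-!
# The Heisenberg group of a long root (hub H1, exceptional families), helper400

`QQ r = ⟨X s : ⟨s, r^∨⟩ > 0⟩`.

* `Hs R r` : the hypotheses; `Hs.of_SL` : they hold in the simply laced case;
* `Hs.comm_mem`, `Hs.surj` : `[Q, Q] ≤ X r`, `{⁅y, g⁆ : g ∈ Q} = X r` for `y ∈ Q`, `y ∉ X r`;
* `Hs.card_le` : `|D|² |X r| ≤ |Q|` for `D ≤ Q` with `D ∩ X r = 1`.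
-/

set_option autoImplicit false
set_option linter.unusedSectionVars false

namespace Cfsg.Agent.H400.TwoExc

open CoxeterSystem Cfsg.Agent.ChevalleyStructure.CoxeterGeom Cfsg.Agent.Tits.Roots Cfsg.Agent.Tits.Core
  Cfsg.Agent.Tits.Exchange Cfsg.Agent.Nodes.Reps Cfsg.Agent.Nodes.BNOf Cfsg.Agent.Nodes.StabComb
  Cfsg.Agent.Nodes.Bruhat Cfsg.Agent.Nodes.OppDec Cfsg.Agent.Nodes.PosPair Cfsg.Agent.Nodes.Coroot
  Cfsg.Agent.KFacts.RgdPar Cfsg.Agent.KFacts.RgdSL Cfsg.Agent.KFacts.RgdTI Cfsg.Agent.Nodes.LeviDec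
open scoped commutatorElement

/-! ### Groups generated by a family of subgroups -/

section Gen

variable {Y : Type*} [Group Y] {ι : Type*}

/-- commutators of a group generated by subgroups which commute modulo the central subgroup `Z` -/
theorem comm_mem_of_gen {Z : Subgroup Y} (V : ι → Subgroup Y) (hZ : ∀ z ∈ Z, ∀ i, ∀ v ∈ V i, z * v = v * z)
    (hc : ∀ i j, ∀ a ∈ V i, ∀ b ∈ V j, ⁅a, b⁆ ∈ Z) : ∀ a ∈ ⨆ i, V i, ∀ b ∈ ⨆ i, V i, ⁅a, b⁆ ∈ Z := by
  have hZc : ∀ z ∈ Z, ∀ g ∈ ⨆ i, V i, z * g = g * z := by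
    intro z hz g hg
    have h1 : (⨆ i, V i) ≤ Subgroup.centralizer ({z} : Set Y) := by
      refine iSup_le fun i v hv => ?_
      rw [Subgroup.mem_centralizer_iff]
      rintro _ rfl
      exact hZ _ hz i v hv
    exact Subgroup.mem_centralizer_iff.1 (h1 hg) z rfl
  have key : ∀ b ∈ ⨆ i, V i, (∀ i, ∀ a ∈ V i, ⁅a, b⁆ ∈ Z) → ∀ a ∈ ⨆ i, V i, ⁅a, b⁆ ∈ Z := by
    intro b hb hi
    let K : Subgroup Y :=
      { carrier := {a | a ∈ (⨆ i, V i) ∧ ⁅a, b⁆ ∈ Z}
        one_mem' := ⟨one_mem _, by rw [commutatorElement_one_left]; exact one_mem _⟩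
        mul_mem' := by
          rintro a c ⟨ha, ha'⟩ ⟨hc, hc'⟩
          refine ⟨mul_mem ha hc, ?_⟩
          have h1 : ⁅a * c, b⁆ = a * ⁅c, b⁆ * a⁻¹ * ⁅a, b⁆ := by simp only [commutatorElement_def]; group
          rw [h1, ← hZc _ hc' a ha, mul_assoc, mul_assoc, mul_inv_cancel_left]
          exact mul_mem hc' ha'
        inv_mem' := by
          rintro a ⟨ha, ha'⟩
          refine ⟨inv_mem ha, ?_⟩
          have h1 : ⁅a⁻¹, b⁆ = a⁻¹ * (⁅a, b⁆⁻¹ * a) := by simp only [commutatorElement_def]; group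
          rw [h1, hZc _ (inv_mem ha') a ha, inv_mul_cancel_left]
          exact inv_mem ha' }
    have h1 : (⨆ i, V i) ≤ K := iSup_le fun i a ha => ⟨(le_iSup V i) ha, hi i a ha⟩
    intro a ha
    exact (h1 ha).2
  intro a ha b hb
  refine key b hb (fun i a' ha' => ?_) a ha
  have h1 := key a' ((le_iSup V i) ha') (fun j b' hb' => hc j i b' hb' a' ha') b hb
  rw [← commutatorElement_inv]
  exact inv_mem h1

/-- **Extraction of a component.** -/
theorem exists_component [DecidableEq ι] {Q Z : Subgroup Y} (hQ : ∀ a ∈ Q, ∀ b ∈ Q, ⁅a, b⁆ ∈ Z) (hZQ : Z ≤ Q)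
    (V : ι → Subgroup Y) (hV : ∀ i, V i ≤ Q) (S : Finset ι) {y : Y} (hy : y ∈ (⨆ i ∈ S, V i) ⊔ Z) (hyZ : y ∉ Z) :
    ∃ s ∈ S, ∃ x ∈ V s, x ≠ 1 ∧ ∃ y' ∈ (⨆ i ∈ S.erase s, V i) ⊔ Z, y = x * y' := by
  induction S using Finset.induction_on generalizing y with
  | empty =>
    exfalso
    apply hyZ
    simpa only [_root_.Finset.notMem_empty, _root_.not_false_eq_true, _root_.iSup_neg, _root_.iSup_bot, _root_.bot_le, _root_.sup_of_le_right] using hy
  | insert s S hs ih =>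
    have h1 : (⨆ i ∈ insert s S, V i) ⊔ Z = V s ⊔ ((⨆ i ∈ S, V i) ⊔ Z) := by
      rw [Finset.iSup_insert, sup_assoc]
    have hM : (⨆ i ∈ S, V i) ⊔ Z ≤ Q := sup_le (iSup₂_le fun i _ => hV i) hZQ
    have h2 : V s ≤ Subgroup.normalizer (((⨆ i ∈ S, V i) ⊔ Z : Subgroup Y) : Set Y) := by
      intro v hv
      rw [Subgroup.mem_normalizer_iff]
      have h3 : ∀ v ∈ V s, ∀ g ∈ (⨆ i ∈ S, V i) ⊔ Z, v * g * v⁻¹ ∈ (⨆ i ∈ S, V i) ⊔ Z := by
        intro v hv g hg
        have : v * g * v⁻¹ = ⁅v, g⁆ * g := by rw [commutatorElement_def]; group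
        rw [this]
        exact mul_mem (Subgroup.mem_sup_right (hQ v (hV s hv) g (hM hg))) hg
      intro g
      refine ⟨h3 v hv g, fun hg => ?_⟩
      have h4 := h3 v⁻¹ (inv_mem hv) _ hg
      have : v⁻¹ * (v * g * v⁻¹) * v⁻¹⁻¹ = g := by group
      rwa [this] at h4
    rw [h1, ← SetLike.mem_coe, Subgroup.coe_mul_of_left_le_normalizer_right _ _ h2, Set.mem_mul] at hy
    obtain ⟨x, hx, y₀, hy₀, rfl⟩ := hy
    by_cases hx1 : x = 1
    · subst hx1
      rw [one_mul] at hyZ ⊢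
      obtain ⟨s', hs', x', hx', hx1', y', hy', e⟩ := ih hy₀ hyZ
      refine ⟨s', Finset.mem_insert_of_mem hs', x', hx', hx1', y', ?_, e⟩
      refine sup_le_sup_right (iSup_mono fun i => ?_) Z hy'
      refine iSup_mono' fun hi => ⟨?_, le_rfl⟩
      rw [Finset.mem_erase] at hi ⊢
      exact ⟨hi.1, Finset.mem_insert_of_mem hi.2⟩
    · refine ⟨s, Finset.mem_insert_self _ _, x, hx, hx1, y₀, ?_, rfl⟩
      rw [Finset.erase_insert hs]
      exact hy₀

end Gen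

variable {I W Y : Type*} [Fintype I] [DecidableEq I] [Group W] [Group Y] {M : CoxeterMatrix I}
  {cs : CoxeterSystem M W} {A : I → I → ℤ} {h : IsCartan M A} {p : ℕ} {T : Subgroup Y} {n : I → Y}
  {X : (I → ℤ) → Subgroup Y}

/-- `{s root | ⟨s, r^∨⟩ > 0}` -/
def Gt (cs : CoxeterSystem M W) (h : IsCartan M A) (r : I → ℤ) : Set (I → ℤ) :=
  {s | IsRoot cs h s ∧ 0 < cpr cs h s r}

/-- the Heisenberg group -/
def QQ (cs : CoxeterSystem M W) (h : IsCartan M A) (X : (I → ℤ) → Subgroup Y) (r : I → ℤ) : Subgroup Y :=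
  RGD.Sup X (Gt cs h r)

/-- the hypotheses on the long root `r` -/
structure Hs (R : RGD cs h p T n X) (r : I → ℤ) : Prop where
  L : LR R r
  sub : ∀ s ∈ Gt cs h r, s ≠ r → r - s ∈ Gt cs h r
  com : ∀ s ∈ Gt cs h r, ∀ t ∈ Gt cs h r, s ≠ r → t ≠ r → s + t ≠ r → ∀ u ∈ X s, ∀ v ∈ X t, u * v = v * u
  cen : ∀ s ∈ Gt cs h r, s ≠ r → ∀ u ∈ X s, ∀ v ∈ X (r - s), ⁅u, v⁆ ∈ X r
  sur : ∀ s ∈ Gt cs h r, s ≠ r → ∀ u ∈ X s, u ≠ 1 → ∀ w ∈ X r, ∃ v ∈ X (r - s), ⁅u, v⁆ = w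

namespace Hs

variable {R : RGD cs h p T n X} {r : I → ℤ} (H : Hs R r) [Finite W]

include H

theorem mem_Gt : r ∈ Gt cs h r := ⟨H.L.root, by rw [cpr_self cs h H.L.root]; norm_num⟩

theorem X_le {s : I → ℤ} (hs : s ∈ Gt cs h r) : X s ≤ QQ cs h X r := RGD.le_Sup hs

theorem X_le_QQ : X r ≤ QQ cs h X r := H.X_le H.mem_Gt

theorem comm_r {z v : Y} (hz : z ∈ X r) {s : I → ℤ} (hs : s ∈ Gt cs h r) (hv : v ∈ X s) : z * v = v * z :=
  (H.L.comm s hs.1 hs.2.le v hv z hz).symm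

theorem central {z g : Y} (hz : z ∈ X r) (hg : g ∈ QQ cs h X r) : z * g = g * z := by
  refine (H.L.comm' (RGD.Sup_mono (S' := Ge cs h r) (fun s hs => ⟨hs.1, hs.2.le⟩) hg) hz).symm

theorem comm_mem {a b : Y} (ha : a ∈ QQ cs h X r) (hb : b ∈ QQ cs h X r) : ⁅a, b⁆ ∈ X r := by
  refine comm_mem_of_gen (fun s : Gt cs h r => X s.1) (fun z hz s v hv => H.comm_r hz s.2 hv) ?_ a ha b hb
  rintro ⟨s, hs⟩ ⟨t, ht⟩ u hu v hv
  have h1 : u * v = v * u → ⁅u, v⁆ ∈ X r := by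
    intro h1
    rw [commutatorElement_eq_one_iff_mul_comm.2 h1]; exact one_mem _
  by_cases hsr : s = r
  · subst hsr
    exact h1 (H.comm_r hu ht hv)
  by_cases htr : t = r
  · subst htr
    exact h1 (H.comm_r hv hs hu).symm
  by_cases hst : s + t = r
  · have h2 : t = r - s := by rw [← hst]; abel
    subst h2
    exact H.cen s hs hsr u hu v hv
  · exact h1 (H.com s hs t ht hsr htr hst u hu v hv)

/-- an element outside `X r` has a non-trivial component -/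
theorem exists_comp {E : Subgroup Y} (hrE : X r ≤ E) (hE : E ≤ QQ cs h X r) {S : Set (I → ℤ)}
    (hS : ∀ s ∈ Gt cs h r, s ≠ r → s ∉ S → X s ≤ E) (hSG : S ⊆ Gt cs h r) {y : Y}
    (hy : y ∈ QQ cs h X r) (hyE : y ∉ E) :
    ∃ s ∈ S, ∃ x ∈ X s, x ≠ 1 ∧ ∃ y' ∈ RGD.Sup X (S \ {s}) ⊔ E, y = x * y' := by
  classical
  have hfin : S.Finite := (RGD.finite_roots (cs := cs) (h := h)).subset fun a ha => (hSG ha).1
  have h1 : (⨆ i ∈ hfin.toFinset, (fun i => if i ∈ S then X i else ⊥) i) ⊔ E = QQ cs h X r := by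
    apply le_antisymm
    · refine sup_le (iSup₂_le fun i hi => ?_) hE
      rw [Set.Finite.mem_toFinset] at hi
      show (if i ∈ S then X i else ⊥) ≤ _
      rw [if_pos hi]
      exact H.X_le (hSG hi)
    · refine RGD.Sup_le fun s hs => ?_
      by_cases hsr : s = r
      · subst hsr; exact le_trans hrE le_sup_right
      by_cases hsS : s ∈ S
      · refine le_trans (le_trans ?_ (le_iSup₂ (f := fun i (_ : i ∈ hfin.toFinset) =>
          (fun i => if i ∈ S then X i else ⊥) i) s ((Set.Finite.mem_toFinset _).2 hsS))) le_sup_left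
        show _ ≤ (if s ∈ S then X s else ⊥)
        rw [if_pos hsS]
      · exact le_trans (hS s hs hsr hsS) le_sup_right
  obtain ⟨s, hs, x, hx, hx1, y', hy', e⟩ := exists_component (Q := QQ cs h X r) (Z := E)
    (fun a ha b hb => hrE (H.comm_mem ha hb)) hE (fun i => if i ∈ S then X i else ⊥) (fun i => by
      show (if i ∈ S then X i else ⊥) ≤ _
      split_ifs with hi
      · exact H.X_le (hSG hi)
      · exact bot_le) hfin.toFinset (by rw [h1]; exact hy) hyE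
  have hsS : s ∈ S := (Set.Finite.mem_toFinset _).1 hs
  refine ⟨s, hsS, x, ?_, hx1, y', ?_, e⟩
  · have h2 : x ∈ (if s ∈ S then X s else ⊥) := hx
    rwa [if_pos hsS] at h2
  · refine sup_le_sup_right (iSup₂_le fun i hi => ?_) E hy'
    rw [Finset.mem_erase, Set.Finite.mem_toFinset] at hi
    show (if i ∈ S then X i else ⊥) ≤ _
    rw [if_pos hi.2]
    exact RGD.le_Sup (S := S \ {s}) ⟨hi.2, hi.1⟩

theorem surj {y : Y} (hy : y ∈ QQ cs h X r) (hyr : y ∉ X r) {w : Y} (hw : w ∈ X r) :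
    ∃ g ∈ QQ cs h X r, ⁅y, g⁆ = w := by
  obtain ⟨s, hs, x, hx, hx1, y', hy', rfl⟩ := H.exists_comp (E := X r) le_rfl H.X_le_QQ
    (S := Gt cs h r \ {r}) (fun s hs hsr hsS => absurd ⟨hs, hsr⟩ hsS) Set.sdiff_subset hy hyr
  obtain ⟨hsG, hsr⟩ := hs
  have hsr : s ≠ r := hsr
  obtain ⟨v, hv, hvw⟩ := H.sur s hsG hsr x hx hx1 w hw
  have hr' := H.sub s hsG hsr
  have hne : r - s ≠ r := by
    intro h1
    exact hsG.1.ne_zero (by simpa using h1)
  refine ⟨v, H.X_le hr' hv, ?_⟩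
  have h1 : RGD.Sup X ((Gt cs h r \ {r}) \ {s}) ⊔ X r ≤ Subgroup.centralizer ({v} : Set Y) := by
    refine sup_le (RGD.Sup_le ?_) ?_
    · rintro t ⟨⟨ht, htr⟩, hts⟩ u hu
      have htr : t ≠ r := htr
      have hts : t ≠ s := hts
      rw [Subgroup.mem_centralizer_iff]
      rintro _ rfl
      refine (H.com t ht (r - s) hr' htr hne ?_ u hu _ hv).symm
      intro h2
      apply hts
      have : t = t + (r - s) - (r - s) := by abel
      rw [this, h2]; abel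
    · intro u hu
      rw [Subgroup.mem_centralizer_iff]
      rintro _ rfl
      exact (H.comm_r hu hr' hv).symm
  have h2 : v * y' = y' * v := Subgroup.mem_centralizer_iff.1 (h1 hy') v rfl
  rw [← hvw]
  simp only [commutatorElement_def]
  have h3 : x * y' * v * (x * y')⁻¹ * v⁻¹ = x * (y' * v) * y'⁻¹ * x⁻¹ * v⁻¹ := by group
  rw [h3, ← h2]; group

/-- **The bound** -/
theorem card_le [Finite Y] {D : Subgroup Y} (hD : D ≤ QQ cs h X r) (hDr : D ⊓ X r = ⊥) :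
    Nat.card D * (Nat.card D * Nat.card (X r)) ≤ Nat.card (QQ cs h X r) :=
  HeisBound.heis_bound H.X_le_QQ (fun _ hz _ hg => H.central hz hg) (fun _ ha _ hb => H.comm_mem ha hb)
    (X_ne_bot R H.L.root) (fun _ hy hyr _ hw => H.surj hy hyr hw) hD hDr

end Hs

/-- **The simply laced case.** -/
theorem Hs.of_SL [Finite W] (R : RGD cs h p T n X) (hs : SL cs h) {r b : I → ℤ} (hr : IsRoot cs h r)
    (hb : IsRoot cs h b) (hrb : cpr cs h r b = 1) : Hs R r := by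
  have hone : ∀ s ∈ Gt cs h r, s ≠ r → cpr cs h s r = 1 := by
    intro s hs' hsr
    have h1 := hs'.2
    have h2 : s ≠ -r := by
      rintro rfl
      rw [cpr_neg_left _ hr, cpr_self cs h hr] at h1
      omega
    have h3 := hs.abs_le hs'.1 hr hsr h2
    omega
  have hA : ∀ s ∈ Gt cs h r, s ≠ r → A2 cs h s (r - s) := by
    intro s hs' hsr
    have h1 := hone s hs' hsr
    have h2 : cpr cs h r s = 1 := by rw [hs r s hr hs'.1]; exact h1
    refine hs.a2 hs'.1 (isRoot_sub hr hs'.1 h2) ?_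
    rw [hs s _ hs'.1 (isRoot_sub hr hs'.1 h2), sub_eq_add_neg, cpr_add cs h _ _ hs'.1, cpr_neg cs h _ hs'.1,
      cpr_self cs h hs'.1, h2]
    norm_num
  refine ⟨LR.of_SL R hs hr hb hrb, ?_, ?_, ?_, ?_⟩
  · intro s hs' hsr
    refine ⟨(hA s hs' hsr).ry, ?_⟩
    rw [sub_eq_add_neg, cpr_add cs h _ _ hr, cpr_neg cs h _ hr, cpr_self cs h hr, hone s hs' hsr]
    norm_num
  · intro s hs' t ht hsr htr hst u hu v hv
    by_cases hst' : s = t
    · subst hst'
      have hA' := hA s hs' hsr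
      have h1 : LR R s := LR.of_SL R hs hs'.1 hr (hone s hs' hsr)
      exact h1.comm s hs'.1 (by rw [cpr_self cs h hs'.1]; norm_num) u hu v hv
    refine comm_of_not_btwn R hs'.1 ht.1 hst' ?_ (hs.not_btwn hs'.1 ht.1 hst' ?_) hu hv
    · rintro rfl
      have h1 := hs'.2
      have h2 := ht.2
      rw [cpr_neg_left _ hr] at h1
      omega
    · by_contra hcon
      push Not at hcon
      have hne : s ≠ -t := by
        rintro rfl
        have h1 := hs'.2
        have h2 := ht.2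
        rw [cpr_neg_left _ hr] at h1
        omega
      have h3 := hs.abs_le hs'.1 ht.1 hst' hne
      have h4 : cpr cs h s t = -1 := by omega
      have h5 := isRoot_add hs'.1 ht.1 h4
      have h6 : cpr cs h (s + t) r = 2 := by
        rw [cpr_add cs h _ _ hr, hone s hs' hsr, hone t ht htr]; norm_num
      exact hst (hs.eq_of_cpr h5 hr h6.ge)
  · intro s hs' hsr u hu v hv
    have h1 := (hA s hs' hsr).comm_mem R hu hv
    rwa [add_sub_cancel] at h1
  · intro s hs' hsr u hu hu1 w hw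
    refine (hA s hs' hsr).comm_surj R hu hu1 ?_
    rwa [add_sub_cancel]

end Cfsg.Agent.H400.TwoExc
end

-- part: H400/TwoExcIndex
section
/-!
# The number of conjugates of a long root group (hub H1, exceptional families), helper400

`index_Ge` : `|Y : P_r| = ∑_{s ∈ W r} ∏_{t > 0, ⟨t, s^∨⟩ < 0} |X t|` for a dominant root `r` with `LR R r`,
`P_r = PS T X (Ge r)` the normaliser of `X r`.
-/

set_option autoImplicit false
set_option linter.unusedSectionVars false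

namespace Cfsg.Agent.H400.TwoExc

open CoxeterSystem Cfsg.Agent.ChevalleyStructure.CoxeterGeom Cfsg.Agent.Tits.Roots Cfsg.Agent.Tits.Core
  Cfsg.Agent.Tits.Exchange Cfsg.Agent.Nodes.Reps Cfsg.Agent.Nodes.BNOf Cfsg.Agent.Nodes.StabComb
  Cfsg.Agent.Nodes.Bruhat Cfsg.Agent.Nodes.OppDec Cfsg.Agent.Nodes.PosPair Cfsg.Agent.Nodes.Coroot
  Cfsg.Agent.KFacts.RgdPar Cfsg.Agent.KFacts.RgdSL Cfsg.Agent.KFacts.RgdTI Cfsg.Agent.Nodes.LeviDec
open scoped commutatorElement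

variable {I W Y : Type*} [Fintype I] [DecidableEq I] [Group W] [Group Y] {M : CoxeterMatrix I}
  {cs : CoxeterSystem M W} {A : I → I → ℤ} {h : IsCartan M A} {p : ℕ} {T : Subgroup Y} {n : I → Y}
  {X : (I → ℤ) → Subgroup Y}

section Cells

variable (R : RGD cs h p T n X)

include R

theorem cell_mul_simple {w : W} {g : Y} (hg : Cell R.nsys cs h X w g) (i : I) :
    Cell R.nsys cs h X (w * cs.simple i) (g * n i) ∨ Cell R.nsys cs h X w (g * n i) := by
  have h1 : Cell R.nsys cs h X (cs.simple i) (n i)⁻¹ := by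
    have := (cell_of_rp (cs := cs) (h := h) (X := X) (rp_simple cs R.nsys i)).inv
    rwa [cs.inv_simple] at this
  rcases Cell.simple_mul R h1 hg.inv with h2 | ⟨-, h2⟩
  · left
    have := h2.inv
    rwa [mul_inv_rev, inv_inv, cs.inv_simple, mul_inv_rev, inv_inv, inv_inv] at this
  · right
    have := h2.inv
    rwa [inv_inv, mul_inv_rev, inv_inv, inv_inv] at this

theorem cell_mul_word {J : Set I} : ∀ (ω : List I), (∀ i ∈ ω, i ∈ J) → ∀ {w : W} {g k : Y},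
    Cell R.nsys cs h X w g → Rp cs R.nsys (cs.wordProd ω) k → ∃ v ∈ WJ cs J, Cell R.nsys cs h X (w * v) (g * k) := by
  intro ω
  induction ω with
  | nil =>
    intro _ w g k hg hk
    rw [wordProd_nil] at hk
    refine ⟨1, one_mem _, ?_⟩
    rw [mul_one]
    exact hg.mul_right (RGD.T_le_B hk.mem_of_one)
  | cons i ω ih =>
    intro hJ w g k hg hk
    have hk' : Rp cs R.nsys (cs.wordProd ω) ((n i)⁻¹ * k) := by
      have := (rp_simple cs R.nsys i).inv.mul hk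
      rwa [wordProd_cons, cs.inv_simple, cs.simple_mul_simple_cancel_left] at this
    have e : g * k = g * n i * ((n i)⁻¹ * k) := by group
    rw [e]
    rcases cell_mul_simple R hg i with h1 | h1
    · obtain ⟨v, hv, hc⟩ := ih (fun j hj => hJ j (List.mem_cons_of_mem _ hj)) h1 hk'
      refine ⟨cs.simple i * v, mul_mem (simple_mem_WJ cs (hJ i List.mem_cons_self)) hv, ?_⟩
      rwa [← mul_assoc]
    · exact ih (fun j hj => hJ j (List.mem_cons_of_mem _ hj)) h1 hk'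

theorem cell_mul_PJ [Finite W] {J : Set I} {w : W} {g x : Y} (hg : Cell R.nsys cs h X w g)
    (hx : x ∈ PJ cs h T X J) : ∃ v ∈ WJ cs J, Cell R.nsys cs h X (w * v) (g * x) := by
  obtain ⟨w', hw', b₁, hb₁, k, hk, b₂, hb₂, rfl⟩ := (mem_PJ_iff_cell R).1 hx
  obtain ⟨ω, hω, rfl⟩ := exists_word_of_mem_WJ cs hw'
  obtain ⟨v, hv, hc⟩ := cell_mul_word R ω hω (hg.mul_right hb₁) hk
  refine ⟨v, hv, ?_⟩
  have e : g * (b₁ * k * b₂) = g * b₁ * k * b₂ := by group
  rw [e]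
  exact hc.mul_right hb₂

end Cells

section Card

variable (R : RGD cs h p T n X) [Finite W]

include R

theorem mem_PS {S : Set (I → ℤ)} (hS : ∀ x ∈ S, IsRoot cs h x) {g : Y} :
    g ∈ PS T X S ↔ ∃ t ∈ T, ∃ u ∈ RGD.Sup X S, g = t * u := by
  have hT : T ≤ Subgroup.normalizer (RGD.Sup X S : Set Y) := R.T_le_normalizer hS
  unfold PS
  rw [← SetLike.mem_coe, Subgroup.coe_mul_of_left_le_normalizer_right _ _ hT, Set.mem_mul]
  constructor
  · rintro ⟨t, ht, u, hu, e⟩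
    exact ⟨t, ht, u, hu, e.symm⟩
  · rintro ⟨t, ht, u, hu, e⟩
    exact ⟨t, ht, u, hu, e.symm⟩

theorem card_PS {S : Finset (I → ℤ)} (hS : (S : Set (I → ℤ)) ⊆ RGD.Pos cs h)
    (hc : Nodes.Unique.Closed cs h (S : Set (I → ℤ))) :
    Nat.card (PS T X (S : Set (I → ℤ))) = Nat.card T * ∏ x ∈ S, Nat.card (X x) := by
  rw [← Nodes.CardSup.card_sup R hS hc]
  refine Nodes.CardSup.card_mul_of_disjoint T_le_PS Sup_le_PS
    (fun g hg => (mem_PS R (fun x hx => (hS hx).1)).1 hg) ?_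
  rw [inf_comm, eq_bot_iff, ← U_inf_T R]
  exact inf_le_inf_right _ (RGD.Sup_mono hS)

end Card

theorem card_mul_relIndex {G : Type*} [Group G] {H K : Subgroup G} (hHK : H ≤ K) :
    Nat.card H * H.relIndex K = Nat.card K := by
  rw [← Subgroup.relIndex_bot_left, ← Subgroup.relIndex_bot_left, Subgroup.relIndex_mul_relIndex _ _ _ bot_le hHK]

section Main

variable {R : RGD cs h p T n X} [Finite W]

theorem B_eq_PS : RGD.B cs h T X = PS T X (RGD.Pos cs h) := rfl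

theorem half_ht : PS T X (Half cs h (AddMonoidHom.mk' ht RGD.ht_add)) = RGD.B cs h T X := by
  rw [B_eq_PS]
  congr 1
  ext x
  constructor
  · rintro ⟨hx, h0⟩
    refine ⟨hx, ?_⟩
    by_contra h1
    have h2 : 0 ≤ -x := by
      rcases hx.pos_or_neg with h3 | h3
      · exact absurd h3 h1
      · exact neg_nonneg.2 h3
    have h3 := RGD.ht_pos hx.neg h2
    have h4 : (AddMonoidHom.mk' ht RGD.ht_add) (-x) = -(AddMonoidHom.mk' ht RGD.ht_add) x := map_neg _ _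
    have h5 : ht (-x) = - ht x := h4
    have h6 : 0 ≤ ht x := h0
    omega
  · rintro ⟨hx, h0⟩
    exact ⟨hx, (RGD.ht_pos hx h0).le⟩

/-- the intersection of `B` with the parabolic subgroup of the root `s` -/
theorem B_inf_Ge (hG : GG cs h T X = ⊤) {s : I → ℤ} (L : LR R s) :
    RGD.B cs h T X ⊓ PS T X (Ge cs h s) = PS T X {t | t ∈ RGD.Pos cs h ∧ 0 ≤ cpr cs h t s} := by
  apply le_antisymm
  · rintro g ⟨h1, h2⟩
    rw [SetLike.mem_coe, ← half_ht] at h1
    have h3 := (inter R [AddMonoidHom.mk' ht RGD.ht_add, ell cs h L.root] (g := g) (by rw [hG]; trivial) (by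
      intro f hf
      rw [List.mem_cons, List.mem_singleton] at hf
      rcases hf with rfl | rfl
      · exact h1
      · exact h2)).1
    refine PS_mono ?_ h3
    rintro x ⟨hx, h4⟩
    have h5 := h4 (AddMonoidHom.mk' ht RGD.ht_add) List.mem_cons_self
    have h6 := h4 (ell cs h L.root) (List.mem_cons_of_mem _ List.mem_cons_self)
    refine ⟨⟨hx, ?_⟩, h6⟩
    by_contra h1
    have h2 : 0 ≤ -x := by
      rcases hx.pos_or_neg with h3 | h3
      · exact absurd h3 h1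
      · exact neg_nonneg.2 h3
    have h3 := RGD.ht_pos hx.neg h2
    have h7 : (AddMonoidHom.mk' ht RGD.ht_add) (-x) = -(AddMonoidHom.mk' ht RGD.ht_add) x := map_neg _ _
    have h8 : ht (-x) = - ht x := h7
    have h9 : 0 ≤ ht x := h5
    omega
  · refine le_inf ?_ ?_
    · rw [B_eq_PS]; exact PS_mono fun x hx => hx.1
    · exact PS_mono fun x hx => ⟨hx.1.1, hx.2⟩

theorem cpr_nonneg_comm {x y : I → ℤ} (hx : IsRoot cs h x) (hy : IsRoot cs h y) (h0 : 0 ≤ cpr cs h x y) :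
    0 ≤ cpr cs h y x := by
  have := Fintype.ofFinite W
  rcases h0.lt_or_eq with h1 | h1
  · have h2 := (cpr_pos_iff cs h x hy).1 h1
    rw [form_comm] at h2
    exact ((cpr_pos_iff cs h y hx).2 h2).le
  · exact ((cpr_zero_comm cs h hx hy).1 h1.symm).ge

theorem dom_of {r : I → ℤ} (hr : IsRoot cs h r) (hd : ∀ i, 0 ≤ cpr cs h (sr i) r) : Dom A r := by
  intro i
  rw [← cpr_sr cs h]
  exact cpr_nonneg_comm (isRoot_sr cs h i) hr (hd i)

theorem stab_eq_WJ {r : I → ℤ} (L : LR R r) (hd : ∀ i, 0 ≤ cpr cs h (sr i) r) {v : W} :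
    rep cs h v r = r ↔ v ∈ WJ cs {i | cpr cs h (sr i) r = 0} := by
  have h1 : {i | cpr cs h (sr i) r = 0} = orth cs h r := by
    ext i
    show cpr cs h (sr i) r = 0 ↔ rep cs h (cs.simple i) r = r
    rw [L.rep_eq_iff]
  rw [h1]
  exact ⟨mem_WJ_of_rep (dom_of L.root hd), rep_of_mem_WJ_orth⟩

theorem finite_pos : (RGD.Pos cs h).Finite := (RGD.finite_roots (cs := cs) (h := h)).subset fun _ hx => hx.1

theorem index_Ge [Finite Y] (hG : GG cs h T X = ⊤) {r : I → ℤ} (L : LR R r) (hd : ∀ i, 0 ≤ cpr cs h (sr i) r)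
    (O : Finset (I → ℤ)) (hO : ∀ s, s ∈ O ↔ ∃ w : W, rep cs h w r = s) (PF : Finset (I → ℤ))
    (hPF : ∀ t, t ∈ PF ↔ t ∈ RGD.Pos cs h) :
    (PS T X (Ge cs h r)).index =
      ∑ s ∈ O, ∏ t ∈ PF.filter (fun t => cpr cs h t s < 0), Nat.card (X t) := by
  classical
  have hw : ∀ s : O, ∃ w : W, rep cs h w r = s.1 := fun s => (hO _).1 s.2
  choose w hw using hw
  have hk : ∀ s : O, ∃ k, Rp cs R.nsys (w s) k := fun s => exists_rp cs R.nsys (w s)
  choose k hk using hk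
  set P := PS T X (Ge cs h r) with hP
  have hPJ : P = PJ cs h T X {i | cpr cs h (sr i) r = 0} := half_eq L.root hd
  have hcj : ∀ s : O, cj (k s) P = PS T X (Ge cs h s.1) := by
    intro s
    rw [hP, L.cj_Ge (hk s), hw s]
  -- orbits of `B` on the cosets
  let x : O → Y ⧸ P := fun s => (k s : Y ⧸ P)
  have hmk : ∀ (g : Y) (s : O), g • x s = ((g * k s : Y) : Y ⧸ P) := fun g s => rfl
  have hstab : ∀ s : O, MulAction.stabilizer (RGD.B cs h T X) (x s) =
      (PS T X (Ge cs h s.1)).subgroupOf (RGD.B cs h T X) := by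
    intro s
    ext b
    rw [MulAction.mem_stabilizer_iff, Subgroup.mem_subgroupOf, ← hcj s, mem_cj]
    have h1 : b • x s = (((b : Y) * k s : Y) : Y ⧸ P) := rfl
    rw [h1]
    show (((b : Y) * k s : Y) : Y ⧸ P) = ((k s : Y) : Y ⧸ P) ↔ _
    rw [eq_comm, QuotientGroup.eq, ← mul_assoc]
  -- the map from the union of the orbits
  have hdis : ∀ s s' : O, ∀ b ∈ RGD.B cs h T X, ∀ b' ∈ RGD.B cs h T X, b • x s = b' • x s' → s = s' := by
    intro s s' b hb b' hb' e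
    rw [hmk, hmk, QuotientGroup.eq, hPJ] at e
    have h1 : Cell R.nsys cs h X (w s) (b * k s) := (cell_of_rp (hk s)).mul_left hb
    have h2 : Cell R.nsys cs h X (w s') (b' * k s') := (cell_of_rp (hk s')).mul_left hb'
    obtain ⟨v, hv, hc⟩ := cell_mul_PJ R h1 e
    rw [mul_inv_cancel_left] at hc
    have h3 := Cell.unique R h2 hc
    apply Subtype.ext
    rw [← hw s', h3, rep_mul_apply, (stab_eq_WJ L hd).2 hv, hw s]
  let f : (Σ s : O, ↥(MulAction.orbit (RGD.B cs h T X) (x s))) → Y ⧸ P := fun q => q.2.1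
  have hf : Function.Bijective f := by
    constructor
    · rintro ⟨s, ⟨y, hy⟩⟩ ⟨s', ⟨y', hy'⟩⟩ e
      have e' : y = y' := e
      subst e'
      obtain ⟨b, hb⟩ := hy
      obtain ⟨b', hb'⟩ := hy'
      have h1 : s = s' := hdis s s' b b.2 b' b'.2 (by
        show (b : Y) • x s = (b' : Y) • x s'
        exact hb.trans hb'.symm)
      subst h1
      rfl
    · intro y
      obtain ⟨g, rfl⟩ := QuotientGroup.mk_surjective y
      have hgG : g ∈ GG cs h T X := by rw [hG]; trivial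
      obtain ⟨v, b₁, hb₁, l, hl, b₂, hb₂, rfl⟩ := (mem_GG R).1 hgG
      have hs : rep cs h v r ∈ O := (hO _).2 ⟨v, rfl⟩
      refine ⟨⟨⟨_, hs⟩, ⟨b₁ • x ⟨_, hs⟩, ⟨⟨b₁, hb₁⟩, rfl⟩⟩⟩, ?_⟩
      show b₁ • x ⟨_, hs⟩ = _
      rw [hmk, QuotientGroup.eq]
      have h1 : (k ⟨_, hs⟩)⁻¹ * l ∈ P := by
        have h2 := (hk ⟨_, hs⟩).inv.mul hl
        have h3 : rep cs h ((w ⟨_, hs⟩)⁻¹ * v) r = r := by
          rw [rep_mul_apply]
          have h5 : rep cs h (w ⟨_, hs⟩)⁻¹ (rep cs h (w ⟨_, hs⟩) r) = r := rep_inv_apply cs h (w ⟨_, hs⟩) r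
          rwa [hw ⟨_, hs⟩] at h5
        rw [hPJ]
        have h4 : Cell R.nsys cs h X ((w ⟨_, hs⟩)⁻¹ * v) ((k ⟨_, hs⟩)⁻¹ * l) := cell_of_rp h2
        exact (cell_mem_PJ_iff R h4).2 ((stab_eq_WJ L hd).1 h3)
      have h2 : b₂ ∈ P := B_le_Ge L.root hd hb₂
      have h3 : (b₁ * k ⟨_, hs⟩)⁻¹ * (b₁ * l * b₂) = (k ⟨_, hs⟩)⁻¹ * l * b₂ := by group
      rw [h3]
      exact mul_mem h1 h2
  rw [Subgroup.index, ← Nat.card_congr (Equiv.ofBijective f hf), Nat.card_sigma, ← Finset.sum_coe_sort O]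
  refine Finset.sum_congr rfl fun s _ => ?_
  have h1 : Nat.card ↥(MulAction.orbit (RGD.B cs h T X) (x s)) = (PS T X (Ge cs h s.1)).relIndex (RGD.B cs h T X) := by
    rw [Subgroup.relIndex, ← hstab s, MulAction.index_stabilizer]
    rfl
  rw [h1, ← Subgroup.inf_relIndex_left]
  have hLs : LR R s.1 := by rw [← hw s]; exact L.act _
  have h2 := card_mul_relIndex (inf_le_left : RGD.B cs h T X ⊓ PS T X (Ge cs h s.1) ≤ RGD.B cs h T X)
  have h3 : ((PF : Finset (I → ℤ)) : Set (I → ℤ)) = RGD.Pos cs h := by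
    ext t; exact hPF t
  have h4 : ((PF.filter (fun t => 0 ≤ cpr cs h t s.1) : Finset (I → ℤ)) : Set (I → ℤ)) =
      {t | t ∈ RGD.Pos cs h ∧ 0 ≤ cpr cs h t s.1} := by
    ext t
    rw [Finset.mem_coe, Finset.mem_filter, hPF]
    rfl
  have h5 : Nat.card (RGD.B cs h T X) = Nat.card T * ∏ t ∈ PF, Nat.card (X t) := by
    rw [B_eq_PS, ← h3]
    exact card_PS R (by rw [h3]) (by rw [h3]; exact Nodes.Unique.closed_pos)
  have h6 : Nat.card ↥(RGD.B cs h T X ⊓ PS T X (Ge cs h s.1)) =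
      Nat.card T * ∏ t ∈ PF.filter (fun t => 0 ≤ cpr cs h t s.1), Nat.card (X t) := by
    rw [B_inf_Ge hG hLs, ← h4]
    refine card_PS R (by rw [h4]; exact fun t ht => ht.1) ?_
    rw [h4]
    rintro a ⟨ha, ha'⟩ b ⟨hb, hb'⟩ c hc
    refine ⟨Nodes.Unique.closed_pos a ha b hb c hc, ?_⟩
    obtain ⟨hc, m, i, j, hm, hi, hj, he⟩ := hc
    have h7 : m * cpr cs h c s.1 = i * cpr cs h a s.1 + j * cpr cs h b s.1 := by
      rw [← cpr_smul cs h _ _ hLs.root, ← cpr_smul cs h _ _ hLs.root, ← cpr_smul cs h _ _ hLs.root,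
        ← cpr_add cs h _ _ hLs.root, he]
    have h8 : 0 ≤ m * cpr cs h c s.1 := by rw [h7]; (clear * - ha' hb' hi hj; positivity)
    exact nonneg_of_mul_nonneg_right h8 hm
  rw [Subgroup.inf_relIndex_left] at h2 ⊢
  rw [h5, h6, ← Finset.prod_filter_mul_prod_filter_not PF (fun t => 0 ≤ cpr cs h t s.1), ← mul_assoc] at h2
  have h7 : 0 < Nat.card T * ∏ t ∈ PF.filter (fun t => 0 ≤ cpr cs h t s.1), Nat.card (X t) :=
    Nat.mul_pos Nat.card_pos (Finset.prod_pos fun t _ => Nat.card_pos)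
  rw [Nat.eq_of_mul_eq_mul_left h7 h2]
  refine Finset.prod_congr ?_ fun _ _ => rfl
  ext t
  simp only [Finset.mem_filter, not_le]

end Main

end Cfsg.Agent.H400.TwoExc
end

private theorem dce_e7b03dc13ace : _root_.True := by
  try have : _root_.True := by simp only [_root_.Cfsg.Agent.H400.TwoExc.QQ.congr_simp]
  exact _root_.True.intro
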