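import Mathlib
import Cfsg.Agent.H400.TwoExcIndex
import Cfsg.Agent.Nodes.KindChev
import Cfsg.Agent.Lib.FinFast
import Cfsg.Agent.H353.TwoLong_m3
import Cfsg.Agent.KFacts.RgdCent
import Cfsg.Agent.Nodes.NormalForm
import Cfsg.Agent.KFacts.RgdRigid
import Cfsg.Agent.Nodes.RGDLib
import Cfsg.Agent.FastGrp
import Cfsg.Agent.Prune
set_option linter.all false

section
prune_inst 0x7ffefefaafb9bddfffff7ffffffbdffc39d0dfffe6fffd437fe9ebff5bbf176d2fe7ffbf8df4d0ffdfd7e2bc10ba7853fb7eefffea6bdc7ffffd5ff45ffbee1ff7ffbf8d71f7bc341ffe6ffffbf37fffffffffffffffffffffffffffffffffffffffffffffff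

-- part: H400/TwoExcTab
section
prune_inst 0x10105500642200000000000002003c20f0000000000b800000400a0002090c008004060022200000001408100800000811000000420000000a00000040040000000200008008a000000000000000000000000000000000000000000000000000000000000
set_option linter.all false
open scoped Cfsg.Agent.FastGrp

/-!
# Tables of positive roots and the number of long root subgroups (hub H1, exceptional families), helper400

* `PR A L` : the list `L` is the list of positive roots of the Cartan matrix `A`;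
* `PR.mem_iff` : `x ∈ L ↔ x` is a positive root;
* `orbit_iff` : the orbit of the dominant root `r` consists of the roots of the same norm;
* `index_tab` : `|Y : P_r|` as an explicit polynomial in `q`.
-/

set_option autoImplicit false
set_option linter.unusedSectionVars false

namespace Cfsg.Agent.H400.TwoExc

open CoxeterSystem Cfsg.Agent.ChevalleyStructure.CoxeterGeom Cfsg.Agent.Tits.Roots Cfsg.Agent.Tits.Core
  Cfsg.Agent.Tits.Exchange Cfsg.Agent.Nodes.Reps Cfsg.Agent.Nodes.BNOf Cfsg.Agent.Nodes.StabComb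
  Cfsg.Agent.Nodes.Bruhat Cfsg.Agent.Nodes.OppDec Cfsg.Agent.Nodes.PosPair Cfsg.Agent.Nodes.Coroot
  Cfsg.Agent.KFacts.RgdPar Cfsg.Agent.KFacts.RgdSL Cfsg.Agent.KFacts.RgdTI Cfsg.Agent.Nodes.LeviDec
  Cfsg.Agent.Nodes.KindChev

/-- `L` is the list of the positive roots of `A` -/
structure PR {l : ℕ} (A : Fin l → Fin l → ℤ) (L : List (Fin l → ℤ)) : Prop where
  nodup : L.Nodup
  simple_mem : ∀ i, sr i ∈ L
  pos : ∀ v ∈ L, 0 ≤ v
  ne : (0 : Fin l → ℤ) ∉ L
  perm : ∀ i, ∀ v ∈ L, v ≠ sr i → refl A i v ∈ L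
  desc : ∀ v ∈ L, ∃ i, 0 < pairing A i v

variable {l : ℕ} {W Y : Type*} [Group W] [Group Y] {M : CoxeterMatrix (Fin l)}
  {cs : CoxeterSystem M W} {A : Fin l → Fin l → ℤ} {h : IsCartan M A} {p : ℕ} {T : Subgroup Y} {n : Fin l → Y}
  {X : (Fin l → ℤ) → Subgroup Y}

namespace PR

variable {L : List (Fin l → ℤ)} (H : PR A L)

include H

theorem not_both {v : Fin l → ℤ} (h1 : v ∈ L) (h2 : -v ∈ L) : False := by
  have h3 := H.pos v h1
  have h4 := H.pos _ h2
  have h5 : v = 0 := le_antisymm (neg_nonneg.1 h4) h3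
  exact H.ne (h5 ▸ h1)

include cs h in
theorem refl_mem (i : Fin l) {v : Fin l → ℤ} (hv : v ∈ L ∨ -v ∈ L) : refl A i v ∈ L ∨ -(refl A i v) ∈ L := by
  have hs : refl A i (sr i) = -sr i := by rw [← rep_simple cs h]; exact rep_simple_sr cs h i
  rcases hv with h1 | h1
  · by_cases h2 : v = sr i
    · right; rw [h2, hs, neg_neg]; exact H.simple_mem i
    · left; exact H.perm i v h1 h2
  · by_cases h2 : -v = sr i
    · left
      have h3 : v = -sr i := by rw [← h2, neg_neg]
      rw [h3, map_neg, hs, neg_neg]; exact H.simple_mem i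
    · right
      rw [← map_neg]; exact H.perm i _ h1 h2

theorem mem_of_root {x : Fin l → ℤ} (hx : IsRoot cs h x) : x ∈ L ∨ -x ∈ L := by
  obtain ⟨w, i, rfl⟩ := hx
  refine cs.simple_induction_left (p := fun w => rep cs h w (sr i) ∈ L ∨ -(rep cs h w (sr i)) ∈ L) w ?_ ?_
  · left
    rw [map_one, Module.End.one_apply]; exact H.simple_mem i
  · intro w j ih
    rw [rep_mul_apply, rep_simple]
    exact H.refl_mem (cs := cs) (h := h) j ih

theorem mem_of_pos {x : Fin l → ℤ} (hx : x ∈ RGD.Pos cs h) : x ∈ L := by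
  rcases H.mem_of_root hx.1 with h1 | h1
  · exact h1
  · exfalso
    have h2 := H.pos _ h1
    have h3 : x = 0 := le_antisymm (neg_nonneg.1 h2) hx.2
    exact hx.1.ne_zero h3

theorem isRoot {v : Fin l → ℤ} (hv : v ∈ L) : IsRoot cs h v := by
  have key : ∀ N : ℕ, ∀ v ∈ L, ∑ k, v k ≤ N → IsRoot cs h v := by
    intro N
    induction N with
    | zero =>
      intro v hv hN
      exfalso
      have h1 : ∀ k ∈ Finset.univ, (0 : ℤ) ≤ v k := fun k _ => H.pos v hv k
      have h2 : ∑ k, v k = 0 := le_antisymm (by exact_mod_cast hN) (Finset.sum_nonneg h1)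
      have h3 := (Finset.sum_eq_zero_iff_of_nonneg h1).1 h2
      have h4 : v = 0 := funext fun k => h3 k (Finset.mem_univ k)
      exact H.ne (h4 ▸ hv)
    | succ N ih =>
      intro v hv hN
      obtain ⟨j, hj⟩ := H.desc v hv
      by_cases hs : v = sr j
      · rw [hs]; exact isRoot_sr cs h j
      · have h2 := H.perm j v hv hs
        have h3 : refl A j v = v - pairing A j v • sr j := by
          rw [← rep_simple cs h, rep_simple_eq]
        have h4 : ∑ k, refl A j v k = ∑ k, v k - pairing A j v := by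
          rw [h3]
          simp only [Pi.sub_apply, Pi.smul_apply, smul_eq_mul, Finset.sum_sub_distrib, ← Finset.mul_sum]
          have h5 : ∑ k, (sr j : Fin l → ℤ) k = 1 := by
            unfold sr
            rw [Finset.sum_pi_single']
            simp
          rw [h5, mul_one]
        have h5 := ih _ h2 (by
          rw [h4]
          push_cast at hN
          omega)
        have h6 := h5.act (cs.simple j)
        have h7 : rep cs h (cs.simple j) (refl A j v) = v := by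
          rw [← rep_simple cs h, ← rep_mul_apply, cs.simple_mul_simple_self, map_one, Module.End.one_apply]
        rw [h7] at h6
        exact h6
  obtain ⟨N, hN⟩ := Int.eq_ofNat_of_zero_le (Finset.sum_nonneg fun k (_ : k ∈ Finset.univ) => H.pos v hv k)
  exact key N v hv (by rw [hN])

theorem mem_iff (x : Fin l → ℤ) : x ∈ L ↔ x ∈ RGD.Pos cs h :=
  ⟨fun hx => ⟨H.isRoot hx, H.pos x hx⟩, fun hx => H.mem_of_pos hx⟩

theorem root_iff (x : Fin l → ℤ) : IsRoot cs h x ↔ x ∈ L ∨ -x ∈ L := by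
  constructor
  · exact H.mem_of_root
  · rintro (h1 | h1)
    · exact H.isRoot h1
    · have := (H.isRoot (cs := cs) (h := h) h1).neg
      rwa [neg_neg] at this

/-- a dominant root is positive -/
theorem dom_mem [Finite W] {v : Fin l → ℤ} (hv : IsRoot cs h v) (hd : ∀ i, 0 ≤ pairing A i v) : v ∈ L := by
  rcases H.mem_of_root hv with h1 | h1
  · exact h1
  · exfalso
    obtain ⟨i, hi⟩ := H.desc _ h1
    have h2 := hd i
    have h3 : pairing A i (-v) = - pairing A i v := by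
      have := pairing_smul A i (-1) v
      rw [neg_one_smul] at this
      rw [this]; ring
    omega

end PR

section Orbit

variable [Finite W] {L : List (Fin l → ℤ)} (H : PR A L) {d : Fin l → ℤ} (hd : ∀ i j, d i * A i j = d j * A j i)

include hd

include H in
theorem orbit_iff {r : Fin l → ℤ} (hdom : ∀ v ∈ L, (∀ i, 0 ≤ pairing A i v) → qf A d v v = qf A d r r → v = r)
    {s : Fin l → ℤ} (hs : IsRoot cs h s) : (∃ w : W, rep cs h w r = s) ↔ qf A d s s = qf A d r r := by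
  constructor
  · rintro ⟨w, rfl⟩
    exact qf_rep cs h hd w r r
  · intro he
    have := Fintype.ofFinite W
    obtain ⟨w, hw⟩ := Cfsg.Agent.Nodes.ClsNorm.exists_dominant (cs := cs) (h := h) s
    have h1 : rep cs h w s = r := by
      refine hdom _ (H.dom_mem (hs.act w) hw) hw ?_
      rw [qf_rep cs h hd, he]
    refine ⟨w⁻¹, ?_⟩
    rw [← h1]
    exact rep_inv_apply cs h w s

/-- the signs of `⟨t, s^∨⟩` -/
theorem cpr_sign {s : Fin l → ℤ} (hs : IsRoot cs h s) (h0 : 0 < qf A d s s) (t : Fin l → ℤ) :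
    (cpr cs h t s < 0 ↔ qf A d t s < 0) ∧ (0 < cpr cs h t s ↔ 0 < qf A d t s) := by
  have h1 := cpr_mul_qf cs h hd t hs
  constructor
  · constructor
    · intro h2
      have : cpr cs h t s * qf A d s s < 0 := mul_neg_of_neg_of_pos h2 h0
      omega
    · intro h2
      by_contra h3
      push Not at h3
      have : 0 ≤ cpr cs h t s * qf A d s s := mul_nonneg h3 h0.le
      omega
  · constructor
    · intro h2
      have : 0 < cpr cs h t s * qf A d s s := mul_pos h2 h0
      omega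
    · intro h2
      by_contra h3
      push Not at h3
      have : cpr cs h t s * qf A d s s ≤ 0 := mul_nonpos_of_nonpos_of_nonneg h3 h0.le
      omega

end Orbit

/-- `∑ e(t)` over the members of a list with a property -/
def cnt {α : Type*} (L : List α) (e : α → ℕ) (P : α → Bool) : ℕ := ((L.filter P).map e).sum

theorem prod_filter_eq {L : List (Fin l → ℤ)} (hn : L.Nodup) {q : ℕ} (e : (Fin l → ℤ) → ℕ)
    (hc : ∀ t ∈ L, Nat.card (X t) = q ^ e t) (P : (Fin l → ℤ) → Prop) [DecidablePred P] :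
    ∏ t ∈ L.toFinset.filter P, Nat.card (X t) = q ^ cnt L e (fun t => decide (P t)) := by
  have h1 : L.toFinset.filter P = (L.filter (fun t => decide (P t))).toFinset := by
    rw [List.toFinset_filter]
    ext t
    simp
  rw [h1, List.prod_toFinset _ (hn.filter _), cnt]
  have h2 : ∀ L' : List (Fin l → ℤ), (∀ t ∈ L', Nat.card (X t) = q ^ e t) →
      (L'.map fun t => Nat.card (X t)).prod = q ^ (L'.map e).sum := by
    intro L' hL'
    induction L' with
    | nil => simp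
    | cons a L' ih =>
      rw [List.map_cons, List.prod_cons, List.map_cons, List.sum_cons, pow_add,
        ih (fun t ht => hL' t (List.mem_cons_of_mem _ ht)), hL' a List.mem_cons_self]
  exact h2 _ fun t ht => hc t (List.mem_of_mem_filter ht)

/-- **The index.** -/
theorem index_tab {R : RGD cs h p T n X} [Finite W] [Finite Y] (hG : GG cs h T X = ⊤) {L : List (Fin l → ℤ)}
    (H : PR A L) {d : Fin l → ℤ} (hd : ∀ i j, d i * A i j = d j * A j i) {r : Fin l → ℤ} (Lr : LR R r)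
    (h0 : 0 < qf A d r r) (hr : ∀ i, 0 ≤ pairing A i r)
    (hdom : ∀ v ∈ L, (∀ i, 0 ≤ pairing A i v) → qf A d v v = qf A d r r → v = r) {q : ℕ} (e : (Fin l → ℤ) → ℕ)
    (hc : ∀ t ∈ L, Nat.card (X t) = q ^ e t) :
    (PS T X (Ge cs h r)).index = ((L.filter fun s => decide (qf A d s s = qf A d r r)).map fun s =>
      q ^ cnt L e (fun t => decide (qf A d t s < 0)) + q ^ cnt L e (fun t => decide (0 < qf A d t s))).sum := by
  classical
  set Lo := L.filter fun s => decide (qf A d s s = qf A d r r) with hLo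
  have hLo' : ∀ s, s ∈ Lo ↔ s ∈ L ∧ qf A d s s = qf A d r r := by
    intro s
    rw [hLo, List.mem_filter, decide_eq_true_iff]
  have hneg : ∀ s : Fin l → ℤ, qf A d (-s) (-s) = qf A d s s := by
    intro s
    have h1 : ∀ x y : Fin l → ℤ, qf A d (-x) y = - qf A d x y := by
      intro x y
      have := qf_smul_left (A := A) (d := d) (-1) x y
      rw [neg_one_smul] at this
      rw [this]; ring
    rw [h1, qf_comm hd, h1, neg_neg]
  have hr' : ∀ i, 0 ≤ cpr cs h (sr i) r := by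
    intro i
    refine cpr_nonneg_comm Lr.root (isRoot_sr cs h i) ?_
    rw [cpr_sr]; exact hr i
  have h1 := index_Ge (R := R) hG Lr hr' (Lo.toFinset ∪ Lo.toFinset.image fun s => -s) (by
    intro s
    rw [Finset.mem_union, Finset.mem_image]
    constructor
    · rintro (h1 | ⟨t, h1, rfl⟩)
      · rw [List.mem_toFinset, hLo'] at h1
        exact (orbit_iff H hd hdom (H.isRoot h1.1)).2 h1.2
      · rw [List.mem_toFinset, hLo'] at h1
        refine (orbit_iff H hd hdom (H.isRoot h1.1).neg).2 ?_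
        rw [hneg, h1.2]
    · rintro ⟨w, rfl⟩
      have h1 := qf_rep cs h hd w r r
      rcases H.mem_of_root (Lr.root.act w) with h2 | h2
      · left
        rw [List.mem_toFinset, hLo']
        exact ⟨h2, h1⟩
      · right
        refine ⟨_, ?_, neg_neg _⟩
        rw [List.mem_toFinset, hLo', hneg]
        exact ⟨h2, h1⟩) L.toFinset (by
    intro t
    rw [List.mem_toFinset, H.mem_iff (cs := cs) (h := h)])
  rw [h1, Finset.sum_union (by
    rw [Finset.disjoint_left]
    intro s hs hs'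
    rw [Finset.mem_image] at hs'
    obtain ⟨t, ht, rfl⟩ := hs'
    rw [List.mem_toFinset, hLo'] at hs ht
    exact H.not_both ht.1 hs.1), Finset.sum_image (fun a _ b _ hab => neg_injective hab),
    ← Finset.sum_add_distrib, List.sum_toFinset _ (H.nodup.filter _)]
  congr 1
  refine List.map_congr_left fun s hs => ?_
  rw [hLo'] at hs
  have hsr : IsRoot cs h s := H.isRoot hs.1
  have h2 := fun t => cpr_sign hd hsr (by rw [hs.2]; exact h0) t
  have e1 : L.toFinset.filter (fun t => cpr cs h t s < 0) = L.toFinset.filter (fun t => qf A d t s < 0) :=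
    Finset.filter_congr fun t _ => (h2 t).1
  have e2 : L.toFinset.filter (fun t => cpr cs h t (-s) < 0) = L.toFinset.filter (fun t => 0 < qf A d t s) := by
    refine Finset.filter_congr fun t _ => ?_
    rw [cpr_neg_right cs h _ hsr, neg_lt_zero]
    exact (h2 t).2
  rw [e1, e2, prod_filter_eq H.nodup e hc, prod_filter_eq H.nodup e hc]

end Cfsg.Agent.H400.TwoExc

private theorem dce_30e6c66be946 : _root_.True := by
  try have : _root_.True := by simp only [_root_.Cfsg.Agent.H400.TwoExc.cnt.eq_1]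
  exact _root_.True.intro
end

-- part: H400/TwoExcFast
section
set_option linter.all false
open scoped Cfsg.Agent.FastGrp

/-!
# Fast evaluation of the tables (hub H1, exceptional families), helper400

A root table is a list `P` of triples `(coefficients, dual row, weight)`; `FT A d e P` says that the dual row of `v` is
`(d i ⟨v, α_i^∨⟩)_i` and the weight is `e v`.
-/

set_option autoImplicit false
set_option linter.unusedSectionVars false

namespace Cfsg.Agent.H400.TwoExc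

open Cfsg.Agent.ChevalleyStructure.CoxeterGeom Cfsg.Agent.Tits.Roots Cfsg.Agent.Nodes.KindChev

/-- scalar product of lists -/
def dotL : List ℤ → List ℤ → ℤ
  | a :: as, b :: bs => a * b + dotL as bs
  | _, _ => 0

/-- the vector of a list -/
def toV {l : ℕ} (a : List ℤ) : Fin l → ℤ := fun i => a.getD i 0

theorem dotL_ofFn {l : ℕ} (f : Fin l → ℤ) (a : List ℤ) (ha : a.length = l) :
    dotL (List.ofFn f) a = ∑ i, f i * (toV a : Fin l → ℤ) i := by
  induction a generalizing l with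
  | nil =>
    subst ha
    simp [dotL]
  | cons b a ih =>
    obtain ⟨l, rfl⟩ : ∃ k, l = k + 1 := ⟨a.length, by rw [← ha]; rfl⟩
    rw [List.ofFn_succ, dotL, ih (fun i => f i.succ) (by simpa using ha), Fin.sum_univ_succ]
    rfl

/-- fast table -/
structure FT {l : ℕ} (A : Fin l → Fin l → ℤ) (d : Fin l → ℤ) (e : (Fin l → ℤ) → ℕ)
    (P : List (List ℤ × List ℤ × ℕ)) : Prop where
  row : ∀ p ∈ P, p.1.length = l ∧ p.2.1 = List.ofFn (fun i => d i * pairing A i (toV p.1)) ∧
    p.2.2 = e (toV p.1)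

variable {l : ℕ} {A : Fin l → Fin l → ℤ} {d : Fin l → ℤ} {e : (Fin l → ℤ) → ℕ} {P : List (List ℤ × List ℤ × ℕ)}

theorem FT.qf_eq (F : FT A d e P) {p p' : List ℤ × List ℤ × ℕ} (hp : p ∈ P) (hp' : p' ∈ P) :
    qf A d (toV p.1) (toV p'.1) = dotL p.2.1 p'.1 := by
  rw [(F.row p hp).2.1, dotL_ofFn _ _ (F.row p' hp').1]
  rfl

/-- weighted count -/
def cntF (P : List (List ℤ × List ℤ × ℕ)) (Q : ℤ → Bool) (a : List ℤ) : ℕ :=
  ((P.filter fun p => Q (dotL p.2.1 a)).map fun p => p.2.2).sum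

theorem FT.cnt_eq (F : FT A d e P) {p' : List ℤ × List ℤ × ℕ} (hp' : p' ∈ P) (Q : ℤ → Bool) :
    cnt (P.map fun p => (toV p.1 : Fin l → ℤ)) e (fun t => Q (qf A d t (toV p'.1))) = cntF P Q p'.1 := by
  unfold cnt cntF
  rw [List.filter_map, List.map_map]
  have h1 : P.filter ((fun t => Q (qf A d t (toV p'.1))) ∘ fun p => (toV p.1 : Fin l → ℤ)) =
      P.filter fun p => Q (dotL p.2.1 p'.1) := by
    refine List.filter_congr fun p hp => ?_
    show Q (qf A d (toV p.1) (toV p'.1)) = _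
    rw [F.qf_eq hp hp']
  rw [h1]
  congr 1
  refine List.map_congr_left fun p hp => ?_
  exact ((F.row p (List.mem_of_mem_filter hp)).2.2).symm

/-- the exponents -/
def expF (P : List (List ℤ × List ℤ × ℕ)) (N : ℤ) : List (ℕ × ℕ) :=
  (P.filter fun p => decide (dotL p.2.1 p.1 = N)).map fun p =>
    (cntF P (fun z => decide (z < 0)) p.1, cntF P (fun z => decide (0 < z)) p.1)

theorem FT.sum_eq (F : FT A d e P) (r : Fin l → ℤ) (q : ℕ) :
    (((P.map fun p => (toV p.1 : Fin l → ℤ)).filter fun s => decide (qf A d s s = qf A d r r)).map fun s =>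
      q ^ cnt (P.map fun p => (toV p.1 : Fin l → ℤ)) e (fun t => decide (qf A d t s < 0)) +
      q ^ cnt (P.map fun p => (toV p.1 : Fin l → ℤ)) e (fun t => decide (0 < qf A d t s))).sum =
    ((expF P (qf A d r r)).map fun z => q ^ z.1 + q ^ z.2).sum := by
  unfold expF
  rw [List.filter_map, List.map_map, List.map_map]
  have h1 : P.filter ((fun s => decide (qf A d s s = qf A d r r)) ∘ fun p => (toV p.1 : Fin l → ℤ)) =
      P.filter fun p => decide (dotL p.2.1 p.1 = qf A d r r) := by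
    refine List.filter_congr fun p hp => ?_
    show decide (qf A d (toV p.1) (toV p.1) = qf A d r r) = _
    rw [F.qf_eq hp hp]
  rw [h1]
  congr 1
  refine List.map_congr_left fun p hp => ?_
  have hp' := List.mem_of_mem_filter hp
  show q ^ cnt _ e (fun t => decide (qf A d t (toV p.1) < 0)) + q ^ cnt _ e (fun t => decide (0 < qf A d t (toV p.1))) =
    q ^ _ + q ^ _
  rw [F.cnt_eq hp' (fun z => decide (z < 0)), F.cnt_eq hp' (fun z => decide (0 < z))]

/-! ### Checking a table -/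

/-- the list of the simple root `i` -/
def sL (l i : ℕ) : List ℤ := (List.range l).map fun j => if j = i then 1 else 0

/-- the image under the simple reflection -/
def rL (l i : ℕ) (c : ℤ) (a : List ℤ) : List ℤ := (List.range l).map fun j => a.getD j 0 - if j = i then c else 0

/-- the check of a table -/
def chkT (l : ℕ) (CA : List (List ℤ)) (dl : List ℤ) (ef : List ℤ → ℕ) (P : List (List ℤ × List ℤ × ℕ)) : Bool :=
  decide (P.map fun p => p.1).Nodup &&
  (List.range l).all (fun i => (P.map fun p => p.1).contains (sL l i)) &&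
  P.all (fun p => p.1.length == l && p.1.all (fun z => decide (0 ≤ z)) &&
    p.2.1 == (List.range l).map (fun i => dl.getD i 0 * dotL (CA.getD i []) p.1) && p.2.2 == ef p.1 &&
    (List.range l).any (fun i => decide (0 < dotL (CA.getD i []) p.1)) &&
    (List.range l).all (fun i => p.1 == sL l i ||
      (P.map fun p => p.1).contains (rL l i (dotL (CA.getD i []) p.1) p.1)))

theorem toV_sL {l : ℕ} (i : Fin l) : (toV (sL l i) : Fin l → ℤ) = sr i := by
  funext j
  unfold toV sL sr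
  rw [List.getD_eq_getElem?_getD, List.getElem?_map, List.getElem?_range j.2, Pi.single_apply]
  simp [Fin.ext_iff]

theorem toV_rL {l : ℕ} (i : Fin l) (c : ℤ) (a : List ℤ) :
    (toV (rL l i c a) : Fin l → ℤ) = toV a - Pi.single i c := by
  funext j
  rw [Pi.sub_apply, Pi.single_apply]
  unfold toV rL
  rw [List.getD_eq_getElem?_getD, List.getElem?_map, List.getElem?_range j.2]
  simp [Fin.ext_iff]

theorem toV_inj {l : ℕ} {a b : List ℤ} (ha : a.length = l) (hb : b.length = l)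
    (h : (toV a : Fin l → ℤ) = toV b) : a = b := by
  refine List.ext_getElem (by rw [ha, hb]) fun j h1 h2 => ?_
  have h3 := congrFun h ⟨j, by rw [← ha]; exact h1⟩
  simpa [toV, List.getD_eq_getElem?_getD, h1, h2] using h3

theorem pairing_toV {l : ℕ} {A : Fin l → Fin l → ℤ} {CA : List (List ℤ)}
    (hA : ∀ i : Fin l, CA.getD i [] = List.ofFn (A i)) (i : Fin l) {a : List ℤ} (ha : a.length = l) :
    pairing A i (toV a) = dotL (CA.getD i []) a := by
  rw [hA i, dotL_ofFn _ _ ha]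
  rfl

theorem of_chkT {l : ℕ} {A : Fin l → Fin l → ℤ} {CA : List (List ℤ)} {dl : List ℤ} {ef : List ℤ → ℕ}
    {P : List (List ℤ × List ℤ × ℕ)} (hA : ∀ i : Fin l, CA.getD i [] = List.ofFn (A i))
    (hc : chkT l CA dl ef P = true) {e : (Fin l → ℤ) → ℕ} (he : ∀ a : List ℤ, a.length = l → ef a = e (toV a)) :
    PR A (P.map fun p => (toV p.1 : Fin l → ℤ)) ∧ FT A (toV dl) e P := by
  unfold chkT at hc
  rw [Bool.and_eq_true, Bool.and_eq_true] at hc
  obtain ⟨⟨h1, h2⟩, h3⟩ := hc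
  have h1 := of_decide_eq_true h1
  rw [List.all_eq_true] at h2 h3
  have h3' : ∀ p ∈ P, p.1.length = l ∧ (∀ z ∈ p.1, 0 ≤ z) ∧
      p.2.1 = (List.range l).map (fun i => dl.getD i 0 * dotL (CA.getD i []) p.1) ∧ p.2.2 = ef p.1 ∧
      (∃ i < l, 0 < dotL (CA.getD i []) p.1) ∧ ∀ i < l, p.1 = sL l i ∨ ∃ p' ∈ P, p'.1 =
        rL l i (dotL (CA.getD i []) p.1) p.1 := by
    intro p hp
    have h4 := h3 p hp
    simp only [Bool.and_eq_true, beq_iff_eq, List.all_eq_true, decide_eq_true_iff, List.any_eq_true,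
      List.mem_range, Bool.or_eq_true, List.contains_iff_mem, List.mem_map] at h4
    obtain ⟨⟨⟨⟨⟨h5, h6⟩, h7⟩, h8⟩, h9⟩, h10⟩ := h4
    refine ⟨h5, h6, h7, h8, h9, fun i hi => ?_⟩
    rcases h10 i hi with h | ⟨a, ha, e⟩
    · exact Or.inl h
    · exact Or.inr ⟨a, ha, e⟩
  refine ⟨⟨?_, ?_, ?_, ?_, ?_, ?_⟩, ⟨fun p hp => ?_⟩⟩
  · rw [List.Nodup, List.pairwise_map] at h1 ⊢
    refine h1.imp_of_mem ?_
    intro a b ha hb hne he'
    exact hne (toV_inj (h3' a ha).1 (h3' b hb).1 he')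
  · intro i
    have h4 := h2 i (List.mem_range.2 i.2)
    rw [List.contains_iff_mem, List.mem_map] at h4
    obtain ⟨p, hp, hpe⟩ := h4
    refine List.mem_map.2 ⟨p, hp, ?_⟩
    rw [hpe, toV_sL]
  · intro v hv
    obtain ⟨p, hp, rfl⟩ := List.mem_map.1 hv
    intro j
    have h5 := (h3' p hp).2.1
    show 0 ≤ p.1.getD j 0
    rw [List.getD_eq_getElem?_getD, List.getElem?_eq_getElem (by rw [(h3' p hp).1]; exact j.2)]
    exact h5 _ (List.getElem_mem _)
  · intro hv
    obtain ⟨p, hp, hpe⟩ := List.mem_map.1 hv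
    obtain ⟨h4, -, -, -, ⟨i, hi, h5⟩, -⟩ := h3' p hp
    have h6 := pairing_toV hA ⟨i, hi⟩ h4
    rw [hpe] at h6
    have h7 : pairing A ⟨i, hi⟩ (0 : Fin l → ℤ) = 0 := by
      unfold pairing; simp
    rw [h7] at h6
    exact absurd h6.symm h5.ne'
  · intro i v hv hne
    obtain ⟨p, hp, rfl⟩ := List.mem_map.1 hv
    obtain ⟨h4, -, -, -, -, h5⟩ := h3' p hp
    rcases h5 i i.2 with h6 | ⟨p', hp', h6⟩
    · exfalso
      apply hne
      show toV p.1 = _
      rw [h6, toV_sL]
    · refine List.mem_map.2 ⟨p', hp', ?_⟩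
      rw [h6, toV_rL, refl_apply, pairing_toV hA i h4]
  · intro v hv
    obtain ⟨p, hp, rfl⟩ := List.mem_map.1 hv
    obtain ⟨h4, -, -, -, ⟨i, hi, h5⟩, -⟩ := h3' p hp
    exact ⟨⟨i, hi⟩, by rw [pairing_toV hA ⟨i, hi⟩ h4]; exact h5⟩
  · obtain ⟨h4, -, h5, h6, -, -⟩ := h3' p hp
    refine ⟨h4, ?_, by rw [h6, he _ h4]⟩
    rw [h5]
    refine List.ext_getElem (by simp) fun j h7 h8 => ?_
    have hj : j < l := by simpa using h7
    rw [List.getElem_map, List.getElem_range, List.getElem_ofFn, pairing_toV hA ⟨j, hj⟩ h4]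
    rfl

/-- dominant roots -/
def domL (l : ℕ) (CA : List (List ℤ)) (P : List (List ℤ × List ℤ × ℕ)) (N : ℤ) : List (List ℤ) :=
  (P.filter fun p => (List.range l).all (fun i => decide (0 ≤ dotL (CA.getD i []) p.1)) &&
    decide (dotL p.2.1 p.1 = N)).map fun p => p.1

theorem dom_of_chk {l : ℕ} {A : Fin l → Fin l → ℤ} {d : Fin l → ℤ} {e : (Fin l → ℤ) → ℕ} {CA : List (List ℤ)}
    {P : List (List ℤ × List ℤ × ℕ)} (hA : ∀ i : Fin l, CA.getD i [] = List.ofFn (A i)) (F : FT A d e P) {N : ℤ}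
    {r : List ℤ} (hr : domL l CA P N = [r]) (hN : qf A d (toV r) (toV r) = N) :
    ∀ v ∈ P.map (fun p => (toV p.1 : Fin l → ℤ)), (∀ i, 0 ≤ pairing A i v) → qf A d v v =
      qf A d (toV r) (toV r) → v = toV r := by
  intro v hv h1 h2
  obtain ⟨p, hp, rfl⟩ := List.mem_map.1 hv
  have h3 : p.1 ∈ domL l CA P N := by
    unfold domL
    refine List.mem_map.2 ⟨p, ?_, rfl⟩
    rw [List.mem_filter]
    refine ⟨hp, ?_⟩
    rw [Bool.and_eq_true, List.all_eq_true]
    constructor
    · intro i hi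
      rw [List.mem_range] at hi
      rw [decide_eq_true_iff, ← pairing_toV hA ⟨i, hi⟩ (F.row p hp).1]
      exact h1 _
    · rw [decide_eq_true_iff, ← F.qf_eq hp hp, h2, hN]
  rw [hr, List.mem_singleton] at h3
  show toV p.1 = _
  rw [h3]

end Cfsg.Agent.H400.TwoExc

private theorem dce_1e92777a1cd7 : _root_.True := by
  try have : _root_.True := by simp only [_root_.Cfsg.Agent.H400.TwoExc.dotL._sparseCasesOn_1.else_eq]
  try have : _root_.True := by simp only [_root_.Cfsg.Agent.H400.TwoExc.dotL.eq_1]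
  try have : _root_.True := by simp only [_root_.Cfsg.Agent.H400.TwoExc.toV.eq_1]
  try have : _root_.True := by simp only [_root_.Cfsg.Agent.H400.TwoExc.dotL.eq_def]
  try have : _root_.True := by simp only [_root_.Cfsg.Agent.H400.TwoExc.dotL.eq_2]
  exact _root_.True.intro
end

-- part: H400/TwoExcTabE
section
prune_inst 0x10105504642200000000000042003c22f2000190002b880161400a440e892d0180040720b2f0020281d43ef45878c04811000159423000002a00b200411e0080040728e0843cbe0019000040c800000000000000000000000000000000000000000000000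
set_option linter.all false

/-- decoders of the packed data (elaboration time only) -/
private noncomputable def pk61d (b S i : Nat) : Nat := Nat.mod (Nat.shiftRight S (Nat.mul b i)) (Nat.shiftLeft (nat_lit 1) b)
private noncomputable def pk61c {α : Type} (t : Nat) (a : α) (f : Nat → α) : α := Nat.rec a (fun k _ => f k) t
private noncomputable def pk61f {α : Type} (t : Nat) (f : Nat → α) : α := Nat.rec (f Nat.zero) (fun k _ => f (Nat.succ k)) t
private noncomputable def pk61l {α : Type} (f : Nat → α) (s e : Nat) (tl : List α) : List α :=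
  pk61f e fun e => Nat.rec tl (fun k ih => List.cons (pk61f (Nat.sub e (Nat.succ k)) f) ih) (Nat.sub e s)
private noncomputable def pk61o {α : Type} (O : (n : Nat) → OfNat α n → α) (I : (n : Nat) → OfNat α n) (t : Nat) : α :=
  pk61c t (O (nat_lit 0) (I (nat_lit 0))) fun k => O (Nat.succ k) (I (Nat.succ k))
private noncomputable def pk61y (O : (n : Nat) → OfNat Int n → Int) (I : (n : Nat) → OfNat Int n) (G : Int → Int) (t : Nat) : Int := pk61f t fun t =>
  pk61c (Nat.mod t (nat_lit 2)) (pk61o O I (Nat.div t (nat_lit 2))) fun _ => G (pk61o O I (Nat.succ (Nat.div t (nat_lit 2))))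


/-!
# Tables of positive roots: `E₆`, `E₇`, `E₈` (hub H1, exceptional families), helper400
-/

set_option autoImplicit false
set_option linter.unusedSectionVars false
set_option Elab.async false
set_option maxHeartbeats 4000000

namespace Cfsg.Agent.H400.TwoExc

/-- Cartan matrix `E6` -/
def CAE6 : List (List ℤ) := [[2, 0, -1, 0, 0, 0],
  [0, 2, 0, -1, 0, 0],
  [-1, 0, 2, -1, 0, 0],
  [0, -1, -1, 2, -1, 0],
  [0, 0, 0, -1, 2, -1],
  [0, 0, 0, 0, -1, 2]]

/-- symmetrizer -/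
def dlE6 : List ℤ := [1, 1, 1, 1, 1, 1]

/-- positive roots -/
noncomputable def PE6 : List (List ℤ × List ℤ × ℕ) :=
  (by
  refine (?fq9001 : (fun (On : (n : Nat) → OfNat Nat n → Nat) (In : (n : Nat) → OfNat Nat n) (Oz : (n : Nat) → OfNat Int n → Int) (Iz : (n : Nat) → OfNat Int n) (Gz : Int → Int) => ((pk61l (fun i1 => (_root_.Prod.mk (pk61l (fun i2 => (pk61y Oz Iz Gz (pk61d (nat_lit 3) 
    (nat_lit 0x534894d125244929125224829124a24948900a24924924a2402492492082890492400492092082490490412480012080490090402480490000082010400480090012000000080010002000400080010000) i2))) (Nat.mul (nat_lit 6) i1) (Nat.mul (nat_lit 6) (Nat.succ i1)) List.nil) (_root_.Prod.mk (pk61l (fun i2 => (pk61y Oz Iz Gz (pk61d (nat_lit 3) 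
    (nat_lit 0x40040808a01108008108808045108200121109021245004a21240028840140a44101228028a29140141008905028109128140a08941120028205140148929121220000110022000c041848308021000) i2))) (Nat.mul (nat_lit 6) i1) (Nat.mul (nat_lit 6) (Nat.succ i1)) List.nil) (pk61o On In (nat_lit 1))))) (nat_lit 0) (nat_lit 36) List.nil) : List (List ℤ × List ℤ × ℕ)))
    = ?xq9001 → (List (List ℤ × List ℤ × ℕ))) ?hq9001; (case hq9001 => (set_option maxRecDepth 1000000 in conv => lhs; reduce)); intro _; exact ?xq9001 (@OfNat.ofNat Nat) instOfNatNat (@OfNat.ofNat Int) (@instOfNat) (@Neg.neg Int Int.instNegInt) : List (List ℤ × List ℤ × ℕ))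

private noncomputable def _root_.Cfsg.Agent.LsF.fac2a9e_0 : {f // @Cfsg.Agent.H400.TwoExc.sL = f} := ⟨_, by first | (delta Cfsg.Agent.H400.TwoExc.sL; rewrite [Cfsg.Agent.LsF.instDecEq_eq, Cfsg.Agent.LsF.map_eq, Cfsg.Agent.LsF.range_eq, Cfsg.Agent.LsF.ite_eq]; exact rfl) | exact rfl⟩
private noncomputable def _root_.Cfsg.Agent.LsF.fac2a9e_1 : {f // @Cfsg.Agent.H400.TwoExc.dotL = f} := ⟨_, by first | (delta Cfsg.Agent.H400.TwoExc.dotL List.brecOn List.brecOn.go Cfsg.Agent.H400.TwoExc.dotL._f; rewrite [Cfsg.Agent.LsF.iadd_pat, Cfsg.Agent.LsF.imul_pat]; (try delta Cfsg.Agent.H400.TwoExc.dotL.match_1); (try delta Cfsg.Agent.H400.TwoExc.dotL._sparseCasesOn_1); first | dsimp -zeta only | exact rfl) | exact rfl⟩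
private noncomputable def _root_.Cfsg.Agent.LsF.fac2a9e_2 : {f // @Cfsg.Agent.H400.TwoExc.rL = f} := ⟨_, by first | (delta Cfsg.Agent.H400.TwoExc.rL; rewrite [Cfsg.Agent.LsF.isub_pat, Cfsg.Agent.LsF.instDecEq_eq, Cfsg.Agent.LsF.map_eq, Cfsg.Agent.LsF.range_eq, Cfsg.Agent.LsF.getD_eq, Cfsg.Agent.LsF.ite_eq]; exact rfl) | exact rfl⟩
private noncomputable def _root_.Cfsg.Agent.LsF.fac2a9e_3 : {f // @Cfsg.Agent.H400.TwoExc.chkT = f} := ⟨_, by first | (delta Cfsg.Agent.H400.TwoExc.chkT; rewrite [Cfsg.Agent.LsF.fac2a9e_0.2, Cfsg.Agent.LsF.fac2a9e_1.2, Cfsg.Agent.LsF.fac2a9e_2.2, Cfsg.Agent.LsF.nbeq_pat, Cfsg.Agent.LsF.imul_pat, Cfsg.Agent.LsF.instIBEq_pat, Cfsg.Agent.LsF.and_eq, Cfsg.Agent.LsF.or_eq, Cfsg.Agent.LsF.all_eq, Cfsg.Agent.LsF.any_eq, Cfsg.Agent.LsF.map_eq, Cfsg.Agent.LsF.contains_eq, Cfsg.Agent.LsF.range_eq, Cfsg.Agent.LsF.getD_eq, Cfsg.Agent.LsF.instBEq_eq, Cfsg.Agent.LsF.instIDecEq_eq, Cfsg.Agent.LsF.idecLe_eq, Cfsg.Agent.LsF.idecLt_eq,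 Cfsg.Agent.LsF.dNodup_eq, Cfsg.Agent.LsF.dListEq_eq, Cfsg.Agent.LsF.length_eq, Cfsg.Agent.LsF.decide_eq]; exact rfl) | exact rfl⟩
theorem chkE6 : chkT 6 CAE6 dlE6 (fun _ => 1) PE6 = true := by ((try (rewrite [Cfsg.Agent.LsF.fac2a9e_3.2])); decide +kernel)

theorem domE6 : domL 6 CAE6 PE6 2 = [[1, 2, 2, 3, 2, 1]] := by decide +kernel

theorem gtE6 : cntF PE6 (fun z => decide (0 < z)) [1, 2, 2, 3, 2, 1] = 21 := by decide +kernel

/-- the exponents -/
noncomputable def exE6 : List (ℕ × ℕ) :=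
  (by
  refine (?fq9002 : (fun (On : (n : Nat) → OfNat Nat n → Nat) (In : (n : Nat) → OfNat Nat n) => ((pk61l (fun i1 => (_root_.Prod.mk (pk61o On In (pk61d (nat_lit 4) 
    (nat_lit 0x12334445556666777778888899999aaaaaa) i1)) (pk61o On In (pk61d (nat_lit 5) 
    (nat_lit 0xad272946318420f7bdee739ce6b5ad6b18c6316b5ad6b) i1)))) (nat_lit 0) (nat_lit 36) List.nil) : List (ℕ × ℕ)))
    = ?xq9002 → (List (ℕ × ℕ))) ?hq9002; (case hq9002 => (set_option maxRecDepth 1000000 in conv => lhs; reduce)); intro _; exact ?xq9002 (@OfNat.ofNat Nat) instOfNatNat : List (ℕ × ℕ))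

private noncomputable def _root_.Cfsg.Agent.LsF.fac2a9e_4 : {f // @Cfsg.Agent.H400.TwoExc.cntF = f} := ⟨_, by first | (delta Cfsg.Agent.H400.TwoExc.cntF; rewrite [Cfsg.Agent.LsF.fac2a9e_1.2, Cfsg.Agent.LsF.map_eq, Cfsg.Agent.LsF.filter_eq, Cfsg.Agent.LsF.sum_eq]; exact rfl) | exact rfl⟩
private noncomputable def _root_.Cfsg.Agent.LsF.fac2a9e_5 : {f // @Cfsg.Agent.H400.TwoExc.expF = f} := ⟨_, by first | (delta Cfsg.Agent.H400.TwoExc.expF; rewrite [Cfsg.Agent.LsF.fac2a9e_4.2, Cfsg.Agent.LsF.fac2a9e_1.2, Cfsg.Agent.LsF.map_eq, Cfsg.Agent.LsF.filter_eq, Cfsg.Agent.LsF.instIDecEq_eq, Cfsg.Agent.LsF.idecLt_eq, Cfsg.Agent.LsF.decide_eq]; exact rfl) | exact rfl⟩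
theorem expE6 : expF PE6 2 = exE6 := by (refine of_decide_eq_true ?_; (try (rewrite [Cfsg.Agent.LsF.fac2a9e_5.2, Cfsg.Agent.LsF.dProdEq_eq, Cfsg.Agent.LsF.instDecEq_eq, Cfsg.Agent.LsF.dListEq_eq, Cfsg.Agent.LsF.decide_eq])); decide +kernel)

/-- Cartan matrix `E7` -/
def CAE7 : List (List ℤ) := [[2, 0, -1, 0, 0, 0, 0],
  [0, 2, 0, -1, 0, 0, 0],
  [-1, 0, 2, -1, 0, 0, 0],
  [0, -1, -1, 2, -1, 0, 0],
  [0, 0, 0, -1, 2, -1, 0],
  [0, 0, 0, 0, -1, 2, -1],
  [0, 0, 0, 0, 0, -1, 2]]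

/-- symmetrizer -/
def dlE7 : List ℤ := [1, 1, 1, 1, 1, 1, 1]

/-- positive roots -/
noncomputable def PE7 : List (List ℤ × List ℤ × ℕ) :=
  (by
  refine (?fq9003 : (fun (On : (n : Nat) → OfNat Nat n → Nat) (In : (n : Nat) → OfNat Nat n) (Oz : (n : Nat) → OfNat Int n → Int) (Iz : (n : Nat) → OfNat Int n) (Gz : Int → Int) => ((pk61l (fun i1 => (_root_.Prod.mk (pk61l (fun i2 => (pk61y Oz Iz Gz (pk61d (nat_lit 4) 
    (nat_lit 0x246864424686422468442246644224464422466422224644224464220246442224642224444220246422224442224442220244422222442222442222444220022442202442222224222224422000244220224222222222202442202224220002422202222222222202022422022222200022222022220200242200222220222202022222000002222002220200222200222020022220022220000002202000222000220200022200022200022200000000202000202000022000022000022000022000000000002000002000002000002000002000002000002000000) i2))) (Nat.mul (nat_lit 7) i1) (Nat.mul (nat_lit 7) (Nat.succ i1)) List.nil) (_root_.Prod.mk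 (pk61l (fun i2 => (pk61y Oz Iz Gz (pk61d (nat_lit 3) 
    (nat_lit 0x888) (pk61d (nat_lit 2) 
    (nat_lit 0x2008409009209080812408261100892108604212660204926084826122005920484a1929804420664a04a4806181124984a801998181a464a601848161a6018809410a18186696061825825018604a46181895894890006206601a51a51a40a400013013007107507407403400) i2)))) (Nat.mul (nat_lit 7) i1) (Nat.mul (nat_lit 7) (Nat.succ i1)) List.nil) (pk61o On In (nat_lit 1))))) (nat_lit 0) (nat_lit 63) List.nil) : List (List ℤ × List ℤ × ℕ)))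
    = ?xq9003 → (List (List ℤ × List ℤ × ℕ))) ?hq9003; (case hq9003 => (set_option maxRecDepth 1000000 in conv => lhs; reduce)); intro _; exact ?xq9003 (@OfNat.ofNat Nat) instOfNatNat (@OfNat.ofNat Int) (@instOfNat) (@Neg.neg Int Int.instNegInt) : List (List ℤ × List ℤ × ℕ))

theorem chkE7 : chkT 7 CAE7 dlE7 (fun _ => 1) PE7 = true := by ((try (rewrite [Cfsg.Agent.LsF.fac2a9e_3.2])); decide +kernel)

theorem domE7 : domL 7 CAE7 PE7 2 = [[2, 2, 3, 4, 3, 2, 1]] := by decide +kernel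

theorem gtE7 : cntF PE7 (fun z => decide (0 < z)) [2, 2, 3, 4, 3, 2, 1] = 33 := by decide +kernel

/-- the exponents -/
noncomputable def exE7 : List (ℕ × ℕ) :=
  (by
  refine (?fq9004 : (fun (On : (n : Nat) → OfNat Nat n → Nat) (In : (n : Nat) → OfNat Nat n) => ((pk61l (fun i1 => (_root_.Prod.mk (pk61o On In (pk61d (nat_lit 5) 
    (nat_lit 0x2219085298c639ce8421094a52a5294a5ad6b5b18c6318d6b5ad6b9ce739cf7bdef7c21084210) i1)) (pk61o On In (pk61d (nat_lit 6) 
    (nat_lit 0x2181f79d75c71b6db69a6996596586186175d75d75965965955555555545145145134d34d34d2492492491451451451) i1)))) (nat_lit 0) (nat_lit 63) List.nil) : List (ℕ × ℕ)))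
    = ?xq9004 → (List (ℕ × ℕ))) ?hq9004; (case hq9004 => (set_option maxRecDepth 1000000 in conv => lhs; reduce)); intro _; exact ?xq9004 (@OfNat.ofNat Nat) instOfNatNat : List (ℕ × ℕ))

theorem expE7 : expF PE7 2 = exE7 := by (refine of_decide_eq_true ?_; (try (rewrite [Cfsg.Agent.LsF.fac2a9e_5.2, Cfsg.Agent.LsF.dProdEq_eq, Cfsg.Agent.LsF.instDecEq_eq, Cfsg.Agent.LsF.dListEq_eq, Cfsg.Agent.LsF.decide_eq])); decide +kernel)

/-- Cartan matrix `E8` -/
noncomputable def CAE8 : List (List ℤ) :=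
  (by
  refine (?fq9005 : (fun (Oz : (n : Nat) → OfNat Int n → Int) (Iz : (n : Nat) → OfNat Int n) (Gz : Int → Int) => ((pk61l (fun i1 => (pk61l (fun i2 => (pk61y Oz Iz Gz (pk61d (nat_lit 3) 
    (nat_lit 0x84000030800006100000c200001848000301000220000044) i2))) (Nat.mul (nat_lit 8) i1) (Nat.mul (nat_lit 8) (Nat.succ i1)) List.nil)) (nat_lit 0) (nat_lit 8) List.nil) : List (List ℤ)))
    = ?xq9005 → (List (List ℤ))) ?hq9005; (case hq9005 => (set_option maxRecDepth 1000000 in conv => lhs; reduce)); intro _; exact ?xq9005 (@OfNat.ofNat Int) (@instOfNat) (@Neg.neg Int Int.instNegInt) : List (List ℤ))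

/-- symmetrizer -/
def dlE8 : List ℤ := [1, 1, 1, 1, 1, 1, 1, 1]

/-- positive roots -/
def PE8 : List (List ℤ × List ℤ × ℕ) :=
  (by
  refine (?fq9006 : (fun (On : (n : Nat) → OfNat Nat n → Nat) (In : (n : Nat) → OfNat Nat n) (Oz : (n : Nat) → OfNat Int n → Int) (Iz : (n : Nat) → OfNat Int n) (Gz : Int → Int) => ((pk61l (fun i1 => (_root_.Prod.mk (pk61l (fun i2 => (pk61y Oz Iz Gz (pk61d (nat_lit 4) 
    (nat_lit 0xca86420) (pk61d (nat_lit 3) 
    (nat_lit 0x4e5d1a2e5d1a2a5d1a29dd1a29cd1a29cb1a29cada29cb1229cad229cad929c8d229cad129b8d229c8d12938d229b8d129c8912538d22938d129b8910538d22538d129389129b6910538d125389129369129b68905389125369129269129368905369125269125368929268905269124a69105368925268929248904a69105268924a68925248929244900a69104a68905248924a48925244929244800a68904a48924948905244924a44925244800a48904948904a44924944905244824a44800948900a44904944924924904a44824944800148900944904924924924100a448049448249248001449009249049241009448049248249208249240001249009241001448009248049208049240249200000249001241001248009208009240049200249000000241000248001208001240009200049000248000000041000208000240001200009000048000240000000001000008000040000200001000008000040000200000)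 i2)))) (Nat.mul (nat_lit 8) i1) (Nat.mul (nat_lit 8) (Nat.succ i1)) List.nil) (_root_.Prod.mk (pk61l (fun i2 => (pk61y Oz Iz Gz (pk61d (nat_lit 3) 
    (nat_lit 0x888) (pk61d (nat_lit 2) 
    (nat_lit 0x800060001800060001800068001a002400960009024200850902026124020921021090022421099040029021249008484021909026480804409092482108260442489908920421844908840842049984206064084984848498602012100864844860866098122001108466608120481286129801126061206612819248018601192012126192804a6601818104201992604a80061201618180690492184a60061981606980188025064a180604811869601860258094010a06060669181818256094824001860129061806251894624089000062019801a506941a406900a4000013004c007101d407401d007400d000) i2)))) (Nat.mul (nat_lit 8) i1) (Nat.mul (nat_lit 8) (Nat.succ i1)) List.nil) (pk61o On In (nat_lit 1))))) (nat_lit 0) (nat_lit 120) List.nil) : List (List ℤ × List ℤ × ℕ)))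
    = ?xq9006 → (List (List ℤ × List ℤ × ℕ))) ?hq9006; (case hq9006 => (set_option maxRecDepth 1000000 in conv => lhs; reduce)); intro _; exact ?xq9006 (@OfNat.ofNat Nat) instOfNatNat (@OfNat.ofNat Int) (@instOfNat) (@Neg.neg Int Int.instNegInt) : List (List ℤ × List ℤ × ℕ))

theorem chkE8 : chkT 8 CAE8 dlE8 (fun _ => 1) PE8 = true := by ((try (rewrite [Cfsg.Agent.LsF.fac2a9e_3.2])); decide +kernel)

theorem domE8 : domL 8 CAE8 PE8 2 = [[2, 3, 4, 6, 5, 4, 3, 2]] := by decide +kernel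

theorem gtE8 : cntF PE8 (fun z => decide (0 < z)) [2, 3, 4, 6, 5, 4, 3, 2] = 57 := by decide +kernel

/-- the exponents -/
noncomputable def exE8 : List (ℕ × ℕ) :=
  (by
  refine (?fq9007 : (fun (On : (n : Nat) → OfNat Nat n → Nat) (In : (n : Nat) → OfNat Nat n) => ((pk61l (fun i1 => (_root_.Prod.mk (pk61o On In (pk61d (nat_lit 5) 
    (nat_lit 0x443214c639d084a54a52d6b6318c6b5ad739ce7bdef84210846318c65294a529ce739ce94a5294ad6b5ad6d6b5ad6b5ef7bdef7c6318c6319ce739ce75ad6b5ad6f7bdef7be739ce739c) i1)) (pk61o On In (pk61d (nat_lit 6) 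
    (nat_lit 0xe78df6d74cf3cb2c71c30befbeebaeb6db6db2cb2caebaebaaaaaaa69a69a68a28a289e79e79e79a69a69a69659659659249249248e38e38e38e28a28a28a28618618618608208208207df7df7df7de79e79e79e75d75d75d75d) i1)))) (nat_lit 0) (nat_lit 120) List.nil) : List (ℕ × ℕ)))
    = ?xq9007 → (List (ℕ × ℕ))) ?hq9007; (case hq9007 => (set_option maxRecDepth 1000000 in conv => lhs; reduce)); intro _; exact ?xq9007 (@OfNat.ofNat Nat) instOfNatNat : List (ℕ × ℕ))

theorem expE8 : expF PE8 2 = exE8 := by (refine of_decide_eq_true ?_; (try (rewrite [Cfsg.Agent.LsF.fac2a9e_5.2, Cfsg.Agent.LsF.dProdEq_eq, Cfsg.Agent.LsF.instDecEq_eq, Cfsg.Agent.LsF.dListEq_eq, Cfsg.Agent.LsF.decide_eq])); decide +kernel)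

end Cfsg.Agent.H400.TwoExc
end

-- part: H400/TwoExcSL
section
prune_inst 0x5000200000000000000040003c2280000090002b800060000244020109000000070002000002000022000000000810000050001000002000000040000000000000000000a000000000000800000000000000000000000000000000000000000000000
set_option linter.all false
open scoped Cfsg.Agent.FastGrp

-- part: H400/TwoExcData
section
/-!
# The long root data of a group with a root group datum (hub H1, exceptional families), helper400

* `exists_sylow_U` : `U` is a Sylow `p`-subgroup;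
* `line_data`, `num_data`, `heis_data`, `cen_data` : the fields of `H353.TwoLong.LR`;
* `lr_of_rgd` : `H353.TwoLong.LR p q k ((q - 1) * |Y : P|) (X r)`.
-/

set_option autoImplicit false
set_option linter.unusedSectionVars false

namespace Cfsg.Agent.H400.TwoExc

open CoxeterSystem Cfsg.Agent.ChevalleyStructure.CoxeterGeom Cfsg.Agent.Tits.Roots Cfsg.Agent.Tits.Core
  Cfsg.Agent.Tits.Exchange Cfsg.Agent.Nodes.Reps Cfsg.Agent.Nodes.BNOf Cfsg.Agent.Nodes.StabComb
  Cfsg.Agent.Nodes.Bruhat Cfsg.Agent.Nodes.OppDec Cfsg.Agent.Nodes.PosPair Cfsg.Agent.Nodes.Coroot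
  Cfsg.Agent.KFacts.RgdPar Cfsg.Agent.KFacts.RgdSL Cfsg.Agent.KFacts.RgdTI Cfsg.Agent.Nodes.LeviDec
  Cfsg.Agent.KFacts.RgdCent
open scoped commutatorElement

variable {I W Y : Type*} [Fintype I] [DecidableEq I] [Group W] [Group Y] {M : CoxeterMatrix I}
  {cs : CoxeterSystem M W} {A : I → I → ℤ} {h : IsCartan M A} {p : ℕ} {T : Subgroup Y} {n : I → Y}
  {X : (I → ℤ) → Subgroup Y}

theorem exists_sylow_U (R : RGD cs h p T n X) [Finite W] [Finite Y] [Fact p.Prime] (hG : GG cs h T X = ⊤) :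
    ∃ P : Sylow p Y, (P : Subgroup Y) = RGD.Sup X (RGD.Pos cs h) := by
  obtain ⟨P, hP⟩ := (R.isPGroup_Upos).exists_le_sylow
  exact ⟨P, Cfsg.Agent.Nodes.NormalForm.eq_U_of_isPGroup R P.isPGroup' hP (by rw [hG]; exact le_top)⟩

theorem line_data (R : RGD cs h p T n X) [Finite W] [Finite Y] {x y : I → ℤ} (hA : A2 cs h x y) {q : ℕ}
    (hq : Nat.card (X (x + y)) = q) :
    ∃ (E : Subgroup Y) (g : Fin (q + 1) → Y), (∀ z, z ∈ E ↔ ∃ i, z ∈ cj (g i) (X (x + y))) ∧
      ∀ i j, i ≠ j → ∀ z, z ∈ cj (g i) (X (x + y)) → z ∈ cj (g j) (X (x + y)) → z = 1 := by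
  classical
  obtain ⟨w, hw⟩ := sub_rep_eq R hA
  obtain ⟨k, hk⟩ := exists_rp cs R.nsys w
  have hky : cj k (X (x + y)) = X y := by rw [R.conj_rp hk hA.rxy, hw]
  have hqx : Nat.card (X x) = q := by rw [← A2.card_eq' R hA, hq]
  have hF : Nat.card (Option (X x)) = q + 1 := by
    rw [Finite.card_option, hqx]
  let e : Fin (q + 1) ≃ Option (X x) := (Finite.equivFinOfCardEq hF).symm
  let g0 : Option (X x) → Y := fun o => match o with
    | none => 1
    | some u => (u : Y) * k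
  have hg0 : ∀ u : X x, cj (g0 (some u)) (X (x + y)) = cj (u : Y) (X y) := by
    intro u
    show cj ((u : Y) * k) _ = _
    rw [cj_mul, hky]
  have hg1 : cj (g0 none) (X (x + y)) = X (x + y) := cj_one _
  refine ⟨X (x + y) ⊔ X y, fun i => g0 (e i), ?_, ?_⟩
  · intro z
    constructor
    · intro hz
      obtain ⟨w', hw', v, hv, rfl⟩ := (mem_line R hA).1 hz
      by_cases hv1 : v = 1
      · subst hv1
        refine ⟨e.symm none, ?_⟩
        show _ ∈ cj (g0 (e (e.symm none))) _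
        rw [e.apply_symm_apply, hg1, mul_one]
        exact hw'
      · obtain ⟨u, hu, he⟩ := exists_conj_of_mem R hA hw' hv hv1
        refine ⟨e.symm (some ⟨u, hu⟩), ?_⟩
        show _ ∈ cj (g0 (e (e.symm (some ⟨u, hu⟩)))) _
        rw [e.apply_symm_apply, hg0, he]
        exact conj_mem_cj.2 hv
    · rintro ⟨i, hi⟩
      have hi' : z ∈ cj (g0 (e i)) (X (x + y)) := hi
      rcases ho : e i with _ | u
      · rw [ho, hg1] at hi'
        exact Subgroup.mem_sup_left hi'
      · rw [ho, hg0] at hi'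
        have h1 := conj_mem_line R hA u.2 (mem_cj.1 hi')
        have h2 : (u : Y) * ((u : Y)⁻¹ * z * u) * (u : Y)⁻¹ = z := by group
        rwa [h2] at h1
  · intro i j hij z hi hj
    have hi' : z ∈ cj (g0 (e i)) (X (x + y)) := hi
    have hj' : z ∈ cj (g0 (e j)) (X (x + y)) := hj
    have hne : e i ≠ e j := fun h0 => hij (e.injective h0)
    by_contra hz
    have key : ∀ u : X x, z ∈ cj (u : Y) (X y) → z ∈ X (x + y) → False := by
      intro u h1 h2
      have h3 := mem_cj.1 h1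
      refine conj_not_mem R hA u.2 h3 ?_ ?_
      · intro h4
        apply hz
        have : z = (u : Y) * ((u : Y)⁻¹ * z * u) * (u : Y)⁻¹ := by group
        rw [this, h4]; group
      · have : (u : Y) * ((u : Y)⁻¹ * z * u) * (u : Y)⁻¹ = z := by group
        rw [this]; exact h2
    rcases ho : e i with _ | u <;> rcases ho' : e j with _ | u'
    · exact hne (by rw [ho, ho'])
    · rw [ho, hg1] at hi'
      rw [ho', hg0] at hj'
      exact key u' hj' hi'
    · rw [ho, hg0] at hi'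
      rw [ho', hg1] at hj'
      exact key u hi' hj'
    · rw [ho, hg0] at hi'
      rw [ho', hg0] at hj'
      obtain ⟨h4, -⟩ := conj_inj R hA u.2 u'.2 (mem_cj.1 hi') (mem_cj.1 hj') (by
        intro h4
        apply hz
        have : z = (u : Y) * ((u : Y)⁻¹ * z * u) * (u : Y)⁻¹ := by group
        rw [this, h4]; group) (by group)
      exact hne (by rw [ho, ho', Subtype.ext h4])

theorem heis_data {R : RGD cs h p T n X} [Finite W] [Finite Y] {r : I → ℤ} (H : Hs R r) {q k : ℕ}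
    (hq : Nat.card (X r) = q) (hQ : Nat.card (QQ cs h X r) = q ^ (2 * k + 1)) :
    ∃ Q : Subgroup Y, Nat.card Q = q ^ (2 * k + 1) ∧
      ∀ D : Subgroup Y, D ≤ Q → (∀ x ∈ D, x ∈ X r → x = 1) → Nat.card D ≤ q ^ k := by
  refine ⟨QQ cs h X r, hQ, fun D hD hDX => ?_⟩
  have h1 : D ⊓ X r = ⊥ := by
    rw [eq_bot_iff]
    rintro x ⟨h1, h2⟩
    exact Subgroup.mem_bot.2 (hDX x h1 h2)
  have h2 := H.card_le hD h1
  rw [hQ, hq] at h2
  have hq0 : 0 < q := by rw [← hq]; exact Nat.card_pos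
  by_contra hcon
  push Not at hcon
  have h3 : q ^ k * (q ^ k * q) < Nat.card D * (Nat.card D * q) :=
    Nat.mul_lt_mul'' hcon (Nat.mul_lt_mul_of_pos_right hcon hq0)
  have h4 : q ^ k * (q ^ k * q) = q ^ (2 * k + 1) := by ring
  omega

theorem num_data {R : RGD cs h p T n X} [Finite W] [Finite Y] (hG : GG cs h T X = ⊤) {r : I → ℤ} (L : LR R r)
    {q : ℕ} (hq : Nat.card (X r) = q) :
    {x : Y | x ≠ 1 ∧ ∃ g : Y, x ∈ cj g (X r)}.ncard = (q - 1) * (PS T X (Ge cs h r)).index := by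
  classical
  set P := PS T X (Ge cs h r) with hP
  have hnorm : ∀ g : Y, g ∈ P ↔ cj g (X r) = X r := by
    intro g
    rw [← mem_normalizer_iff_cj, hP, ← L.normalizer, hG]
    simp
  let f : (Y ⧸ P) × {x : X r // x ≠ 1} → {x : Y | x ≠ 1 ∧ ∃ g : Y, x ∈ cj g (X r)} := fun s =>
    ⟨s.1.out * (s.2.1 : Y) * (s.1.out)⁻¹, by
      refine ⟨?_, s.1.out, conj_mem_cj.2 s.2.1.2⟩
      intro h1
      apply s.2.2
      apply Subtype.ext
      have : (s.2.1 : Y) = (s.1.out)⁻¹ * (s.1.out * (s.2.1 : Y) * (s.1.out)⁻¹) * s.1.out := by group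
      rw [this, h1]; simp⟩
  have hf : Function.Bijective f := by
    constructor
    · rintro ⟨c, ⟨⟨x, hx⟩, hx1⟩⟩ ⟨c', ⟨⟨x', hx'⟩, hx1'⟩⟩ e
      have e1 : c.out * x * (c.out)⁻¹ = c'.out * x' * (c'.out)⁻¹ := congrArg Subtype.val e
      have h1 : (c'.out)⁻¹ * c.out ∈ P := by
        refine (hnorm _).2 (mem_normalizer_iff_cj.1 (L.ti_self (by rw [hG]; trivial) hx
          (fun h2 => hx1 (Subtype.ext h2)) ?_))
        have : (c'.out)⁻¹ * c.out * x * ((c'.out)⁻¹ * c.out)⁻¹ = (c'.out)⁻¹ * (c.out * x * (c.out)⁻¹) * c'.out := by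
          group
        rw [this, e1]
        have : (c'.out)⁻¹ * (c'.out * x' * (c'.out)⁻¹) * c'.out = x' := by group
        rw [this]; exact hx'
      have h2 : c = c' := by
        rw [← QuotientGroup.out_eq' c, ← QuotientGroup.out_eq' c']
        exact (QuotientGroup.eq.2 h1).symm
      subst h2
      have h3 : x = x' := by
        have := mul_right_cancel e1
        exact mul_left_cancel this
      subst h3
      rfl
    · rintro ⟨x, hx1, g, hg⟩
      set c : Y ⧸ P := QuotientGroup.mk g with hc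
      have h1 : g⁻¹ * c.out ∈ P := by
        rw [← QuotientGroup.eq, QuotientGroup.out_eq']
      have h2 : (c.out)⁻¹ * x * c.out ∈ X r := by
        have h3 : cj c.out (X r) = cj g (X r) := by
          have h4 : c.out = g * (g⁻¹ * c.out) := by group
          rw [h4, cj_mul, (hnorm _).1 h1]
        rw [← mem_cj, h3]
        exact hg
      refine ⟨⟨c, ⟨⟨_, h2⟩, ?_⟩⟩, Subtype.ext ?_⟩
      · intro h3
        have h4 : (c.out)⁻¹ * x * c.out = 1 := congrArg Subtype.val h3
        apply hx1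
        have : x = c.out * ((c.out)⁻¹ * x * c.out) * (c.out)⁻¹ := by group
        rw [this, h4]; group
      · show c.out * ((c.out)⁻¹ * x * c.out) * (c.out)⁻¹ = x
        group
  have h1 : Nat.card {x : X r // x ≠ 1} = q - 1 := by
    rw [← hq]
    have h4 := Fintype.ofFinite (X r)
    rw [Nat.card_eq_fintype_card, Nat.card_eq_fintype_card, Fintype.card_subtype_compl, Fintype.card_subtype_eq]
  rw [← Nat.card_coe_set_eq, ← Nat.card_congr (Equiv.ofBijective f hf), Nat.card_prod, h1, mul_comm]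
  rfl

/-- `C(U) = X r`, simply laced -/
theorem cent_U (R : RGD cs h p T n X) [Finite W] (hG : GG cs h T X = ⊤) (hN : NoCent cs h T X)
    (hL : ∀ a, IsRoot cs h a → LR R a) {r : I → ℤ}
    (hu : ∀ b, IsRoot cs h b → (∀ a ∈ RGD.Pos cs h, 0 ≤ cpr cs h b a) → b = r) {g : Y}
    (hg : ∀ u ∈ RGD.Sup X (RGD.Pos cs h), g * u = u * g) : g ∈ X r := by
  have hstar : Star cs h (RGD.Pos cs h) ⊆ {r} := fun b hb => hu b hb.1 hb.2
  obtain ⟨t, ht, hP, q, hq, rfl⟩ := cent_eq R (Psi := RGD.Pos cs h) (fun a ha => hL a ha.1)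
    (fun b hb a ha u hu' v hv => ((hL a ha.1).comm b hb.1 (hb.2 a ha) u hu' v hv))
    (g := g) (by rw [hG]; trivial) (fun a ha v hv => hg v (RGD.le_Sup ha hv))
  have h1 : t = 1 := by
    refine hN t ht fun b hb => ?_
    rcases hb.pos_or_neg with h0 | h0
    · exact (hP (a := b) ⟨hb, h0⟩).2
    · have h2 := cen_neg R ht (hP (a := -b) ⟨hb.neg, neg_nonneg.2 h0⟩)
      rw [neg_neg] at h2
      exact h2.2
  rw [h1, one_mul]
  have h2 := RGD.Sup_mono (X := X) hstar hq
  refine (RGD.Sup_le fun z hz => ?_ : RGD.Sup X {r} ≤ X r) h2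
  rw [Set.mem_singleton_iff] at hz
  rw [hz]

theorem cen_data (R : RGD cs h p T n X) [Finite W] [Finite Y] [Fact p.Prime] (hG : GG cs h T X = ⊤) {r : I → ℤ}
    (hr : r ∈ RGD.Pos cs h) (L : LR R r) (hd : ∀ i, 0 ≤ cpr cs h (sr i) r)
    (hc : ∀ g, (∀ u ∈ RGD.Sup X (RGD.Pos cs h), g * u = u * g) → g ∈ X r) :
    ∃ U : Sylow p Y, ∀ x, x ∈ X r ↔ x ∈ U ∧ ∀ u ∈ U, x * u = u * x := by
  obtain ⟨U, hU⟩ := exists_sylow_U R hG
  refine ⟨U, fun x => ?_⟩
  have hmem : ∀ y, y ∈ U ↔ y ∈ RGD.Sup X (RGD.Pos cs h) := by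
    intro y
    rw [← hU]; rfl
  constructor
  · intro hx
    refine ⟨(hmem x).2 (RGD.le_Sup hr hx), fun u hu => ?_⟩
    refine (L.comm' (RGD.Sup_mono (S' := Ge cs h r) (fun s hs => ⟨hs.1, ?_⟩) ((hmem u).1 hu)) hx).symm
    have h1 := dom_nonneg (f := ell cs h L.root) hd hs.2
    exact h1
  · rintro ⟨-, h1⟩
    exact hc x fun u hu => h1 u ((hmem u).2 hu)

/-- **The long root data**, simply laced case. -/
theorem lr_of_rgd (R : RGD cs h p T n X) [Finite W] [Finite Y] [Fact p.Prime] (hs : SL cs h)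
    (hG : GG cs h T X = ⊤) (hN : NoCent cs h T X) (hL : ∀ a, IsRoot cs h a → LR R a) {x y : I → ℤ}
    (hA : A2 cs h x y) (hr : x + y ∈ RGD.Pos cs h)
    (hu : ∀ b, IsRoot cs h b → (∀ a ∈ RGD.Pos cs h, 0 ≤ cpr cs h b a) → b = x + y)
    (hd : ∀ i, 0 ≤ cpr cs h (sr i) (x + y)) {q f k : ℕ} (hf : 1 ≤ f) (hqf : q = p ^ f)
    (hq : Nat.card (X (x + y)) = q) (hQ : Nat.card (QQ cs h X (x + y)) = q ^ (2 * k + 1)) :
    H353.TwoLong.LR p q k ((q - 1) * (PS T X (Ge cs h (x + y))).index) (X (x + y)) where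
  prime := Fact.out
  qf := ⟨f, hf, hqf⟩
  card := hq
  cen := cen_data R hG hr (hL _ hr.1) hd fun g hg => cent_U R hG hN hL hu hg
  line := line_data R hA hq
  heis := by
    refine heis_data (Hs.of_SL R hs hA.rxy hA.rx ?_) hq hQ
    rw [cpr_add cs h _ _ hA.rx, cpr_self cs h hA.rx, hA.cyx]
    norm_num
  num := num_data hG (hL _ hr.1) hq

end Cfsg.Agent.H400.TwoExc
end

-- part: H400/TwoExcSL
section
/-!
# The long root data in the simply laced case, with tables (hub H1, exceptional families), helper400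

* `card_QQ` : the order of the Heisenberg group `Q`;
* `lr_tab` : `LR p q k N (X r)` from a root table.
-/

set_option autoImplicit false
set_option linter.unusedSectionVars false

namespace Cfsg.Agent.H400.TwoExc

open CoxeterSystem Cfsg.Agent.ChevalleyStructure.CoxeterGeom Cfsg.Agent.Tits.Roots Cfsg.Agent.Tits.Core
  Cfsg.Agent.Tits.Exchange Cfsg.Agent.Nodes.Reps Cfsg.Agent.Nodes.BNOf Cfsg.Agent.Nodes.StabComb
  Cfsg.Agent.Nodes.Bruhat Cfsg.Agent.Nodes.OppDec Cfsg.Agent.Nodes.PosPair Cfsg.Agent.Nodes.Coroot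
  Cfsg.Agent.KFacts.RgdPar Cfsg.Agent.KFacts.RgdSL Cfsg.Agent.KFacts.RgdTI Cfsg.Agent.Nodes.LeviDec
  Cfsg.Agent.Nodes.KindChev Cfsg.Agent.KFacts.RgdCent

variable {l : ℕ} {W Y : Type*} [Group W] [Group Y] {M : CoxeterMatrix (Fin l)}
  {cs : CoxeterSystem M W} {A : Fin l → Fin l → ℤ} {h : IsCartan M A} {p : ℕ} {T : Subgroup Y} {n : Fin l → Y}
  {X : (Fin l → ℤ) → Subgroup Y}

theorem Gt_subset_pos [Finite W] {r : Fin l → ℤ} (hr : IsRoot cs h r) (hd : ∀ i, 0 ≤ cpr cs h (sr i) r) :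
    Gt cs h r ⊆ RGD.Pos cs h := by
  rintro s ⟨hs, h0⟩
  refine ⟨hs, ?_⟩
  by_contra h1
  have h2 : 0 ≤ -s := by
    rcases hs.pos_or_neg with h3 | h3
    · exact absurd h3 h1
    · exact neg_nonneg.2 h3
  have h3 : 0 ≤ cpr cs h (-s) r := dom_nonneg (f := ell cs h hr) hd h2
  rw [cpr_neg cs h _ hr] at h3
  omega

theorem card_QQ (R : RGD cs h p T n X) [Finite W] [Finite Y] {L : List (Fin l → ℤ)}
    (H : PR A L) {d : Fin l → ℤ} (hd : ∀ i j, d i * A i j = d j * A j i) {r : Fin l → ℤ} (hr : IsRoot cs h r)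
    (h0 : 0 < qf A d r r) (hdom : ∀ i, 0 ≤ cpr cs h (sr i) r) {q : ℕ} (e : (Fin l → ℤ) → ℕ)
    (hc : ∀ t ∈ L, Nat.card (X t) = q ^ e t) :
    Nat.card (QQ cs h X r) = q ^ cnt L e (fun t => decide (0 < qf A d t r)) := by
  classical
  have h1 : ((L.toFinset.filter (fun t => 0 < qf A d t r) : Finset (Fin l → ℤ)) : Set (Fin l → ℤ)) = Gt cs h r := by
    ext t
    rw [Finset.mem_coe, Finset.mem_filter, List.mem_toFinset, H.mem_iff (cs := cs) (h := h),
      ← (cpr_sign hd hr h0 t).2]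
    constructor
    · rintro ⟨h1, h2⟩
      exact ⟨h1.1, h2⟩
    · intro h1
      exact ⟨Gt_subset_pos hr hdom h1, h1.2⟩
  have h2 := Nodes.CardSup.card_sup R (s := L.toFinset.filter (fun t => 0 < qf A d t r)) (by
    rw [h1]; exact Gt_subset_pos hr hdom) (by
    rw [h1]
    rintro a ⟨ha, ha'⟩ b ⟨hb, hb'⟩ c ⟨hc, m, i, j, hm, hi, hj, he⟩
    refine ⟨hc, ?_⟩
    have h7 : m * cpr cs h c r = i * cpr cs h a r + j * cpr cs h b r := by
      rw [← cpr_smul cs h _ _ hr, ← cpr_smul cs h _ _ hr, ← cpr_smul cs h _ _ hr, ← cpr_add cs h _ _ hr, he]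
    have h8 : 0 < m * cpr cs h c r := by rw [h7]; positivity
    exact (mul_pos_iff_of_pos_left hm).1 h8)
  rw [h1] at h2
  unfold QQ
  rw [h2, prod_filter_eq H.nodup e hc]

/-- **The long root data**, simply laced, from a table. -/
theorem lr_tab (R : RGD cs h p T n X) [Finite W] [Finite Y] [Fact p.Prime] (hs : SL cs h)
    (hG1 : Nodes.RGDLib.G1 cs h X = ⊤) (hZ : Subgroup.center Y = ⊥) {CA : List (List ℤ)} {dl : List ℤ}
    {P : List (List ℤ × List ℤ × ℕ)} (hA : ∀ i : Fin l, CA.getD i [] = List.ofFn (A i))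
    (hdl : ∀ i : Fin l, dl.getD i 0 = 1) (hck : chkT l CA dl (fun _ => 1) P = true) {rl : List ℤ}
    (hdm : domL l CA P 2 = [rl]) {k : ℕ} (hgt : cntF P (fun z => decide (0 < z)) rl = 2 * k + 1) (i₀ : Fin l)
    (hi₀ : dotL (CA.getD i₀ []) rl = 1) {ex : List (ℕ × ℕ)} (hex : expF P 2 = ex) {q f : ℕ} (hf : 1 ≤ f)
    (hqf : q = p ^ f) (hq : ∀ i, Nat.card (X (sr i)) = q) :
    H353.TwoLong.LR p q k ((q - 1) * (ex.map fun z => q ^ z.1 + q ^ z.2).sum) (X (toV rl)) := by
  have hG : GG cs h T X = ⊤ := KFacts.RgdRigid.GG_eq_top hG1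
  obtain ⟨H, F⟩ := of_chkT hA hck (e := fun _ => 1) (fun _ _ => rfl)
  set d : Fin l → ℤ := toV dl with hd
  have hd1 : d = fun _ => 1 := by
    funext i; exact hdl i
  have hAs : ∀ i j, A i j = A j i := by
    intro i j
    have h1 := hs (sr j) (sr i) (isRoot_sr cs h j) (isRoot_sr cs h i)
    rw [cpr_sr, cpr_sr] at h1
    have h2 : ∀ a b : Fin l, pairing A a (sr b) = A a b := by
      intro a b
      unfold pairing sr
      simp [Pi.single_apply]
    rwa [h2, h2] at h1
  have hdA : ∀ i j, d i * A i j = d j * A j i := by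
    intro i j
    rw [hd1, one_mul, one_mul, hAs]
  have hqr : ∀ s, IsRoot cs h s → qf A d s s = 2 := by
    rintro _ ⟨w, i, rfl⟩
    rw [qf_root cs h hdA, hd1, mul_one]
  have hcpr : ∀ s t, IsRoot cs h t → cpr cs h s t = qf A d s t := by
    intro s t ht
    have h1 := cpr_mul_qf cs h hdA s ht
    rw [hqr t ht] at h1
    omega
  -- the dominant root
  have hrl : rl ∈ domL l CA P 2 := by rw [hdm]; exact List.mem_singleton_self _
  unfold domL at hrl
  obtain ⟨pr, hpr, hpe⟩ := List.mem_map.1 hrl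
  rw [List.mem_filter, Bool.and_eq_true, List.all_eq_true] at hpr
  obtain ⟨hprP, hpr1, -⟩ := hpr
  set r : Fin l → ℤ := toV rl with hr
  have hrL : r ∈ P.map fun p => (toV p.1 : Fin l → ℤ) := List.mem_map.2 ⟨pr, hprP, by rw [hpe]⟩
  have hrr : IsRoot cs h r := H.isRoot hrL
  have hrlen : rl.length = l := by rw [← hpe]; exact (F.row pr hprP).1
  have hr1 : ∀ i, 0 ≤ pairing A i r := by
    intro i
    have h1 := hpr1 i (List.mem_range.2 i.2)
    rw [decide_eq_true_iff, hpe] at h1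
    rw [hr, pairing_toV hA i hrlen]
    exact h1
  have hN : qf A d r r = 2 := hqr r hrr
  have hdom := dom_of_chk hA F hdm hN
  have hdr : ∀ i, 0 ≤ cpr cs h (sr i) r := by
    intro i
    rw [hs _ _ (isRoot_sr cs h i) hrr, cpr_sr]; exact hr1 i
  -- all roots are conjugate
  have horb : ∀ s, IsRoot cs h s → ∃ w : W, rep cs h w r = s := by
    intro s hs'
    exact (orbit_iff H hdA hdom hs').2 (by rw [hqr s hs', hN])
  have h1r : cpr cs h r (sr i₀) = 1 := by
    rw [cpr_sr, hr, pairing_toV hA i₀ hrlen, hi₀]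
  have hL : ∀ a, IsRoot cs h a → LR R a := by
    refine lr_all R hs fun a ha => ?_
    obtain ⟨w, rfl⟩ := horb a ha
    exact ⟨rep cs h w (sr i₀), (isRoot_sr cs h i₀).act w, by
      rw [cpr_rep cs h w _ (isRoot_sr cs h i₀)]; exact h1r⟩
  have hcard : ∀ s, IsRoot cs h s → Nat.card (X s) = q := by
    rintro _ ⟨w, i, rfl⟩
    rw [Nodes.CardSup.card_X_rep R w (isRoot_sr cs h i), hq]
  have hcard' : ∀ t ∈ P.map (fun p => (toV p.1 : Fin l → ℤ)), Nat.card (X t) = q ^ 1 := by
    intro t ht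
    rw [hcard t (H.isRoot ht), pow_one]
  -- the line
  have hxr : IsRoot cs h (r - sr i₀) := by
    have h2 := hrr.act (cs.simple i₀)
    rw [rep_simple_eq, ← cpr_sr cs h, h1r, one_smul] at h2
    exact h2
  have hA2 : A2 cs h (r - sr i₀) (sr i₀) := by
    refine hs.a2 hxr (isRoot_sr cs h i₀) ?_
    rw [sub_eq_add_neg, cpr_add cs h _ _ (isRoot_sr cs h i₀), cpr_neg cs h _ (isRoot_sr cs h i₀), h1r,
      cpr_self cs h (isRoot_sr cs h i₀)]
    norm_num
  have hxe : r - sr i₀ + sr i₀ = r := sub_add_cancel _ _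
  have hNC : NoCent cs h T X := by
    refine noCent_of_center R ?_ hZ
    rw [← hG1]
    unfold Nodes.RGDLib.G1 RGD.Sup
    rfl
  have hQ : Nat.card (QQ cs h X r) = q ^ (2 * k + 1) := by
    rw [card_QQ R H hdA hrr (by rw [hN]; norm_num) hdr (fun _ => 1) hcard', ← hgt]
    congr 1
    have := F.cnt_eq hprP (fun z => decide (0 < z))
    rw [hpe] at this
    exact this
  have hindex := index_tab (R := R) hG H hdA (hL r hrr) (by rw [hN]; norm_num) hr1 hdom (q := q) (fun _ => 1) hcard'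
  rw [F.sum_eq, hN, hex] at hindex
  have key := lr_of_rgd R hs hG hNC hL hA2 (by rw [hxe]; exact ⟨hrr, H.pos r hrL⟩) (by
    intro b hb hb0
    rw [hxe]
    have h2 : ∀ i, 0 ≤ pairing A i b := by
      intro i
      have h3 := hb0 (sr i) ⟨isRoot_sr cs h i, by
        intro j
        unfold sr
        rw [Pi.single_apply]
        show (0 : ℤ) ≤ _
        split_ifs <;> norm_num⟩
      rwa [cpr_sr] at h3
    exact hdom b (H.dom_mem hb h2) h2 (by rw [hqr b hb, hN])) (by rw [hxe]; exact hdr) hf hqf (by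
    rw [hxe]; exact hcard r hrr) (k := k) (by rw [hxe]; exact hQ)
  rw [hxe, hindex] at key
  exact key

end Cfsg.Agent.H400.TwoExc
end
end

-- part: H400/TwoExcGen
section
prune_inst 0x1000040022000000000000000000001000009000000001214000440000000000040000002000020010000008000000000000100000000000000000000400000000000080080000000000000000000000000000000000000000000000000000000000000
set_option linter.all false
open scoped Cfsg.Agent.FastGrp

/-!
# The long root data for groups with roots of two lengths (hub H1, exceptional families), helper400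

* `GI R d r` : the group theoretic input: root groups `X x`, `X y` commute if `x + y` is not a root, and
  `{⁅u, v⁆ : v ∈ X (r - s)} = X r` for `u ∈ X s`, `u ≠ 1`, `⟨s, r^∨⟩ > 0`, `s ≠ r`;
* `GI.hs` : `Hs R r`; `GI.cen` : `Z(U) = X r`; `GI.line_data`;
* `lr_gen` : the long root data `LR p q k N (X r)` from a table.
-/

set_option autoImplicit false
set_option linter.unusedSectionVars false

namespace Cfsg.Agent.H400.TwoExc

open CoxeterSystem Cfsg.Agent.ChevalleyStructure.CoxeterGeom Cfsg.Agent.Tits.Roots Cfsg.Agent.Tits.Core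
  Cfsg.Agent.Tits.Exchange Cfsg.Agent.Nodes.Reps Cfsg.Agent.Nodes.BNOf Cfsg.Agent.Nodes.StabComb
  Cfsg.Agent.Nodes.Bruhat Cfsg.Agent.Nodes.OppDec Cfsg.Agent.Nodes.PosPair Cfsg.Agent.Nodes.Coroot
  Cfsg.Agent.KFacts.RgdPar Cfsg.Agent.KFacts.RgdSL Cfsg.Agent.KFacts.RgdTI Cfsg.Agent.Nodes.LeviDec
  Cfsg.Agent.Nodes.KindChev Cfsg.Agent.KFacts.RgdCent
open scoped commutatorElement

variable {l : ℕ} {W Y : Type*} [Group W] [Group Y] {M : CoxeterMatrix (Fin l)}
  {cs : CoxeterSystem M W} {A : Fin l → Fin l → ℤ} {h : IsCartan M A} {p : ℕ} {T : Subgroup Y} {n : Fin l → Y}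
  {X : (Fin l → ℤ) → Subgroup Y}

/-- the input about roots -/
structure GR (cs : CoxeterSystem M W) {A : Fin l → Fin l → ℤ} (h : IsCartan M A) (d : Fin l → ℤ)
    (r : Fin l → ℤ) : Prop where
  rr : IsRoot cs h r
  dom : ∀ i, 0 ≤ pairing A i r
  hd : ∀ i j, d i * A i j = d j * A j i
  dpos : ∀ i, 0 < d i
  max : ∀ i, 2 * d i ≤ qf A d r r

/-- the group theoretic input -/
structure GI (R : RGD cs h p T n X) (d : Fin l → ℤ) (r : Fin l → ℤ) : Prop extends GR cs h d r where
  nil : ∀ x y, IsRoot cs h x → IsRoot cs h y → x ≠ -y → ¬ IsRoot cs h (x + y) → ∀ u ∈ X x, ∀ v ∈ X y, u * v = v * u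
  cen : ∀ s ∈ Gt cs h r, s ≠ r → ∀ u ∈ X s, ∀ v ∈ X (r - s), ⁅u, v⁆ ∈ X r
  sur : ∀ s ∈ Gt cs h r, s ≠ r → ∀ u ∈ X s, u ≠ 1 → ∀ w ∈ X r, ∃ v ∈ X (r - s), ⁅u, v⁆ = w

namespace GR

variable {d r : Fin l → ℤ} (H : GR cs h d r) [Finite W]

include H

theorem qf_pos {s : Fin l → ℤ} (hs : IsRoot cs h s) : 0 < qf A d s s := by
  obtain ⟨w, i, rfl⟩ := hs
  rw [qf_root cs h H.hd]
  have := H.dpos i
  omega

theorem qf_le {s : Fin l → ℤ} (hs : IsRoot cs h s) : qf A d s s ≤ qf A d r r := by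
  obtain ⟨w, i, rfl⟩ := hs
  rw [qf_root cs h H.hd]
  exact H.max i

theorem cpr_one {s : Fin l → ℤ} (hs : IsRoot cs h s) (hsr : s ≠ r) (h0 : 0 < cpr cs h s r) : cpr cs h s r = 1 := by
  have h1 := cpr_mul_qf cs h H.hd s H.rr
  have h2 := cpr_mul_qf cs h H.hd r hs
  rw [qf_comm H.hd r s] at h2
  have h3 := H.qf_pos hs
  have h4 := H.qf_le hs
  have hne : s ≠ -r := by
    rintro rfl
    rw [cpr_neg cs h _ H.rr, cpr_self cs h H.rr] at h0
    omega
  have h5 := cpr_mul_lt hs H.rr hsr hne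
  by_contra hcon
  have h6 : 2 ≤ cpr cs h s r := by omega
  have h7 : 2 ≤ cpr cs h r s := by
    by_contra h8
    have h9 : cpr cs h r s ≤ 1 := by omega
    have h10 : cpr cs h r s * qf A d s s ≤ 1 * qf A d s s := mul_le_mul_of_nonneg_right h9 h3.le
    have h11 : 2 * qf A d r r ≤ cpr cs h s r * qf A d r r := mul_le_mul_of_nonneg_right h6 (by linarith)
    linarith
  nlinarith

theorem add_not_root {x : Fin l → ℤ} (hx : IsRoot cs h x) (h0 : 0 ≤ cpr cs h x r) : ¬ IsRoot cs h (x + r) := by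
  intro h1
  have h2 := H.qf_le h1
  have h3 := H.qf_pos hx
  have h4 : qf A d (x + r) (x + r) = qf A d x x + qf A d r r + 2 * qf A d x r := by
    rw [qf_add_left, qf_comm H.hd x (x + r), qf_comm H.hd r (x + r), qf_add_left, qf_add_left, qf_comm H.hd r x]
    ring
  have h5 := cpr_mul_qf cs h H.hd x H.rr
  have h6 : 0 ≤ cpr cs h x r * qf A d r r := mul_nonneg h0 (H.qf_pos H.rr).le
  linarith

theorem hdr (i : Fin l) : 0 ≤ cpr cs h (sr i) r := by
  refine cpr_nonneg_comm H.rr (isRoot_sr cs h i) ?_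
  rw [cpr_sr]; exact H.dom i

theorem sub_mem {s : Fin l → ℤ} (hs : s ∈ Gt cs h r) (hsr : s ≠ r) : r - s ∈ Gt cs h r := by
  have h1 := H.cpr_one hs.1 hsr hs.2
  have h2 : IsRoot cs h (s - r) := isRoot_sub hs.1 H.rr h1
  refine ⟨?_, ?_⟩
  · have := h2.neg
    rwa [neg_sub] at this
  · rw [sub_eq_add_neg, cpr_add cs h _ _ H.rr, cpr_neg cs h _ H.rr, cpr_self cs h H.rr, h1]
    norm_num

theorem len_sub {s : Fin l → ℤ} (hs : s ∈ Gt cs h r) (hsr : s ≠ r) : qf A d (r - s) (r - s) = qf A d s s := by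
  have h1 := H.cpr_one hs.1 hsr hs.2
  have h2 := cpr_mul_qf cs h H.hd s H.rr
  rw [h1] at h2
  rw [qf_sub_left, qf_comm H.hd r (r - s), qf_comm H.hd s (r - s), qf_sub_left, qf_sub_left, qf_comm H.hd r s]
  linarith

end GR

namespace GI

variable {R : RGD cs h p T n X} {d r : Fin l → ℤ} (H : GI R d r) [Finite W]

include H

theorem lr : LR R r where
  root := H.rr
  comm x hx h0 u hu v hv := by
    refine H.nil x r hx H.rr ?_ (H.add_not_root hx h0) u hu v hv
    rintro rfl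
    rw [cpr_neg cs h _ H.rr, cpr_self cs h H.rr] at h0
    omega

theorem hs : Hs R r where
  L := H.lr
  sub s hs hsr := H.sub_mem hs hsr
  com s hs t ht hsr htr hst u hu v hv := by
    have h1 := H.cpr_one hs.1 hsr hs.2
    have h2 := H.cpr_one ht.1 htr ht.2
    have h3 : cpr cs h (s + t) r = 2 := by rw [cpr_add cs h _ _ H.rr, h1, h2]; norm_num
    refine H.nil s t hs.1 ht.1 ?_ ?_ u hu v hv
    · rintro rfl
      rw [neg_add_cancel] at h3
      have h4 := cpr_smul cs h 0 r H.rr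
      rw [zero_smul, zero_mul] at h4
      omega
    · intro h4
      have h5 := H.cpr_one h4 hst (by omega)
      omega
  cen := H.cen
  sur := H.sur

/-- `X r ≤ QQ ≤ U` -/
theorem QQ_le_U : QQ cs h X r ≤ RGD.Sup X (RGD.Pos cs h) :=
  RGD.Sup_mono (Gt_subset_pos H.rr H.hdr)

theorem r_pos : r ∈ RGD.Pos cs h := Gt_subset_pos H.rr H.hdr H.hs.mem_Gt

theorem cenU [Finite Y] [Fact p.Prime] (hG : GG cs h T X = ⊤)
    (hor : ∀ s, IsRoot cs h s → qf A d s s = qf A d r r → ∃ w : W, rep cs h w r = s)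
    (hC : ∀ b, IsRoot cs h b → (∀ s ∈ Gt cs h r, qf A d s s = qf A d r r → 0 ≤ cpr cs h b s) → 0 < cpr cs h b r) :
    ∃ U : Sylow p Y, ∀ x, x ∈ X r ↔ x ∈ U ∧ ∀ u ∈ U, x * u = u * x := by
  obtain ⟨U, hU⟩ := exists_sylow_U R hG
  have hmem : ∀ y, y ∈ U ↔ y ∈ RGD.Sup X (RGD.Pos cs h) := by
    intro y
    rw [← hU]; rfl
  refine ⟨U, fun x => ⟨fun hx => ?_, ?_⟩⟩
  · refine ⟨(hmem x).2 (RGD.le_Sup H.r_pos hx), fun u hu => ?_⟩
    refine (H.lr.comm' (RGD.Sup_mono (S' := Ge cs h r) (fun s hs => ⟨hs.1, ?_⟩) ((hmem u).1 hu)) hx).symm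
    exact dom_nonneg (f := ell cs h H.rr) H.hdr hs.2
  · rintro ⟨hxU, hxc⟩
    rw [hmem] at hxU
    set Psi : Set (Fin l → ℤ) := {s | s ∈ Gt cs h r ∧ qf A d s s = qf A d r r} with hPsi
    have hL : ∀ a ∈ Psi, LR R a := by
      rintro a ⟨ha, ha'⟩
      obtain ⟨w, rfl⟩ := hor a ha.1 ha'
      exact H.lr.act w
    obtain ⟨t, ht, -, y, hy, e⟩ := cent_eq R hL (star_comm hL) (g := x) (by rw [hG]; trivial) (fun a ha v hv =>
      hxc v ((hmem v).2 (H.QQ_le_U (RGD.le_Sup ha.1 hv))))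
    have hst : Star cs h Psi ⊆ Gt cs h r := fun b hb => ⟨hb.1, hC b hb.1 fun s hs hs' => hb.2 s ⟨hs, hs'⟩⟩
    have hyQ : y ∈ QQ cs h X r := RGD.Sup_mono (X := X) hst hy
    have ht1 : t = 1 := by
      have h1 : t ∈ RGD.Sup X (RGD.Pos cs h) ⊓ T := by
        refine Subgroup.mem_inf.2 ⟨?_, ht⟩
        have h2 : t = x * y⁻¹ := by rw [e]; group
        rw [h2]
        exact mul_mem hxU (inv_mem (H.QQ_le_U hyQ))
      rw [U_inf_T R, Subgroup.mem_bot] at h1
      exact h1
    rw [ht1, one_mul] at e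
    subst e
    by_contra hcon
    obtain ⟨w, hw, hw1⟩ : ∃ w ∈ X r, w ≠ 1 := by
      obtain ⟨⟨w, hw⟩, hw1⟩ := (Subgroup.ne_bot_iff_exists_ne_one).1 (X_ne_bot R H.rr)
      exact ⟨w, hw, fun h0 => hw1 (Subtype.ext h0)⟩
    obtain ⟨g, hg, e⟩ := H.hs.surj hyQ hcon hw
    apply hw1
    rw [← e, commutatorElement_eq_one_iff_mul_comm]
    exact hxc g ((hmem g).2 (H.QQ_le_U hg))

/-! ### The line -/

section Line

variable {x y : Fin l → ℤ} (hx : x ∈ Gt cs h r) (hy : y ∈ Gt cs h r) (hxy : x + y = r)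

include hx hy hxy

theorem xr : x ≠ r := by
  rintro rfl
  exact hy.1.ne_zero (by simpa using hxy)

theorem yr : y ≠ r := by
  rintro rfl
  exact hx.1.ne_zero (by simpa using hxy)

theorem y_eq : r - x = y := by rw [← hxy]; abel

theorem x_eq : r - y = x := by rw [← hxy]; abel

theorem l_comm_mem {u v : Y} (hu : u ∈ X x) (hv : v ∈ X y) : ⁅u, v⁆ ∈ X r :=
  H.cen x hx (H.xr hx hy hxy) u hu v (by rw [H.y_eq hx hy hxy]; exact hv)

theorem l_comm_r {w v : Y} (hw : w ∈ X r) (hv : v ∈ X y) : w * v = v * w := H.hs.comm_r hw hy hv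

theorem l_inf : X y ⊓ X r = ⊥ := by
  refine X_inf_X R hy.1 H.rr ?_
  intro h0
  exact H.yr hx hy hxy h0

theorem l_mem {g : Y} : g ∈ X r ⊔ X y ↔ ∃ w ∈ X r, ∃ v ∈ X y, g = w * v := by
  have h1 : X r ≤ Subgroup.normalizer (X y : Set Y) := by
    intro u hu
    rw [mem_normalizer_iff_cj]
    ext g
    rw [mem_cj]
    constructor
    · intro hg
      have h2 := H.l_comm_r hx hy hxy hu hg
      have h3 : g = u * (u⁻¹ * g * u) * u⁻¹ := by group
      rw [h3, h2]
      simpa using hg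
    · intro hg
      have h2 := H.l_comm_r hx hy hxy hu hg
      have h3 : u⁻¹ * g * u = g := by rw [mul_assoc, ← h2]; group
      rw [h3]; exact hg
  rw [← SetLike.mem_coe, Subgroup.coe_mul_of_left_le_normalizer_right _ _ h1, Set.mem_mul]
  constructor
  · rintro ⟨w, hw, v, hv, e⟩
    exact ⟨w, hw, v, hv, e.symm⟩
  · rintro ⟨w, hw, v, hv, e⟩
    exact ⟨w, hw, v, hv, e.symm⟩

theorem l_unique {w w' v v' : Y} (hw : w ∈ X r) (hw' : w' ∈ X r) (hv : v ∈ X y) (hv' : v' ∈ X y)
    (he : w * v = w' * v') : w = w' ∧ v = v' := by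
  have h1 : w'⁻¹ * w = v' * v⁻¹ := by
    rw [inv_mul_eq_iff_eq_mul, ← mul_assoc, ← he, mul_inv_cancel_right]
  have h2 : w'⁻¹ * w ∈ X y ⊓ X r := by
    refine Subgroup.mem_inf.2 ⟨?_, mul_mem (inv_mem hw') hw⟩
    rw [h1]; exact mul_mem hv' (inv_mem hv)
  rw [H.l_inf hx hy hxy, Subgroup.mem_bot] at h2
  have h3 : w = w' := (inv_mul_eq_one.1 h2).symm
  subst h3
  exact ⟨rfl, mul_left_cancel he⟩

theorem l_exists {w v : Y} (hw : w ∈ X r) (hv : v ∈ X y) (hv1 : v ≠ 1) : ∃ u ∈ X x, w * v = u * v * u⁻¹ := by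
  obtain ⟨u, hu, e⟩ := H.sur y hy (H.yr hx hy hxy) v hv hv1 w⁻¹ (inv_mem hw)
  rw [H.x_eq hx hy hxy] at hu
  refine ⟨u, hu, ?_⟩
  have : u * v * u⁻¹ = ⁅u, v⁆ * v := by rw [commutatorElement_def]; group
  rw [this, ← commutatorElement_inv, e, inv_inv]

/-- `u ↦ ⁅v, u⁆` is injective -/
theorem l_comm_inj [Finite Y] (hc : Nat.card (X x) = Nat.card (X r)) {v u u' : Y} (hv : v ∈ X y) (hv1 : v ≠ 1)
    (hu : u ∈ X x) (hu' : u' ∈ X x) (he : ⁅v, u⁆ = ⁅v, u'⁆) : u = u' := by
  let f : X x → X r := fun u => ⟨⁅v, (u : Y)⁆, H.cen y hy (H.yr hx hy hxy) v hv u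
    (by rw [H.x_eq hx hy hxy]; exact u.2)⟩
  have hf : Function.Surjective f := by
    rintro ⟨w, hw⟩
    obtain ⟨u, hu, e⟩ := H.sur y hy (H.yr hx hy hxy) v hv hv1 w hw
    rw [H.x_eq hx hy hxy] at hu
    exact ⟨⟨u, hu⟩, Subtype.ext e⟩
  have h1 := Fintype.ofFinite (X x)
  have h2 := Fintype.ofFinite (X r)
  rw [Nat.card_eq_fintype_card, Nat.card_eq_fintype_card] at hc
  have hb := (Fintype.bijective_iff_surjective_and_card f).2 ⟨hf, hc⟩
  have h3 := hb.1 (a₁ := ⟨u, hu⟩) (a₂ := ⟨u', hu'⟩) (Subtype.ext he)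
  exact congrArg Subtype.val h3

theorem l_conj_eq {u v : Y} : u * v * u⁻¹ = ⁅u, v⁆ * v := by
  rw [commutatorElement_def]; group

theorem l_conj_inj [Finite Y] (hc : Nat.card (X x) = Nat.card (X r)) {u u' v v' : Y} (hu : u ∈ X x)
    (hu' : u' ∈ X x) (hv : v ∈ X y) (hv' : v' ∈ X y) (hv1 : v ≠ 1) (he : u * v * u⁻¹ = u' * v' * u'⁻¹) :
    u = u' ∧ v = v' := by
  rw [H.l_conj_eq hx hy hxy, H.l_conj_eq hx hy hxy] at he
  obtain ⟨h1, h2⟩ := H.l_unique hx hy hxy (H.l_comm_mem hx hy hxy hu hv) (H.l_comm_mem hx hy hxy hu' hv') hv hv' he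
  subst h2
  refine ⟨?_, rfl⟩
  refine H.l_comm_inj hx hy hxy hc hv hv1 hu hu' ?_
  rw [← commutatorElement_inv, h1, commutatorElement_inv]

theorem l_conj_not_mem {u v : Y} (hu : u ∈ X x) (hv : v ∈ X y) (hv1 : v ≠ 1) : u * v * u⁻¹ ∉ X r := by
  intro h1
  rw [H.l_conj_eq hx hy hxy] at h1
  have h2 : v ∈ X y ⊓ X r := Subgroup.mem_inf.2 ⟨hv, (mul_mem_cancel_left (H.l_comm_mem hx hy hxy hu hv)).1 h1⟩
  rw [H.l_inf hx hy hxy, Subgroup.mem_bot] at h2
  exact hv1 h2

theorem l_conj_mem {u v : Y} (hu : u ∈ X x) (hv : v ∈ X y) : u * v * u⁻¹ ∈ X r ⊔ X y := by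
  rw [H.l_conj_eq hx hy hxy]
  exact mul_mem (Subgroup.mem_sup_left (H.l_comm_mem hx hy hxy hu hv)) (Subgroup.mem_sup_right hv)

theorem line_data [Finite Y] (hxo : ∃ w : W, rep cs h w r = x) (hyo : ∃ w : W, rep cs h w r = y) {q : ℕ}
    (hq : Nat.card (X r) = q) :
    ∃ (E : Subgroup Y) (g : Fin (q + 1) → Y), (∀ z, z ∈ E ↔ ∃ i, z ∈ cj (g i) (X r)) ∧
      ∀ i j, i ≠ j → ∀ z, z ∈ cj (g i) (X r) → z ∈ cj (g j) (X r) → z = 1 := by
  classical
  obtain ⟨w, hw⟩ := hyo
  obtain ⟨w', hw'⟩ := hxo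
  obtain ⟨k, hk⟩ := exists_rp cs R.nsys w
  have hky : cj k (X r) = X y := by rw [R.conj_rp hk H.rr, hw]
  have hqx : Nat.card (X x) = q := by rw [← hw', Nodes.CardSup.card_X_rep R w' H.rr, hq]
  have hc : Nat.card (X x) = Nat.card (X r) := by rw [hqx, hq]
  have hF : Nat.card (Option (X x)) = q + 1 := by
    rw [Finite.card_option, hqx]
  let e : Fin (q + 1) ≃ Option (X x) := (Finite.equivFinOfCardEq hF).symm
  let g0 : Option (X x) → Y := fun o => match o with
    | none => 1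
    | some u => (u : Y) * k
  have hg0 : ∀ u : X x, cj (g0 (some u)) (X r) = cj (u : Y) (X y) := by
    intro u
    show cj ((u : Y) * k) _ = _
    rw [cj_mul, hky]
  have hg1 : cj (g0 none) (X r) = X r := cj_one _
  refine ⟨X r ⊔ X y, fun i => g0 (e i), ?_, ?_⟩
  · intro z
    constructor
    · intro hz
      obtain ⟨w', hw', v, hv, rfl⟩ := (H.l_mem hx hy hxy).1 hz
      by_cases hv1 : v = 1
      · subst hv1
        refine ⟨e.symm none, ?_⟩
        show _ ∈ cj (g0 (e (e.symm none))) _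
        rw [e.apply_symm_apply, hg1, mul_one]
        exact hw'
      · obtain ⟨u, hu, he⟩ := H.l_exists hx hy hxy hw' hv hv1
        refine ⟨e.symm (some ⟨u, hu⟩), ?_⟩
        show _ ∈ cj (g0 (e (e.symm (some ⟨u, hu⟩)))) _
        rw [e.apply_symm_apply, hg0, he]
        exact conj_mem_cj.2 hv
    · rintro ⟨i, hi⟩
      have hi' : z ∈ cj (g0 (e i)) (X r) := hi
      rcases ho : e i with _ | u
      · rw [ho, hg1] at hi'
        exact Subgroup.mem_sup_left hi'
      · rw [ho, hg0] at hi'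
        have h1 := H.l_conj_mem hx hy hxy u.2 (mem_cj.1 hi')
        have h2 : (u : Y) * ((u : Y)⁻¹ * z * u) * (u : Y)⁻¹ = z := by group
        rwa [h2] at h1
  · intro i j hij z hi hj
    have hi' : z ∈ cj (g0 (e i)) (X r) := hi
    have hj' : z ∈ cj (g0 (e j)) (X r) := hj
    have hne : e i ≠ e j := fun h0 => hij (e.injective h0)
    by_contra hz
    have key : ∀ u : X x, z ∈ cj (u : Y) (X y) → z ∈ X r → False := by
      intro u h1 h2
      have h3 := mem_cj.1 h1
      refine H.l_conj_not_mem hx hy hxy u.2 h3 ?_ ?_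
      · intro h4
        apply hz
        have : z = (u : Y) * ((u : Y)⁻¹ * z * u) * (u : Y)⁻¹ := by group
        rw [this, h4]; group
      · have : (u : Y) * ((u : Y)⁻¹ * z * u) * (u : Y)⁻¹ = z := by group
        rw [this]; exact h2
    rcases ho : e i with _ | u <;> rcases ho' : e j with _ | u'
    · exact hne (by rw [ho, ho'])
    · rw [ho, hg1] at hi'
      rw [ho', hg0] at hj'
      exact key u' hj' hi'
    · rw [ho, hg0] at hi'
      rw [ho', hg1] at hj'
      exact key u hi' hj'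
    · rw [ho, hg0] at hi'
      rw [ho', hg0] at hj'
      obtain ⟨h4, -⟩ := H.l_conj_inj hx hy hxy hc u.2 u'.2 (mem_cj.1 hi') (mem_cj.1 hj') (by
        intro h4
        apply hz
        have : z = (u : Y) * ((u : Y)⁻¹ * z * u) * (u : Y)⁻¹ := by group
        rw [this, h4]; group) (by group)
      exact hne (by rw [ho, ho', Subtype.ext h4])

end Line

end GI

/-- every root `b` with `⟨b, s^∨⟩ ≥ 0` for the long roots `s` of `Q` lies in `Q` -/
def chkC (P : List (List ℤ × List ℤ × ℕ)) (N : ℤ) (rl : List ℤ) : Bool :=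
  P.all fun b => (decide (0 < dotL b.2.1 rl) || P.any (fun s => decide (dotL s.2.1 s.1 = N) &&
      decide (0 < dotL s.2.1 rl) && decide (dotL b.2.1 s.1 < 0))) &&
    P.any (fun s => decide (dotL s.2.1 s.1 = N) && decide (0 < dotL s.2.1 rl) && decide (0 < dotL b.2.1 s.1))

theorem qf_neg_left {A : Fin l → Fin l → ℤ} {d : Fin l → ℤ} (x y : Fin l → ℤ) : qf A d (-x) y = - qf A d x y := by
  have := qf_smul_left (A := A) (d := d) (-1) x y
  rw [neg_one_smul] at this
  rw [this]; ring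

theorem of_chkC {R : RGD cs h p T n X} [Finite W] {d : Fin l → ℤ} {e : (Fin l → ℤ) → ℕ}
    {P : List (List ℤ × List ℤ × ℕ)} (H : PR A (P.map fun p => (toV p.1 : Fin l → ℤ))) (F : FT A d e P) {N : ℤ}
    {pr : List ℤ × List ℤ × ℕ} (hpr : pr ∈ P) (GG' : GI R d (toV pr.1)) (hN : qf A d (toV pr.1) (toV pr.1) = N)
    (hC : chkC P N pr.1 = true) : ∀ b, IsRoot cs h b → (∀ s ∈ Gt cs h (toV pr.1), qf A d s s = qf A d (toV pr.1)
      (toV pr.1) → 0 ≤ cpr cs h b s) → 0 < cpr cs h b (toV pr.1) := by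
  have hsg := fun {s : Fin l → ℤ} (hs : IsRoot cs h s) (t : Fin l → ℤ) => cpr_sign GG'.hd hs (GG'.qf_pos hs) t
  have hC' : ∀ b ∈ P, ((0 < qf A d (toV b.1) (toV pr.1)) ∨ ∃ s ∈ P, qf A d (toV s.1 : Fin l → ℤ) (toV s.1) = N ∧
      0 < qf A d (toV s.1) (toV pr.1) ∧ qf A d (toV b.1) (toV s.1) < 0) ∧ ∃ s ∈ P,
      qf A d (toV s.1 : Fin l → ℤ) (toV s.1) = N ∧ 0 < qf A d (toV s.1) (toV pr.1) ∧
      0 < qf A d (toV b.1) (toV s.1) := by
    intro b hb
    unfold chkC at hC
    rw [List.all_eq_true] at hC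
    have h1 := hC b hb
    simp only [Bool.and_eq_true, Bool.or_eq_true, decide_eq_true_iff, List.any_eq_true] at h1
    obtain ⟨h1, s', hs', ⟨h3, h4⟩, h5⟩ := h1
    refine ⟨?_, s', hs', ?_, ?_, ?_⟩
    · rcases h1 with h1 | ⟨s, hs, ⟨h6, h7⟩, h8⟩
      · left; rw [F.qf_eq hb hpr]; exact h1
      · right
        refine ⟨s, hs, ?_, ?_, ?_⟩
        · rw [F.qf_eq hs hs]; exact h6
        · rw [F.qf_eq hs hpr]; exact h7
        · rw [F.qf_eq hb hs]; exact h8
    · rw [F.qf_eq hs' hs']; exact h3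
    · rw [F.qf_eq hs' hpr]; exact h4
    · rw [F.qf_eq hb hs']; exact h5
  intro b hb hst
  have hkey : ∀ s ∈ P, qf A d (toV s.1 : Fin l → ℤ) (toV s.1) = N → 0 < qf A d (toV s.1) (toV pr.1) →
      ¬ qf A d b (toV s.1) < 0 := by
    intro s hs h1 h2 h3
    have hsr : IsRoot cs h (toV s.1) := H.isRoot (List.mem_map.2 ⟨s, hs, rfl⟩)
    have h4 := hst (toV s.1) ⟨hsr, (hsg GG'.rr _).2.2 h2⟩ (by rw [h1, hN])
    have h5 := (hsg hsr b).1.2 h3
    omega
  rcases H.mem_of_root hb with h1 | h1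
  · obtain ⟨b', hb', rfl⟩ := List.mem_map.1 h1
    rcases (hC' b' hb').1 with h2 | ⟨s, hs, h3, h4, h5⟩
    · exact (hsg GG'.rr _).2.2 h2
    · exact absurd h5 (hkey s hs h3 h4)
  · exfalso
    obtain ⟨b', hb', hbe⟩ := List.mem_map.1 h1
    obtain ⟨-, s, hs, h3, h4, h5⟩ := hC' b' hb'
    have hbe' : b = - toV b'.1 := by
      have : (toV b'.1 : Fin l → ℤ) = -b := hbe
      rw [this, neg_neg]
    refine hkey s hs h3 h4 ?_
    rw [hbe', qf_neg_left]
    omega

/-- **The long root data** from a table. -/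
theorem lr_gen {R : RGD cs h p T n X} [Finite W] [Finite Y] [Fact p.Prime]
    (hG1 : Nodes.RGDLib.G1 cs h X = ⊤) {CA : List (List ℤ)} {dl : List ℤ}
    {P : List (List ℤ × List ℤ × ℕ)} (hA : ∀ i : Fin l, CA.getD i [] = List.ofFn (A i))
    {e : (Fin l → ℤ) → ℕ} (hck : chkT l CA dl (fun a => e (toV a)) P = true) {rl : List ℤ} {N : ℤ}
    (hdm : domL l CA P N = [rl]) {k : ℕ} (hgt : cntF P (fun z => decide (0 < z)) rl = 2 * k + 1)
    (hC : chkC P N rl = true) (GG' : GI R (toV dl) (toV rl)) (hN : qf A (toV dl) (toV rl) (toV rl) = N)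
    {x : Fin l → ℤ} (hx : IsRoot cs h x) (hxN : qf A (toV dl) x x = N) (hxr : 2 * qf A (toV dl) x (toV rl) = N)
    {ex : List (ℕ × ℕ)} (hex : expF P N = ex) {q f : ℕ} (hf : 1 ≤ f)
    (hqf : q = p ^ f) (hq : ∀ t, IsRoot cs h t → Nat.card (X t) = q ^ e t) (he : e (toV rl) = 1) :
    H353.TwoLong.LR p q k ((q - 1) * (ex.map fun z => q ^ z.1 + q ^ z.2).sum) (X (toV rl)) := by
  have hG : GG cs h T X = ⊤ := KFacts.RgdRigid.GG_eq_top hG1
  obtain ⟨H, F⟩ := of_chkT hA hck (e := e) (fun _ _ => rfl)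
  have hrl : rl ∈ domL l CA P N := by rw [hdm]; exact List.mem_singleton_self _
  unfold domL at hrl
  obtain ⟨pr, hpr, hpe⟩ := List.mem_map.1 hrl
  have hprP := List.mem_of_mem_filter hpr
  have hpe : pr.1 = rl := hpe
  have hdom := dom_of_chk hA F hdm hN
  set d : Fin l → ℤ := toV dl with hd
  set r : Fin l → ℤ := toV rl with hr
  have hcr : Nat.card (X r) = q := by rw [hq r GG'.rr, he, pow_one]
  have horb : ∀ s, IsRoot cs h s → qf A d s s = qf A d r r → ∃ w : W, rep cs h w r = s := fun s hs hs' =>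
    (orbit_iff H GG'.hd hdom hs).2 hs'
  have hcxr : cpr cs h x r = 1 := by
    have h1 := cpr_mul_qf cs h GG'.hd x GG'.rr
    rw [hN, hxr] at h1
    have h2 : 0 < N := by rw [← hN]; exact GG'.qf_pos GG'.rr
    exact mul_right_cancel₀ h2.ne' (by rw [h1, one_mul])
  have hxG : x ∈ Gt cs h r := ⟨hx, by rw [hcxr]; norm_num⟩
  have hxne : x ≠ r := by
    rintro rfl
    rw [cpr_self cs h GG'.rr] at hcxr
    omega
  have hyG := GG'.sub_mem hxG hxne
  have hyN : qf A d (r - x) (r - x) = N := by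
    rw [qf_sub_left, qf_comm GG'.hd r (r - x), qf_comm GG'.hd x (r - x), qf_sub_left, qf_sub_left,
      qf_comm GG'.hd r x, hN, hxN]
    linarith
  have hindex := index_tab (R := R) hG H GG'.hd GG'.lr (GG'.qf_pos GG'.rr) GG'.dom hdom (q := q) e
    (fun t ht => hq t (H.isRoot ht))
  rw [F.sum_eq, hN, hex] at hindex
  have hCC := of_chkC (R := R) (N := N) H F hprP (by rw [hpe]; exact GG') (by rw [hpe]; exact hN) (by rw [hpe]; exact hC)
  rw [hpe] at hCC
  refine ⟨Fact.out, ⟨f, hf, hqf⟩, hcr, GG'.cenU hG horb hCC, ?_, ?_, ?_⟩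
  · exact GG'.line_data hxG hyG (add_sub_cancel _ _) (horb x hx (by rw [hxN, hN]))
      (horb _ hyG.1 (by rw [hyN, hN])) hcr
  · refine heis_data GG'.hs hcr ?_
    rw [card_QQ R H GG'.hd GG'.rr (GG'.qf_pos GG'.rr) GG'.hdr e (fun t ht => hq t (H.isRoot ht)), ← hgt]
    congr 1
    have := F.cnt_eq hprP (fun z => decide (0 < z))
    rw [hpe] at this
    exact this
  · rw [← hindex]
    exact num_data hG GG'.lr hcr

/-- transport of the input -/
theorem GI.map {Y' : Type*} [Group Y'] {R : RGD cs h p T n X} {d r : Fin l → ℤ} (H : GI R d r) (f : Y ≃* Y')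
    {T' : Subgroup Y'} {n' : Fin l → Y'} (R' : RGD cs h p T' n' (fun x => (X x).map f.toMonoidHom)) :
    GI R' d r where
  toGR := H.toGR
  nil x y hx hy hne hxy := by
    rintro _ ⟨u, hu, rfl⟩ _ ⟨v, hv, rfl⟩
    have h1 := H.nil x y hx hy hne hxy u hu v hv
    show f u * f v = f v * f u
    rw [← map_mul, h1, map_mul]
  cen s hs hsr := by
    rintro _ ⟨u, hu, rfl⟩ _ ⟨v, hv, rfl⟩
    exact ⟨⁅u, v⁆, H.cen s hs hsr u hu v hv, map_commutatorElement f u v⟩
  sur s hs hsr := by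
    rintro _ ⟨u, hu, rfl⟩ hu1 _ ⟨w, hw, rfl⟩
    obtain ⟨v, hv, e⟩ := H.sur s hs hsr u hu (fun h0 => hu1 (by rw [h0]; exact map_one f)) w hw
    refine ⟨f v, ⟨v, hv, rfl⟩, ?_⟩
    rw [← e]
    exact (map_commutatorElement f u v).symm

end Cfsg.Agent.H400.TwoExc
end
end
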