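import Mathlib
import Cfsg.Agent.H400.TwoExcTabE_m3
import Cfsg.Agent.H400.TwoExcE_mg
import Cfsg.Agent.ChevFast.F4
import Cfsg.Agent.FastGrp
import Cfsg.Agent.Prune
set_option linter.all false
prune_inst 0x7f00000000000000000000000000000000000000000000000000000000000000000000000000000000000000000000000000000000000000000000000000000000000000000000000000000000000000003fffffffffffffffffffffffffffbeffbdffffffff
open scoped Cfsg.Agent.FastGrp

/-!
# 2-transitive groups with socle `F₄(q)`, `q` odd, or `G₂(q)`, `p ≠ 3` (hub H1), helper400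
-/

set_option autoImplicit false
set_option linter.unusedSectionVars false

namespace Cfsg.Agent.H400.TwoExc

open CoxeterSystem Cfsg.Agent.ChevalleyStructure.CoxeterGeom Cfsg.Agent.Tits.Roots Cfsg.Agent.Tits.Core
  Cfsg.Agent.Nodes.Reps Cfsg.Agent.Nodes.BNOf Cfsg.Agent.KFacts.RgdSL Cfsg.Agent.Nodes.RGDChev
  Cfsg.Agent.ChevalleyStructure.CoxeterGeomTypes Cfsg.Agent.Nodes.KindChev Cfsg.Agent.Nodes.Coroot
open Cfsg.Lie Cfsg.Agent.ChevalleyStructure Cfsg.Agent.ChevalleyStructure.Elts
open Cfsg.Agent.H384.TwoTrans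
open scoped commutatorElement

universe u v w

/-- the commutator terms of two roots without sum are empty -/
def chkN (D : ChevalleyDatum) : Bool := (List.range D.nroots).all fun r => (List.range D.nroots).all fun s =>
  s == r || s == D.neg r || (D.commTerms r s).isEmpty || (D.commTerms r s).any (fun c => c.2.2 == (1, 1))

/-- the shape of the commutator terms -/
def shp (R : ℕ) (m : ℤ) : List (ℕ × ℤ × ℕ × ℕ) → Bool
  | [(v, C, 1, 1)] => v == R && decide (C ∣ m)
  | _ => false

theorem of_shp {R : ℕ} {m : ℤ} {L : List (ℕ × ℤ × ℕ × ℕ)} (h : shp R m L = true) : ∃ C, C ∣ m ∧ L = [(R, C, 1, 1)] := by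
  unfold shp at h
  split at h
  · rw [Bool.and_eq_true, beq_iff_eq, decide_eq_true_iff] at h
    exact ⟨_, h.2, by rw [h.1]⟩
  · exact absurd h (by decide)

/-- the commutator terms of two roots with sum `R` -/
def chkS (D : ChevalleyDatum) (l R : ℕ) (m : ℤ) : Bool := (List.range D.nroots).all fun a =>
  (List.range D.nroots).all fun b =>
    !((List.range l).all fun i => decide (RootVec.rt D a i + RootVec.rt D b i = RootVec.rt D R i)) ||
    (a != b && a != D.neg b && shp R m (D.commTerms b a))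

theorem chkNF : chkN chevF4 = true := by (delta Cfsg.Agent.H400.TwoExc.chkN; rewrite [Cfsg.Agent.ChevFast.F4.commTerms, Cfsg.Agent.ChevFast.F4.neg]; decide +kernel)
theorem chkSF : chkS chevF4 4 47 2 = true := by decide +kernel
theorem chkNG : chkN chevG2 = true := by decide +kernel
theorem chkSG : chkS chevG2 2 11 3 = true := by decide +kernel

section Chev

variable {D : ChevalleyDatum} {l : ℕ} {M : CoxeterMatrix (Fin l)} (hp : IsType D l M) {K : Type u} [Field K]
  {W : Type*} [Group W] {cs : CoxeterSystem M W}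

include hp

theorem commX (hN : chkN D = true) {x y : Fin l → ℤ} (hx : IsRoot cs hp.isCartan x) (hy : IsRoot cs hp.isCartan y)
    (hxy : x ≠ -y) (hs : ¬ IsRoot cs hp.isCartan (x + y)) {u v : GL D.Idx K} (hu : u ∈ XV D l K x)
    (hv : v ∈ XV D l K y) : u * v = v * u := by
  obtain ⟨s, hs', rfl⟩ := (isRoot_iff hp cs x).1 hx
  obtain ⟨r, hr, rfl⟩ := (isRoot_iff hp cs y).1 hy
  rw [XV_vec hp K hs', mem_rootSubgroup_iff hp.inList] at hu
  rw [XV_vec hp K hr, mem_rootSubgroup_iff hp.inList] at hv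
  obtain ⟨a, rfl⟩ := hu
  obtain ⟨b, rfl⟩ := hv
  by_cases hsr : s = r
  · subst hsr
    rw [xG_add, xG_add, add_comm]
  have hneg : s ≠ D.neg r := by
    rintro rfl
    exact hxy (vec_neg hp hr)
  have h1 := comm_xG hp (K := K) hr hs' hsr hneg b a
  have h2 : D.commTerms r s = [] := by
    unfold chkN at hN
    rw [List.all_eq_true] at hN
    have h3 := hN r (List.mem_range.2 hr)
    rw [List.all_eq_true] at h3
    have h4 := h3 s (List.mem_range.2 hs')
    simp only [Bool.or_eq_true, beq_iff_eq, List.isEmpty_iff, List.any_eq_true] at h4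
    rcases h4 with ((h4 | h4) | h4) | ⟨⟨v, C, i, j⟩, hc, h4⟩
    · exact absurd h4 hsr
    · exact absurd h4 hneg
    · exact h4
    · exfalso
      have h5 : i = 1 ∧ j = 1 := by simpa using h4
      obtain ⟨rfl, rfl⟩ := h5
      obtain ⟨h6, -, -, -, -, h7⟩ := RootVec.commTerms_rt hp.checked hc
      apply hs
      have h8 : vec D l s + vec D l r = vec D l v := by
        funext i
        rw [Pi.add_apply, vec_apply, vec_apply, vec_apply, h7]
        push_cast
        ring
      rw [h8]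
      exact isRoot_vec hp cs h6
  have h3 : D.commWord K r s b a = [] := by
    show (D.commTerms r s).map _ = []
    rw [h2, List.map_nil]
  rw [h3, wordG_nil, commutatorElement_def, inv_inv, inv_inv] at h1
  have h4 : xG hp.inList s a * xG hp.inList r b = (xG hp.inList r b * xG hp.inList s a) *
      ((xG hp.inList s a)⁻¹ * (xG hp.inList r b)⁻¹ * xG hp.inList s a * xG hp.inList r b) := by group
  rw [h4, h1, mul_one]

theorem commS {R : ℕ} {m : ℤ} (hS : chkS D l R m = true) {a b : ℕ} (ha : a < D.nroots)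
    (hb : b < D.nroots) (hab : vec D l a + vec D l b = vec D l R) : ∃ C : ℤ, C ∣ m ∧ ∀ t u : K,
      ⁅xG hp.inList a t, xG hp.inList b u⁆ = xG hp.inList R (-((C : K) * u * t)) := by
  unfold chkS at hS
  rw [List.all_eq_true] at hS
  have h1 := hS a (List.mem_range.2 ha)
  rw [List.all_eq_true] at h1
  have h2 := h1 b (List.mem_range.2 hb)
  have h3 : ((List.range l).all fun i => decide (RootVec.rt D a i + RootVec.rt D b i = RootVec.rt D R i)) = true := by
    rw [List.all_eq_true]
    intro i hi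
    rw [decide_eq_true_iff]
    exact congrFun hab ⟨i, List.mem_range.1 hi⟩
  rw [h3, Bool.not_true, Bool.false_or, Bool.and_eq_true, Bool.and_eq_true, bne_iff_ne, bne_iff_ne] at h2
  obtain ⟨⟨h4, h5⟩, h6⟩ := h2
  obtain ⟨C, hC, h7⟩ := of_shp h6
  refine ⟨C, hC, fun t u => ?_⟩
  have h8 := comm_xG hp (K := K) hb ha h4 h5 (-u) (-t)
  have h9 : D.commWord K b a (-u) (-t) = [(R, -((C : K) * u * t))] := by
    show (D.commTerms b a).map _ = _
    rw [h7]
    simp only [List.map_cons, List.map_nil, pow_one, neg_neg, mul_neg]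
  rw [h9, ← xG_inv, ← xG_inv, inv_inv, inv_inv] at h8
  rw [h8, wordG_cons, wordG_nil, mul_one]

theorem giChev [Finite K] [Finite W] {R : ℕ} {m : ℤ} (hN : chkN D = true) (hS : chkS D l R m = true)
    (hR : R < D.nroots) (hm : (m : K) ≠ 0) {d : Fin l → ℤ} (H : GR cs hp.isCartan d (vec D l R)) (p : ℕ)
    [Fact p.Prime] [CharP K p] : GI (rgd (K := K) hp cs p) d (vec D l R) where
  toGR := H
  nil x y hx hy hne hxy := by
    rintro ⟨u, hu'⟩ hu ⟨v, hv'⟩ hv
    exact Subtype.ext (commX hp hN hx hy hne hxy hu hv)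
  cen s hs hsr := by
    rintro ⟨u, hu'⟩ hu ⟨v, hv'⟩ hv
    have hs2 := H.sub_mem hs hsr
    obtain ⟨a, ha, ea⟩ := (isRoot_iff hp cs _).1 hs.1
    obtain ⟨b, hb, eb⟩ := (isRoot_iff hp cs _).1 hs2.1
    rw [← ea, Subgroup.mem_subgroupOf, XV_vec hp K ha, mem_rootSubgroup_iff hp.inList] at hu
    rw [← eb, Subgroup.mem_subgroupOf, XV_vec hp K hb, mem_rootSubgroup_iff hp.inList] at hv
    obtain ⟨t, rfl⟩ := hu
    obtain ⟨u, rfl⟩ := hv
    obtain ⟨C, -, h1⟩ := commS hp (K := K) hS ha hb (by rw [ea, eb, add_sub_cancel])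
    rw [Subgroup.mem_subgroupOf, XV_vec hp K hR]
    show ⁅xG hp.inList a t, xG hp.inList b u⁆ ∈ _
    rw [h1]
    exact xG_mem_rootSubgroup hp.inList _ _
  sur s hs hsr := by
    rintro ⟨u, hu'⟩ hu hu1 ⟨w, hw'⟩ hw
    have hs2 := H.sub_mem hs hsr
    obtain ⟨a, ha, ea⟩ := (isRoot_iff hp cs _).1 hs.1
    obtain ⟨b, hb, eb⟩ := (isRoot_iff hp cs _).1 hs2.1
    rw [← ea, Subgroup.mem_subgroupOf, XV_vec hp K ha, mem_rootSubgroup_iff hp.inList] at hu
    rw [Subgroup.mem_subgroupOf, XV_vec hp K hR, mem_rootSubgroup_iff hp.inList] at hw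
    obtain ⟨t, ht⟩ := hu
    obtain ⟨c, hc⟩ := hw
    have ht' : u = xG hp.inList a t := ht
    have hc' : w = xG hp.inList R c := hc
    subst ht'
    subst hc'
    have ht0 : t ≠ 0 := by
      rintro rfl
      exact hu1 (Subtype.ext (xG_zero hp.inList a))
    obtain ⟨C, hC, h1⟩ := commS hp (K := K) hS ha hb (by rw [ea, eb, add_sub_cancel])
    have hC0 : (C : K) ≠ 0 := by
      obtain ⟨k, rfl⟩ := hC
      intro h0
      apply hm
      rw [Int.cast_mul, h0, zero_mul]
    refine ⟨⟨xG hp.inList b (-(C : K)⁻¹ * c * t⁻¹), xG_mem_group hp.inList _ _⟩, ?_, Subtype.ext ?_⟩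
    · rw [← eb, Subgroup.mem_subgroupOf, XV_vec hp K hb]
      exact xG_mem_rootSubgroup hp.inList _ _
    · show ⁅xG hp.inList a t, xG hp.inList b _⁆ = _
      rw [h1]
      congr 1
      field_simp

end Chev

section Rows

variable {G : Type v} {Ω : Type w} [Group G] [MulAction G Ω] {T : Subgroup G} {K : Type u} [Field K] [Finite K]
  {p : ℕ} [CharP K p]

theorem lrC (A : AS G Ω T) {D : ChevalleyDatum} {l : ℕ} {M : CoxeterMatrix (Fin l)} (hp : IsType D l M)
    (e : ↥(D.group K) ≃* ↥T) {CA : List (List ℤ)} {dl : List ℤ} {P : List (List ℤ × List ℤ × ℕ)}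
    (hA : ∀ i : Fin l, CA.getD i [] = List.ofFn (cartanOf D l i))
    (hck : chkT l CA dl (fun _ => 1) P = true) {rl : List ℤ} {N : ℤ} (hdm : domL l CA P N = [rl]) {k : ℕ}
    (hgt : cntF P (fun z => decide (0 < z)) rl = 2 * k + 1) (hC : chkC P N rl = true) {R : ℕ} (hR : R < D.nroots)
    (hvR : vec D l R = toV rl) {m : ℤ} (hN : chkN D = true) (hS : chkS D l R m = true) (hm : (m : K) ≠ 0)
    (H : ∀ {W : Type} [Group W] (cs : CoxeterSystem M W), GR cs hp.isCartan (toV dl) (toV rl))
    (hqN : qf (cartanOf D l) (toV dl) (toV rl) (toV rl) = N) {px : List ℤ × List ℤ × ℕ} (hx : px ∈ P)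
    (hxN : qf (cartanOf D l) (toV dl) (toV px.1) (toV px.1) = N)
    (hxr : 2 * qf (cartanOf D l) (toV dl) (toV px.1) (toV rl) = N) {ex : List (ℕ × ℕ)} (hex : expF P N = ex) :
    ∃ X : Subgroup ↥T, H353.TwoLong.LR p (Nat.card K) k
      ((Nat.card K - 1) * (ex.map fun z => Nat.card K ^ z.1 + Nat.card K ^ z.2).sum) X := by
  have hpp : p.Prime := (CharP.char_is_prime_or_zero K p).resolve_right (CharP.char_ne_zero_of_finite K p)
  have : Fact p.Prime := ⟨hpp⟩
  have := A.finG
  have := A.simple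
  let cs : CoxeterSystem M M.Group := M.toCoxeterSystem
  have hW : Finite M.Group := finite_W hp cs
  have R₀ := rgd (K := K) hp cs p
  have R' := Nodes.RGDLib.rgd_map_of_injective R₀ e.toMonoidHom e.injective
  have hH := H cs
  rw [← hvR] at hH
  have hgi : GI R' (toV dl) (vec D l R) := (giChev hp hN hS hR hm hH p).map e R'
  rw [hvR] at hgi
  have := Fintype.ofFinite K
  obtain ⟨f, -, hf⟩ := FiniteField.card K p
  rw [← Nat.card_eq_fintype_card] at hf
  obtain ⟨HP, -⟩ := of_chkT hA hck (e := fun _ => 1) (fun _ _ => rfl)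
  exact ⟨_, lr_gen (k := k) (e := fun _ => 1) (G1E hp e cs) hA hck hdm hgt hC hgi hqN
    (x := toV px.1) (HP.isRoot (List.mem_map.2 ⟨px, hx, rfl⟩)) hxN hxr hex f.pos hf (fun t ht => by
      obtain ⟨w, i, rfl⟩ := ht
      rw [pow_one]
      refine (Nodes.CardSup.card_X_rep R' w (isRoot_sr cs hp.isCartan i)).trans ?_
      exact card_XE hp e i) rfl⟩

theorem grF {W : Type} [Group W] (cs : CoxeterSystem CoxeterMatrix.F₄ W) (hp : IsType chevF4 4 CoxeterMatrix.F₄) :
    GR cs hp.isCartan (toV dlF4c) (toV [2, 4, 3, 2]) where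
  rr := (of_chkT (A := cartanOf chevF4 4) (by decide +kernel) chkF4c (e := fun _ => 1) (fun _ _ => rfl)).1.isRoot
    (List.mem_map.2 ⟨([2, 4, 3, 2], [0, 0, 0, 2], 1), by decide +kernel, rfl⟩)
  dom := by decide +kernel
  hd := by decide +kernel
  dpos := by decide +kernel
  max := by decide +kernel

theorem grG {W : Type} [Group W] (cs : CoxeterSystem CoxeterMatrix.G₂ W) (hp : IsType chevG2 2 CoxeterMatrix.G₂) :
    GR cs hp.isCartan (toV dlG2c) (toV [3, 2]) where
  rr := (of_chkT (A := cartanOf chevG2 2) (by decide +kernel) chkG2c (e := fun _ => 1) (fun _ _ => rfl)).1.isRoot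
    (List.mem_map.2 ⟨([3, 2], [0, 3], 1), by decide +kernel, rfl⟩)
  dom := by decide +kernel
  hd := by decide +kernel
  dpos := by decide +kernel
  max := by decide +kernel

theorem int_ne {m : ℕ} (hm : m.Prime) (h : p ≠ m) : ((m : ℤ) : K) ≠ 0 := by
  have hpp : p.Prime := (CharP.char_is_prime_or_zero K p).resolve_right (CharP.char_ne_zero_of_finite K p)
  intro h0
  rw [Int.cast_natCast, CharP.cast_eq_zero_iff K p] at h0
  exact h ((Nat.prime_dvd_prime_iff_eq hpp hm).1 h0)

theorem nF4 (A : AS G Ω T) (e : ↥(chevF4.group K) ≃* ↥T) (h2 : p ≠ 2)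
    (hB : ∀ (U : Sylow p ↥T) (a b : Ω), ∃ g ∈ Subgroup.normalizer ((U : Subgroup ↥T) : Set ↥T), g • a = b) :
    Nat.card Ω = Nat.card K ^ 8 ∨ Nat.card Ω = Nat.card K ^ 12 := by
  have hp : IsType chevF4 4 CoxeterMatrix.F₄ := by simp [IsType, typeList]
  obtain ⟨X, L⟩ := lrC (p := p) A hp e
    (CA := CAF4c) (by decide +kernel) chkF4c domF4c (k := 7) gtF4c (by decide +kernel) (R := 47) (by decide +kernel)
    (by decide +kernel) (m := 2) chkNF chkSF (by exact_mod_cast int_ne (p := p) (K := K) Nat.prime_two h2)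
    (fun cs => grF cs hp) (by decide +kernel) (px := ([2, 4, 3, 1], [0, 0, 2, -2], 1)) (by decide +kernel)
    (by decide +kernel) (by decide +kernel) expF4c
  obtain ⟨h3, h4⟩ := H353.TwoLong.main A L hB
  set q := Nat.card K with hq
  have hq2 : 2 ≤ q := two_le_card
  have hb : 2 ≤ q ^ 4 := le_trans hq2 (Nat.le_self_pow (by norm_num) q)
  rw [nat_poly (a := (q ^ 4) ^ 3) (S := q ^ 4 + 1) (by omega) (Nat.one_le_pow _ _ (by omega)) (by
    unfold exF4c
    simp only [List.map_cons, List.map_nil, List.sum_cons, List.sum_nil]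
    ring)] at h4
  rcases arithF hb (one_lt_card_Om A) (by rw [← pow_mul]; exact h3) h4 with h5 | h5
  · left; rw [h5]; ring
  · right; rw [h5]; ring

theorem nG2 (A : AS G Ω T) (e : ↥(chevG2.group K) ≃* ↥T) (h3 : p ≠ 3)
    (hB : ∀ (U : Sylow p ↥T) (a b : Ω), ∃ g ∈ Subgroup.normalizer ((U : Subgroup ↥T) : Set ↥T), g • a = b) :
    Nat.card Ω = Nat.card K ^ 3 ∨ Nat.card Ω = Nat.card K ^ 6 := by
  have hp : IsType chevG2 2 CoxeterMatrix.G₂ := by simp [IsType, typeList]
  obtain ⟨X, L⟩ := lrC (p := p) A hp e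
    (CA := CAG2c) (by decide +kernel) chkG2c domG2c (k := 2) gtG2c (by decide +kernel) (R := 11) (by decide +kernel)
    (by decide +kernel) (m := 3) chkNG chkSG (by exact_mod_cast int_ne (p := p) (K := K) Nat.prime_three h3)
    (fun cs => grG cs hp) (by decide +kernel) (px := ([3, 1], [3, -3], 1)) (by decide +kernel)
    (by decide +kernel) (by decide +kernel) expG2c
  obtain ⟨h4, h5⟩ := H353.TwoLong.main A L hB
  set q := Nat.card K with hq
  have hq2 : 2 ≤ q := two_le_card
  have hb : 2 ≤ q ^ 3 := le_trans hq2 (Nat.le_self_pow (by norm_num) q)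
  rw [nat_poly (a := (q ^ 3) ^ 2) (S := 1) (by omega) (Nat.one_le_pow _ _ (by omega)) (by
    unfold exG2c
    simp only [List.map_cons, List.map_nil, List.sum_cons, List.sum_nil]
    ring), mul_one] at h5
  rcases arithG hb (one_lt_card_Om A) h4 h5 with h6 | h6
  · left; rw [h6]
  · right; rw [h6]; ring

end Rows

end Cfsg.Agent.H400.TwoExc

private theorem dce_2c5789b72646 : _root_.True := by
  try have : _root_.True := by simp only [_root_.Cfsg.Agent.H400.TwoExc.shp._sparseCasesOn_1.else_eq]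
  try have : _root_.True := by simp only [_root_.Cfsg.Agent.H400.TwoExc.shp._sparseCasesOn_2.else_eq]
  exact _root_.True.intro
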