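import Cfsg.Agent.H400.TwoExcTabE_m3
import Cfsg.Agent.Nodes.CardSup_m3
import Cfsg.Agent.H398.FPR.Rad_m3
import Mathlib.GroupTheory.FiniteAbelian.Duality
import Cfsg.Agent.H110.Fpr.FamL_m3
import Cfsg.Agent.H400.TwoExcTwD
import Cfsg.Agent.H110.Fpr.Cls_mg_m3
import Cfsg.Agent.H441.FPR.HeisX_m3
import Cfsg.Agent.S1066
import Cfsg.Agent.S1070
import Cfsg.Agent.FastGrp
import Cfsg.Agent.Prune
set_option linter.all false
prune_inst 0x7ffcbcffabec8ddfffff7e3ffed9dffdd0e8efffe6dff9bbbfe8a9ef2bdf2380afe5fbaf6de040fe0ec3e29410387813fb7eeeffea6bdc7ffffd5ff41ffbee1fe5f7b50831d59c3e0f340ff683f177ca7f3fffffffffffffffffffffffffffbeffffffffffff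
open scoped Cfsg.Agent.FastGrp

-- part: H400/FprClosed
section
/-!
# Closed sets of positive roots by computation (helper400, TEAM FPR)
-/

set_option autoImplicit false
set_option linter.unusedSectionVars false
set_option linter.unusedVariables false

namespace Cfsg.Agent.H400.Fpr

open CoxeterSystem Cfsg.Agent.ChevalleyStructure.CoxeterGeom Cfsg.Agent.Tits.Roots Cfsg.Agent.Tits.Core
  Cfsg.Agent.Tits.Exchange Cfsg.Agent.Nodes.Reps Cfsg.Agent.Nodes.BNOf Cfsg.Agent.Nodes.StabComb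
  Cfsg.Agent.Nodes.Bruhat Cfsg.Agent.Nodes.OppDec Cfsg.Agent.Nodes.PosPair Cfsg.Agent.Nodes.Coroot
  Cfsg.Agent.Nodes.Unique
open Cfsg.Agent.H400.TwoExc

variable {l : ℕ} {W Y : Type*} [Group W] [Group Y] {M : CoxeterMatrix (Fin l)}
  {cs : CoxeterSystem M W} {A : Fin l → Fin l → ℤ} {h : IsCartan M A} {p : ℕ} {T : Subgroup Y} {n : Fin l → Y}
  {X : (Fin l → ℤ) → Subgroup Y}

/-- the sign conditions satisfied by a positive combination -/
def btw (x y z : Fin l → ℤ) : Prop := ∀ k m, (y k * z m - y m * z k).sign = (y k * x m - y m * x k).sign ∧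
  (x k * z m - x m * z k).sign = (x k * y m - x m * y k).sign

instance (x y z : Fin l → ℤ) : Decidable (btw x y z) := by unfold btw; infer_instance

theorem btw_of_btwn {x y z : Fin l → ℤ} (hb : Btwn cs h x y z) : btw x y z := by
  obtain ⟨-, m, i, j, hm, hi, hj, he⟩ := hb
  have hc : ∀ k, m * z k = i * x k + j * y k := fun k => by
    have := congrFun he k
    simpa only [_root_.Pi.smul_apply, _root_.Int.zsmul_eq_mul, _root_.zsmul_eq_mul, _root_.Pi.add_apply, _root_.Pi.mul_apply, _root_.Pi.intCast_apply, _root_.Int.cast_eq] using this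
  have sg : ∀ {a b c d : ℤ}, 0 < a → 0 < b → a * c = b * d → c.sign = d.sign := by
    intro a b c d ha hb hcd
    have h1 : (a * c).sign = (b * d).sign := by rw [hcd]
    rwa [Int.sign_mul, Int.sign_mul, Int.sign_eq_one_of_pos ha, Int.sign_eq_one_of_pos hb, one_mul, one_mul] at h1
  intro k k'
  constructor
  · refine sg hm hi ?_
    calc m * (y k * z k' - y k' * z k) = y k * (m * z k') - y k' * (m * z k) := by ring
      _ = i * (y k * x k' - y k' * x k) := by rw [hc, hc]; ring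
  · refine sg hm hj ?_
    calc m * (x k * z k' - x k' * z k) = x k * (m * z k') - x k' * (m * z k) := by ring
      _ = j * (x k * y k' - x k' * y k) := by rw [hc, hc]; ring

theorem closed_of_check {L : List (Fin l → ℤ)} (H : PR A L) {S : Finset (Fin l → ℤ)} (hS : ∀ x ∈ S, x ∈ L)
    (hc : ∀ x ∈ S, ∀ y ∈ S, ∀ z ∈ L, btw x y z → z ∈ S) : Closed cs h (S : Set (Fin l → ℤ)) := by
  intro x hx y hy z hz
  have hx' := Finset.mem_coe.1 hx
  have hy' := Finset.mem_coe.1 hy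
  have h1 := btw_of_btwn hz
  refine Finset.mem_coe.2 (hc x hx' y hy' z ?_ h1)
  obtain ⟨hzr, m, i, j, hm, hi, hj, he⟩ := hz
  refine H.mem_of_pos (cs := cs) (h := h) ⟨hzr, fun k => ?_⟩
  have h2 : m * z k = i * x k + j * y k := by
    have := congrFun he k
    simpa only [_root_.Pi.smul_apply, _root_.Int.zsmul_eq_mul, _root_.zsmul_eq_mul, _root_.Pi.add_apply, _root_.Pi.mul_apply, _root_.Pi.intCast_apply, _root_.Int.cast_eq] using this
  have h3 := H.pos x (hS x hx') k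
  have h4 := H.pos y (hS y hy') k
  simp only [Pi.zero_apply] at h3 h4 ⊢
  by_contra h5
  push Not at h5
  have h6 : m * z k < 0 := mul_neg_of_pos_of_neg hm h5
  have h7 : 0 ≤ i * x k + j * y k := add_nonneg (mul_nonneg hi.le h3) (mul_nonneg hj.le h4)
  omega

/-- the order of a product of root groups -/
theorem card_sup_check (R : RGD cs h p T n X) [Finite W] {L : List (Fin l → ℤ)} (H : PR A L)
    {S : Finset (Fin l → ℤ)} (hS : ∀ x ∈ S, x ∈ L) (hc : ∀ x ∈ S, ∀ y ∈ S, ∀ z ∈ L, btw x y z → z ∈ S) :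
    Nat.card (RGD.Sup X (S : Set (Fin l → ℤ))) = ∏ x ∈ S, Nat.card (X x) :=
  Nodes.CardSup.card_sup R (fun x hx => (H.mem_iff (cs := cs) (h := h) x).1 (hS x hx)) (closed_of_check H hS hc)

end Cfsg.Agent.H400.Fpr
end

-- part: H400/FprIso
section
/-!
# Fixed point ratios of `p`-elements: isotropic subgroups of Heisenberg groups (helper400, TEAM FPR)

`card_iso` : `Z ≤ A ≤ R`, `[A, A] ≤ S` and `Z ≰ S` imply `|A| ^ 2 ≤ |R| |Z|`.
-/

set_option autoImplicit false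
set_option linter.unusedSectionVars false
open Subgroup MulAction
open scoped Pointwise commutatorElement

namespace Cfsg.Agent.H400.Fpr

variable {Y : Type*} [Group Y]

/-- a character of `Z` trivial on `Z ∩ S` -/
theorem exists_char [Finite Y] {Z S : Subgroup Y} (hZ : ∀ a ∈ Z, ∀ b ∈ Z, a * b = b * a) (hS : ¬ Z ≤ S) :
    ∃ χ : Z →* ℂ, (∀ z : Z, (z : Y) ∈ S → χ z = 1) ∧ ∃ z : Z, χ z ≠ 1 := by
  classical
  let i1 : CommGroup Z := { (inferInstance : Group Z) with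
    mul_comm := fun a b => Subtype.ext (hZ a a.2 b b.2) }
  let N : Subgroup Z := S.subgroupOf Z
  obtain ⟨z, hz, hzS⟩ := SetLike.not_le_iff_exists.1 hS
  have hne : ((⟨z, hz⟩ : Z) : Z ⧸ N) ≠ 1 := by
    intro h
    rw [QuotientGroup.eq_one_iff] at h
    exact hzS h
  have : NeZero (Monoid.exponent (Z ⧸ N)) := ⟨Monoid.exponent_ne_zero_of_finite⟩
  obtain ⟨φ, hφ⟩ := CommGroup.exists_apply_ne_one_of_hasEnoughRootsOfUnity (Z ⧸ N) ℂ hne
  refine ⟨(Units.coeHom ℂ).comp (φ.comp (QuotientGroup.mk' N)), ?_, ⟨z, hz⟩, ?_⟩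
  · intro w hw
    have h1 : QuotientGroup.mk' N w = 1 := by
      rw [QuotientGroup.mk'_apply, QuotientGroup.eq_one_iff]
      exact hw
    show ((φ (QuotientGroup.mk' N w) : ℂˣ) : ℂ) = 1
    rw [h1, map_one, Units.val_one]
  · intro h
    apply hφ
    exact Units.ext h

theorem C2.lin {Z R : Subgroup Y} (H : C2 Z R) {a b c : Y} (ha : a ∈ R) (hb : b ∈ R) (hc : c ∈ R) :
    ⁅c, a * b⁆ = ⁅c, a⁆ * ⁅c, b⁆ := by
  have h1 : ⁅c, a * b⁆ = ⁅c, a⁆ * (a * ⁅c, b⁆ * a⁻¹) := by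
    simp only [commutatorElement_def]; group
  have h2 := H.cen _ (H.com c hc b hb) a ha
  rw [h1, ← h2, mul_inv_cancel_right]

theorem C2.lin' {Z R : Subgroup Y} (H : C2 Z R) {a b c : Y} (ha : a ∈ R) (hb : b ∈ R) (hc : c ∈ R) :
    ⁅a * b, c⁆ = ⁅a, c⁆ * ⁅b, c⁆ := by
  have h1 : ⁅a * b, c⁆ = a * ⁅b, c⁆ * a⁻¹ * ⁅a, c⁆ := by
    simp only [commutatorElement_def]; group
  have h2 := H.cen _ (H.com b hb c hc) a ha
  have h3 := H.cen _ (H.com b hb c hc) _ (H.le (H.com a ha c hc))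
  rw [h1, ← h2, mul_inv_cancel_right, h3]

/-- **Isotropic subgroups.** -/
theorem card_iso [Finite Y] {Z R A S : Subgroup Y} (H : C2 Z R) (hZA : Z ≤ A) (hAR : A ≤ R)
    (hA : ∀ a ∈ A, ∀ b ∈ A, ⁅a, b⁆ ∈ S) (hS : ¬ Z ≤ S)
    (sur : ∀ a ∈ R, a ∉ Z → ∀ z ∈ Z, ∃ b ∈ R, ⁅a, b⁆ = z) :
    Nat.card A * Nat.card A ≤ Nat.card R * Nat.card Z := by
  classical
  obtain ⟨χ, hχS, z0, hz0⟩ := exists_char (fun a ha b hb => H.cen a ha b (H.le hb)) hS
  let N : Subgroup R := A.subgroupOf R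
  have hN : N.Normal := by
    constructor
    intro a ha g
    rw [mem_subgroupOf] at ha ⊢
    exact H.conj_mem (hAR ha) g.2 hZA ha
  let F : A → R →* ℂ := fun a =>
    { toFun := fun b => χ ⟨⁅(a : Y), (b : Y)⁆, H.com a (hAR a.2) b b.2⟩
      map_one' := by
        have : (⟨⁅(a : Y), ((1 : R) : Y)⁆, H.com a (hAR a.2) _ (1 : R).2⟩ : Z) = 1 :=
          Subtype.ext (by simp only [_root_.OneMemClass.coe_one, _root_.commutatorElement_one_right])
        rw [this, map_one]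
      map_mul' := fun b c => by
        rw [← map_mul]
        congr 1
        exact Subtype.ext (H.lin b.2 c.2 (hAR a.2)) }
  have hFN : ∀ a : A, N ≤ ((F a)).ker := by
    intro a b hb
    rw [MonoidHom.mem_ker]
    exact hχS _ (hA a a.2 b hb)
  let G : A → (R ⧸ N) →* ℂ := fun a => QuotientGroup.lift N (F a) (hFN a)
  have hGinj : ∀ a b : A, G a = G b → (b : Y)⁻¹ * a ∈ Z := by
    intro a b hab
    by_contra hcon
    obtain ⟨c, hc, hcz⟩ := sur _ (mul_mem (inv_mem (hAR b.2)) (hAR a.2)) hcon z0 z0.2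
    apply hz0
    have h1 : G a ((⟨c, hc⟩ : R) : R ⧸ N) = G b ((⟨c, hc⟩ : R) : R ⧸ N) := by rw [hab]
    have h2 : χ ⟨⁅(a : Y), c⁆, H.com a (hAR a.2) c hc⟩ = χ ⟨⁅(b : Y), c⁆, H.com b (hAR b.2) c hc⟩ := h1
    have h3 : (⟨⁅(a : Y), c⁆, H.com a (hAR a.2) c hc⟩ : Z) =
        (⟨⁅(b : Y), c⁆, H.com b (hAR b.2) c hc⟩ : Z) * z0 := by
      apply Subtype.ext
      show ⁅(a : Y), c⁆ = ⁅(b : Y), c⁆ * (z0 : Y)
      rw [← hcz, ← H.lin' (hAR b.2) (mul_mem (inv_mem (hAR b.2)) (hAR a.2)) hc, mul_inv_cancel_left]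
    rw [h3, map_mul] at h2
    have h4 : χ ⟨⁅(b : Y), c⁆, H.com b (hAR b.2) c hc⟩ ≠ 0 := by
      intro h5
      have h6 : χ ⟨⁅(b : Y), c⁆, H.com b (hAR b.2) c hc⟩ *
          χ (⟨⁅(b : Y), c⁆, H.com b (hAR b.2) c hc⟩ : Z)⁻¹ = 1 := by
        rw [← map_mul, mul_inv_cancel, map_one]
      rw [h5, zero_mul] at h6
      exact zero_ne_one h6
    exact mul_left_cancel₀ h4 (h2.trans (mul_one _).symm)
  -- the count
  let Z' : Subgroup A := Z.subgroupOf A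
  have hinj : Function.Injective fun t : A ⧸ Z' => G t.out := by
    intro s t hst
    have h1 := hGinj _ _ hst.symm
    rw [← QuotientGroup.out_eq' s, ← QuotientGroup.out_eq' t, QuotientGroup.eq]
    exact h1
  have hli := (linearIndependent_monoidHom (R ⧸ N) ℂ).comp _ hinj
  have := Fintype.ofFinite (A ⧸ Z')
  have := Fintype.ofFinite (R ⧸ N)
  have h1 := hli.fintype_card_le_finrank
  rw [Module.finrank_fintype_fun_eq_card, ← Nat.card_eq_fintype_card, ← Nat.card_eq_fintype_card] at h1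
  have h2 : Nat.card A = Nat.card (A ⧸ Z') * Nat.card Z := by
    rw [Subgroup.card_eq_card_quotient_mul_card_subgroup Z', Nat.card_congr (subgroupOfEquivOfLe hZA).toEquiv]
  have h3 : Nat.card R = Nat.card (R ⧸ N) * Nat.card A := by
    rw [Subgroup.card_eq_card_quotient_mul_card_subgroup N, Nat.card_congr (subgroupOfEquivOfLe hAR).toEquiv]
  calc Nat.card A * Nat.card A = Nat.card (A ⧸ Z') * Nat.card Z * Nat.card A := by rw [← h2]
    _ ≤ Nat.card (R ⧸ N) * Nat.card Z * Nat.card A := by gcongr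
    _ = Nat.card R * Nat.card Z := by rw [h3]; ring

end Cfsg.Agent.H400.Fpr
end

-- part: H400/FprSharp
section
/-!
# Fixed point ratios of `p`-elements: the sharp Heisenberg lemma (helper400, TEAM FPR)

`x` is free on `R / Z`, `R = [Q, x] Z`, `Q` a Heisenberg group. On the orbit `R ω` of a fixed point `ω` of `x` the fixed
points of `x` form one `Z`-orbit; `|R ω| / |Z ω| ≥ M` unless `R` fixes `ω`, and `≥ B` if `Z` does not fix `ω`, where
`B² ≤ |R/Z|`. With a family of `m` such groups, `B + m - 1 ≥ m M`, the ratio of `x` is at most `1 / M`.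
-/

set_option autoImplicit false
set_option linter.unusedSectionVars false
set_option linter.unusedVariables false
open Subgroup MulAction
open scoped Pointwise commutatorElement

namespace Cfsg.Agent.H400.Fpr

open Cfsg.Agent.H398.FPR (CommFull UGood Pair stCoset mem_stCoset)
open Cfsg.Agent.H435.Fpr (PairM)
open Cfsg.Agent.H452.FprHeis (Heis wt card_orbit_mul orbit_SZ SZ_le le_SZ SZ norm_inf one_le_wt orbit_ncard_pos
  stabilizer_ne_top' Z_le_SZ norm_SZ le_of_SZ_eq)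

variable {Y : Type*} [Group Y]

/-- a Heisenberg group with weights -/
structure WH (M B : ℕ) (x : Y) (Z R : Subgroup Y) : Prop where
  heis : Heis x R Z
  low : ∀ (S : Subgroup Y) (hS : S ≤ R), x ∈ normalizer (S : Set Y) → ¬ R ≤ S →
    M * Nat.card (SZ heis S hS) ≤ Nat.card R
  big : ∀ (S : Subgroup Y) (hS : S ≤ R), ¬ Z ≤ S → B * Nat.card (SZ heis S hS) ≤ Nat.card R

namespace HX

variable {r m : ℕ} {Z Q : Subgroup Y} {x : Y} (H : HX r m Z Q x)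

theorem heis [Finite Y] : Heis x (RQ H) Z where
  le := H.Z_le_RQ
  cent := fun z hz g hg => H.c2.cen z hz g (H.RQ_le hg)
  der := fun a ha b hb => H.c2.com a (H.RQ_le ha) b (H.RQ_le hb)
  norm := norm_iff.2 H.xRQ
  fixZ := H.xZ
  free := fun y hy h => H.free hy h

/-- surjectivity inside `[Q, x] Z` -/
theorem sur_RQ [Finite Y] {v : Y} (hv : v ∈ RQ H) (hvZ : v ∉ Z) {z : Y} (hz : z ∈ Z) : ∃ b ∈ RQ H, ⁅v, b⁆ = z := by
  obtain ⟨b, hb, hbz⟩ := H.sur v (H.RQ_le hv) hvZ z hz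
  obtain ⟨c, hc, v', hv', hxc, rfl⟩ := H.decomp hb
  refine ⟨v', hv', ?_⟩
  rw [← hbz, H.lin hc (H.RQ_le hv') (H.RQ_le hv), ← commutatorElement_inv c v, H.orth hc hxc hv, inv_one, one_mul]

theorem wh [Finite Y] (hr : r.Prime) {p k M B : ℕ} (hp : p.Prime) (hm : m = p ^ k) (hne : ∃ v ∈ RQ H, v ∉ Z)
    (hM : ∀ t : ℕ, t ≠ 0 → r ^ t ≡ 1 [MOD p] → M ≤ r ^ t) (hB : B ^ 2 * Nat.card Z ≤ Nat.card (RQ H)) :
    WH M B x Z (RQ H) := by
  have hP := H.pairM hr hp hm hne hM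
  refine ⟨H.heis, ?_, ?_⟩
  · intro S hS hxS hRS
    have hcomm : ∀ z ∈ Z, ∃ a ∈ RQ H, ∃ b ∈ RQ H, z = a * b * a⁻¹ * b⁻¹ := by
      obtain ⟨v, hv, hvZ⟩ := hne
      intro z hz
      obtain ⟨b, hb, hbz⟩ := H.sur_RQ hv hvZ hz
      exact ⟨v, hv, b, hb, hbz.symm⟩
    have hlt : SZ H.heis S hS < RQ H := by
      refine lt_of_le_of_ne SZ_le fun h => hRS ?_
      exact le_of_SZ_eq (h := H.heis) (hS := hS) hcomm h.ge
    have hxA := norm_SZ (h := H.heis) (hS := hS) hxS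
    have hRA : RQ H ≤ normalizer ((SZ H.heis S hS : Subgroup Y) : Set Y) := by
      intro g hg
      rw [norm_iff]
      intro y hy
      exact (H.c2.mono H.Z_le_RQ H.RQ_le).conj_mem (SZ_le hy) hg Z_le_SZ hy
    refine hP.big _ hlt hxA hRA ?_
    intro g hg hst
    exact H.heis.free_mod Z_le_SZ SZ_le hxA hg hst.2
  · intro S hS hZS
    set A := SZ H.heis S hS with hA
    have hAS : ∀ a ∈ A, ∀ b ∈ A, ⁅a, b⁆ ∈ S := by
      rintro _ ⟨s, hs, z, hz, rfl⟩ _ ⟨t, ht, w, hw, rfl⟩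
      have hsQ := H.RQ_le (hS hs)
      have htQ := H.RQ_le (hS ht)
      have hzQ := H.c2.le hz
      have hwQ := H.c2.le hw
      rw [H.c2.lin' hsQ hzQ (mul_mem htQ hwQ),
        commutatorElement_eq_one_iff_mul_comm.2 (H.c2.cen z hz _ (mul_mem htQ hwQ)), mul_one,
        H.c2.lin htQ hwQ hsQ, commutatorElement_eq_one_iff_mul_comm.2 (H.c2.cen w hw _ hsQ).symm, mul_one,
        commutatorElement_def]
      exact mul_mem (mul_mem (mul_mem hs ht) (inv_mem hs)) (inv_mem ht)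
    have h1 := card_iso (H.c2.mono H.Z_le_RQ H.RQ_le) (Z_le_SZ (h := H.heis) (hS := hS)) SZ_le hAS hZS
      (fun a ha haZ z hz => H.sur_RQ ha haZ hz)
    have hZ0 : 0 < Nat.card Z := Nat.card_pos
    have h2 : (B * Nat.card A) ^ 2 ≤ Nat.card (RQ H) ^ 2 := by
      calc (B * Nat.card A) ^ 2 = B ^ 2 * (Nat.card A * Nat.card A) := by ring
        _ ≤ B ^ 2 * (Nat.card (RQ H) * Nat.card Z) := Nat.mul_le_mul_left _ h1
        _ = (B ^ 2 * Nat.card Z) * Nat.card (RQ H) := by ring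
        _ ≤ Nat.card (RQ H) * Nat.card (RQ H) := Nat.mul_le_mul_right _ hB
        _ = _ := by ring
    exact (Nat.pow_le_pow_iff_left two_ne_zero).1 h2

include H in
/-- conjugates under elements commuting with `x` -/
theorem conj {g : Y} (hg : g * x = x * g) : HX r m (cc g Z) (cc g Q) x := by
  have hgi : g⁻¹ * x = x * g⁻¹ := by
    rw [inv_mul_eq_iff_eq_mul, ← mul_assoc, hg, mul_inv_cancel_right]
  refine ⟨⟨cc_mono H.c2.le, ?_, ?_⟩, ?_, ?_, H.xm, H.cop, ?_, ?_⟩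
  · rintro _ ⟨z, hz, rfl⟩ _ ⟨w, hw, rfl⟩
    rw [← map_mul, H.c2.cen z hz w hw, map_mul]
  · rintro _ ⟨a, ha, rfl⟩ _ ⟨b, hb, rfl⟩
    exact ⟨⁅a, b⁆, H.c2.com a ha b hb, map_commutatorElement _ _ _⟩
  · rintro _ ⟨a, ha, rfl⟩ haZ _ ⟨z, hz, rfl⟩
    obtain ⟨b, hb, h1⟩ := H.sur a ha (fun h => haZ ⟨a, h, rfl⟩) z hz
    exact ⟨_, ⟨b, hb, rfl⟩, by rw [← h1, map_commutatorElement]⟩
  · have e : Q ≃* (cc g Q) := Subgroup.equivMapOfInjective Q (MulAut.conj g).toMonoidHom (MulAut.conj g).injective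
    exact H.rg.of_equiv e
  · rintro _ ⟨z, hz, rfl⟩
    show x * (g * z * g⁻¹) = g * z * g⁻¹ * x
    have h1 := H.xZ z hz
    calc x * (g * z * g⁻¹) = (x * g) * z * g⁻¹ := by group
      _ = g * (x * z) * g⁻¹ := by rw [← hg]; group
      _ = g * z * (x * g⁻¹) := by rw [h1]; group
      _ = _ := by rw [← hgi]; group
  · rintro _ ⟨y, hy, rfl⟩
    refine ⟨x * y * x⁻¹, H.xQ y hy, ?_⟩
    show g * (x * y * x⁻¹) * g⁻¹ = x * (g * y * g⁻¹) * x⁻¹
    calc g * (x * y * x⁻¹) * g⁻¹ = (g * x) * y * (g * x)⁻¹ := by group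
      _ = (x * g) * y * (x * g)⁻¹ := by rw [hg]
      _ = _ := by group

theorem RQ_conj {g : Y} (hg : g * x = x * g) : RQ (H.conj hg) = cc g (RQ H) := by
  have h0 : ∀ w : Y, ⁅x, g * w * g⁻¹⁆ = g * ⁅x, w⁆ * g⁻¹ := by
    intro w
    have hgx : x * g = g * x := hg.symm
    have h1 : ⁅x, g * w * g⁻¹⁆ = (x * g) * w * (x * g)⁻¹ * (g * w⁻¹ * g⁻¹) := by
      simp only [commutatorElement_def]; group
    rw [h1, hgx]
    simp only [commutatorElement_def]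
    group
  ext y
  constructor
  · rintro ⟨_, ⟨w, hw, rfl⟩, _, ⟨z, hz, rfl⟩, rfl⟩
    refine ⟨z * ⁅x, w⁆, ⟨w, hw, z, hz, rfl⟩, ?_⟩
    show g * (z * ⁅x, w⁆) * g⁻¹ = g * z * g⁻¹ * ⁅x, g * w * g⁻¹⁆
    rw [h0]; group
  · rintro ⟨_, ⟨w, hw, z, hz, rfl⟩, rfl⟩
    refine ⟨g * w * g⁻¹, ⟨w, hw, rfl⟩, g * z * g⁻¹, ⟨z, hz, rfl⟩, ?_⟩
    show g * (z * ⁅x, w⁆) * g⁻¹ = g * z * g⁻¹ * ⁅x, g * w * g⁻¹⁆
    rw [h0]; group

end HX

theorem WH.conj [Finite Y] {r m : ℕ} {Z Q : Subgroup Y} {x g : Y} (H : HX r m Z Q x) (hr : r.Prime)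
    {p k M B : ℕ} (hp : p.Prime) (hm : m = p ^ k) (hne : ∃ v ∈ RQ H, v ∉ Z)
    (hM : ∀ t : ℕ, t ≠ 0 → r ^ t ≡ 1 [MOD p] → M ≤ r ^ t) (hB : B ^ 2 * Nat.card Z ≤ Nat.card (RQ H))
    (hg : g * x = x * g) : WH M B x (cc g Z) (cc g (RQ H)) := by
  have hcard : ∀ K : Subgroup Y, Nat.card (cc g K) = Nat.card K := fun K =>
    (Nat.card_congr (Subgroup.equivMapOfInjective K (MulAut.conj g).toMonoidHom (MulAut.conj g).injective).toEquiv).symm
  have h1 := (H.conj hg).wh (B := B) hr hp hm ?_ hM ?_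
  · rwa [H.RQ_conj hg] at h1
  · obtain ⟨v, hv, hvZ⟩ := hne
    rw [H.RQ_conj hg]
    refine ⟨g * v * g⁻¹, ⟨v, hv, rfl⟩, fun h2 => hvZ ?_⟩
    rw [mem_cc] at h2
    have h3 : g⁻¹ * (g * v * g⁻¹) * g = v := by group
    rwa [h3] at h2
  · rw [H.RQ_conj hg, hcard, hcard]
    exact hB

section Wt

variable {X : Type*} [MulAction Y X] {M B : ℕ} {x : Y} {Z R : Subgroup Y}

theorem WH.M_le [Finite Y] [Finite X] (H : WH M B x Z R) {ω : X} (hω : x • ω = ω) (hR : ¬ R ≤ stabilizer Y ω) :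
    (M : ℚ) ≤ wt R Z ω := by
  obtain ⟨S, hS⟩ : ∃ S : Subgroup Y, S = R ⊓ stabilizer Y ω := ⟨_, rfl⟩
  have hSQ : S ≤ R := by rw [hS]; exact inf_le_left
  have hxS : x ∈ normalizer (S : Set Y) := by rw [hS]; exact norm_inf H.heis hω
  have hcard := H.low S hSQ hxS (fun h => hR (h.trans (by rw [hS]; exact inf_le_right)))
  have h2 := card_orbit_mul (T := R) hS hSQ le_rfl
  have h3 := card_orbit_mul (T := SZ H.heis S hSQ) hS le_SZ SZ_le
  rw [orbit_SZ (by rw [hS]; exact inf_le_right)] at h3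
  rw [← h2, ← h3] at hcard
  have h4 : M * (orbit Z ω).ncard ≤ (orbit R ω).ncard := by
    have h5 : 0 < Nat.card S := Nat.card_pos
    apply Nat.le_of_mul_le_mul_right _ h5
    calc M * (orbit Z ω).ncard * Nat.card S = M * ((orbit Z ω).ncard * Nat.card S) := by ring
      _ ≤ _ := hcard
  rw [wt, le_div_iff₀ (by exact_mod_cast orbit_ncard_pos Z ω)]
  exact_mod_cast h4

theorem WH.B_le [Finite Y] [Finite X] (H : WH M B x Z R) {ω : X} (hR : ¬ Z ≤ stabilizer Y ω) :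
    (B : ℚ) ≤ wt R Z ω := by
  obtain ⟨S, hS⟩ : ∃ S : Subgroup Y, S = R ⊓ stabilizer Y ω := ⟨_, rfl⟩
  have hSQ : S ≤ R := by rw [hS]; exact inf_le_left
  have hcard := H.big S hSQ (fun h => hR (h.trans (by rw [hS]; exact inf_le_right)))
  have h2 := card_orbit_mul (T := R) hS hSQ le_rfl
  have h3 := card_orbit_mul (T := SZ H.heis S hSQ) hS le_SZ SZ_le
  rw [orbit_SZ (by rw [hS]; exact inf_le_right)] at h3
  rw [← h2, ← h3] at hcard
  have h4 : B * (orbit Z ω).ncard ≤ (orbit R ω).ncard := by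
    have h5 : 0 < Nat.card S := Nat.card_pos
    apply Nat.le_of_mul_le_mul_right _ h5
    calc B * (orbit Z ω).ncard * Nat.card S = B * ((orbit Z ω).ncard * Nat.card S) := by ring
      _ ≤ _ := hcard
  rw [wt, le_div_iff₀ (by exact_mod_cast orbit_ncard_pos Z ω)]
  exact_mod_cast h4

end Wt

/-- **Families of Heisenberg groups.** -/
theorem uGood_of_wh [Finite Y] {ι : Type*} [Fintype ι] [Nonempty ι] {M B : ℕ} {x : Y} {Zf Rf : ι → Subgroup Y}
    (hW : ∀ i, WH M B x (Zf i) (Rf i)) (hB : Fintype.card ι * M + 1 ≤ B + Fintype.card ι)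
    (hK : ∀ K : Subgroup Y, x ∈ K → (∃ i, Rf i ≤ K) → (∀ j, Zf j ≤ K) → K = ⊤) : UGood 1 M x := by
  classical
  intro H hH
  have := Fintype.ofFinite (Y ⧸ H)
  have hι : 0 < Fintype.card ι := Fintype.card_pos
  have a1 : ∀ i, ∑ ω ∈ Finset.univ.filter (fun ω : Y ⧸ H => x • ω = ω), wt (Rf i) (Zf i) ω ≤
      (Fintype.card (Y ⧸ H) : ℚ) := fun i => (hW i).heis.sum_wt (X := Y ⧸ H)
  have hw : ∀ ω ∈ Finset.univ.filter (fun ω : Y ⧸ H => x • ω = ω),
      ((Fintype.card ι * M : ℕ) : ℚ) ≤ ∑ i, wt (Rf i) (Zf i) ω := by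
    intro ω hω
    have hxω : x • ω = ω := (Finset.mem_filter.1 hω).2
    have hst := stabilizer_ne_top' hH ω
    have w1 : ∀ i, 1 ≤ wt (Rf i) (Zf i) ω := fun i => one_le_wt (hW i).heis.le ω
    by_cases b1 : ∃ i, Rf i ≤ stabilizer Y ω
    · obtain ⟨j, hj⟩ : ∃ j, ¬ Zf j ≤ stabilizer Y ω := by
        by_contra hcon
        push Not at hcon
        exact hst (hK _ hxω b1 hcon)
      have h1 := (hW j).B_le hj
      have h2 : wt (Rf j) (Zf j) ω + ∑ i ∈ Finset.univ.erase j, wt (Rf i) (Zf i) ω =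
          ∑ i, wt (Rf i) (Zf i) ω :=
        Finset.add_sum_erase (f := fun i => wt (Rf i) (Zf i) ω) _ (Finset.mem_univ j)
      have h3 : ((Fintype.card ι - 1 : ℕ) : ℚ) ≤ ∑ i ∈ Finset.univ.erase j, wt (Rf i) (Zf i) ω := by
        calc ((Fintype.card ι - 1 : ℕ) : ℚ) = ∑ i ∈ Finset.univ.erase j, (1 : ℚ) := by
              rw [Finset.sum_const, Finset.card_erase_of_mem (Finset.mem_univ j), Finset.card_univ, nsmul_eq_mul,
                mul_one]
          _ ≤ _ := Finset.sum_le_sum fun i _ => w1 i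
      rw [← h2]
      have h4 : ((Fintype.card ι * M : ℕ) : ℚ) ≤ (B : ℚ) + ((Fintype.card ι - 1 : ℕ) : ℚ) := by
        have : Fintype.card ι * M ≤ B + (Fintype.card ι - 1) := by omega
        exact_mod_cast this
      linarith only [h1, h3, h4]
    · push Not at b1
      calc ((Fintype.card ι * M : ℕ) : ℚ) = ∑ i : ι, (M : ℚ) := by
            rw [Finset.sum_const, Finset.card_univ, nsmul_eq_mul]; push_cast; ring
        _ ≤ _ := Finset.sum_le_sum fun i _ => (hW i).M_le hxω (b1 i)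
  have h3 := Finset.sum_le_sum hw
  rw [Finset.sum_const, nsmul_eq_mul, Finset.sum_comm] at h3
  have h4 : (Finset.univ.filter (fun ω : Y ⧸ H => x • ω = ω)).card =
      Nat.card (fixedBy (Y ⧸ H) x) := by
    rw [Nat.card_coe_set_eq, Set.ncard_eq_toFinset_card']
    congr 1
    ext y
    simp [mem_fixedBy]
  rw [h4] at h3
  have h5 : ∑ i : ι, ∑ ω ∈ Finset.univ.filter (fun ω : Y ⧸ H => x • ω = ω), wt (Rf i) (Zf i) ω ≤
      (Fintype.card ι : ℚ) * (Fintype.card (Y ⧸ H) : ℚ) := by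
    calc _ ≤ ∑ i : ι, (Fintype.card (Y ⧸ H) : ℚ) := Finset.sum_le_sum fun i _ => a1 i
      _ = _ := by rw [Finset.sum_const, Finset.card_univ, nsmul_eq_mul]
  have h6 := h3.trans h5
  rw [← Nat.card_eq_fintype_card (α := Y ⧸ H)] at h6
  have h7 : Nat.card (fixedBy (Y ⧸ H) x) * (Fintype.card ι * M) ≤ Fintype.card ι * Nat.card (Y ⧸ H) := by
    exact_mod_cast h6
  have h8 : Fintype.card ι * (M * Nat.card (fixedBy (Y ⧸ H) x)) ≤ Fintype.card ι * Nat.card (Y ⧸ H) := by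
    calc _ = Nat.card (fixedBy (Y ⧸ H) x) * (Fintype.card ι * M) := by ring
      _ ≤ _ := h7
  rw [one_mul]
  exact Nat.le_of_mul_le_mul_left h8 hι

/-- **The sharp Heisenberg lemma.** -/
theorem heis_sharp [Finite Y] {r m p k D M B : ℕ} (hr : r.Prime) (hp : p.Prime) (hm : m = p ^ k)
    {Z Q : Subgroup Y} {x n : Y} (H : HX r m Z Q x) (hxn : n * x = x * n) (hx : ∃ w ∈ Q, x * w ≠ w * x)
    (hM : ∀ t : ℕ, t ≠ 0 → r ^ t ≡ 1 [MOD p] → M ≤ r ^ t) (hB : B ^ 2 * Nat.card Z ≤ Nat.card (RQ H))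
    (hD : (D + 2) * M + 1 ≤ B + (D + 2)) (e : Fin D → Y) (he : ∀ i, e i * x = x * e i)
    (hK : ∀ K : Subgroup Y, x ∈ K → Z ≤ K → cc n Z ≤ K → (∀ i, cc (e i) (cc n Z) ≤ K) →
      (RQ H ≤ K ∨ cc n (RQ H) ≤ K ∨ ∃ i, cc (e i) (cc n (RQ H)) ≤ K) → K = ⊤) : UGood 1 M x := by
  have hne := H.exists_ne hx
  let g : Option (Option (Fin D)) → Y := fun a => match a with
    | none => 1
    | some none => n
    | some (some i) => e i * n
  have hg : ∀ a, g a * x = x * g a := by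
    rintro (_ | _ | i)
    · show 1 * x = x * 1
      rw [one_mul, mul_one]
    · exact hxn
    · show e i * n * x = x * (e i * n)
      rw [mul_assoc, hxn, ← mul_assoc, he i, mul_assoc]
  have h5 : Fintype.card (Option (Option (Fin D))) = D + 2 := by
    rw [Fintype.card_option, Fintype.card_option, Fintype.card_fin]
  refine uGood_of_wh (Zf := fun a => cc (g a) Z) (Rf := fun a => cc (g a) (RQ H))
    (fun a => WH.conj H hr hp hm hne hM hB (hg a)) (by rw [h5]; exact hD) ?_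
  intro K hxK hR hZ
  have hZ1 : Z ≤ K := by have := hZ none; rwa [show g none = 1 from rfl, cc_one] at this
  refine hK K hxK hZ1 (hZ (some none)) (fun i => ?_) ?_
  · rw [cc_cc]; exact hZ (some (some i))
  · obtain ⟨a, ha⟩ := hR
    rcases a with _ | _ | i
    · left
      rwa [show g none = 1 from rfl, cc_one] at ha
    · exact Or.inr (Or.inl ha)
    · refine Or.inr (Or.inr ⟨i, ?_⟩)
      rw [cc_cc]; exact ha

end Cfsg.Agent.H400.Fpr
end

-- part: H400/FprSharpRgd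
section
/-!
# Fixed point ratios of `p`-elements: the sharp Heisenberg lemma for root data (helper400, TEAM FPR)

* `sharp_rgd` : `q > 2`, a lower bound of `|[Q, x] Z|` suffices;
* `sharp_root` : `C_Q(x)` generated by root elements (for `q = 2`).
-/

set_option autoImplicit false
set_option linter.unusedSectionVars false
set_option linter.unusedVariables false
open Subgroup MulAction
open scoped Pointwise commutatorElement

namespace Cfsg.Agent.H400.Fpr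

open Cfsg.Agent.H398.FPR (CommFull UGood Pair)

section Grp

variable {Y : Type*} [Group Y]

/-- `|C_Q(x)| |[Q, x] Z| ≤ |Q| |Z|` -/
theorem HX.card_mul [Finite Y] {r m : ℕ} {Z Q : Subgroup Y} {x : Y} (H : HX r m Z Q x) :
    Nat.card (Q ⊓ centralizer {x} : Subgroup Y) * Nat.card (RQ H) ≤ Nat.card Q * Nat.card Z := by
  classical
  set C : Subgroup Y := Q ⊓ centralizer {x} with hC
  have hCmem : ∀ y, y ∈ C ↔ y ∈ Q ∧ y * x = x * y := fun y => by
    rw [hC, mem_inf, mem_centralizer_singleton_iff]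
  have hZC : Z ≤ C := fun z hz => (hCmem z).2 ⟨H.c2.le hz, (H.xZ z hz).symm⟩
  let Z' : Subgroup C := Z.subgroupOf C
  let f : (C ⧸ Z') × RQ H → Q := fun a => ⟨(a.1.out : C) * (a.2 : Y),
    mul_mem ((hCmem _).1 (a.1.out : C).2).1 (H.RQ_le a.2.2)⟩
  have hinj : Function.Injective f := by
    rintro ⟨c, v⟩ ⟨d, w⟩ hvw
    have h1 : ((c.out : C) : Y) * v = ((d.out : C) : Y) * w := congrArg Subtype.val hvw
    have h2 : ((d.out : C) : Y)⁻¹ * ((c.out : C) : Y) = (w : Y) * (v : Y)⁻¹ := by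
      rw [inv_mul_eq_iff_eq_mul, ← mul_assoc, ← h1, mul_inv_cancel_right]
    have h3 : ((d.out : C) : Y)⁻¹ * ((c.out : C) : Y) ∈ Z := by
      have h4 : ((d.out : C) : Y)⁻¹ * ((c.out : C) : Y) ∈ C := mul_mem (inv_mem (d.out : C).2) (c.out : C).2
      have h5 := ((hCmem _).1 h4).2
      have h6 : ((d.out : C) : Y)⁻¹ * ((c.out : C) : Y) ∈ RQ H := by
        rw [h2]; exact mul_mem w.2 (inv_mem v.2)
      apply H.free h6
      rw [commutatorElement_eq_one_iff_mul_comm.2 h5.symm]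
      exact one_mem _
    have h4 : c = d := by
      rw [← QuotientGroup.out_eq' c, ← QuotientGroup.out_eq' d, eq_comm, QuotientGroup.eq]
      exact h3
    subst h4
    have h5 : (v : Y) = w := mul_left_cancel h1
    rw [Subtype.ext h5]
  have h1 := Nat.card_le_card_of_injective f hinj
  rw [Nat.card_prod] at h1
  have h2 : Nat.card C = Nat.card (C ⧸ Z') * Nat.card Z := by
    rw [Subgroup.card_eq_card_quotient_mul_card_subgroup Z', Nat.card_congr (subgroupOfEquivOfLe hZC).toEquiv]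
  calc Nat.card C * Nat.card (RQ H) = (Nat.card (C ⧸ Z') * Nat.card (RQ H)) * Nat.card Z := by rw [h2]; ring
    _ ≤ _ := Nat.mul_le_mul_right _ h1

/-- **The sharp Heisenberg lemma**, with a scalar. -/
theorem heis_sharp_sc [Finite Y] {r m p k q D M B : ℕ} (hr : r.Prime) (hp : p.Prime) (hm : m = p ^ k)
    {Z Q : Subgroup Y} {x n h : Y} (H : HX r m Z Q x) (S : Sc q Z Q h) (hn : n ∈ Z ⊔ cc n Z) (hh : h ∈ Z ⊔ cc n Z)
    (hgen : Q ⊔ cc n Q = ⊤) (hxn : n * x = x * n) (hxh : h * x = x * h) (hx : ∃ w ∈ Q, x * w ≠ w * x)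
    (hM : ∀ t : ℕ, t ≠ 0 → r ^ t ≡ 1 [MOD p] → M ≤ r ^ t) (hB : B ^ 2 * Nat.card Z ≤ Nat.card (RQ H))
    (hcard : Nat.card (Q ⊓ centralizer {x} : Subgroup Y) < q ^ (D + 1) * Nat.card Z)
    (hD : (D + 2) * M + 1 ≤ B + (D + 2)) : UGood 1 M x := by
  let C : Subgroup Y := Q ⊓ centralizer {x}
  have hCmem : ∀ y, y ∈ C ↔ y ∈ Q ∧ y * x = x * y := fun y => by
    rw [mem_inf, mem_centralizer_singleton_iff]
  have hCC : ∀ y ∈ C, h * y * h⁻¹ ∈ C := by
    intro y hy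
    rw [hCmem] at hy ⊢
    refine ⟨S.hQ y hy.1, ?_⟩
    have hxh' : Commute h x := hxh
    have hxy : Commute y x := hy.2
    exact ((hxh'.mul_left hxy).mul_left hxh'.inv_left)
  have hZC : Z ≤ C := fun z hz => (hCmem z).2 ⟨H.c2.le hz, (H.xZ z hz).symm⟩
  obtain ⟨e, he, hgenC⟩ := S.gens H.c2 (inf_le_left : C ≤ Q) hCC D Z le_rfl hZC S.hZ hcard
  refine heis_sharp hr hp hm H hxn hx hM hB hD e (fun i => ((hCmem _).1 (he i)).2) ?_
  intro K hxK hZK hZK' hZe hR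
  have hLK : Z ⊔ cc n Z ≤ K := sup_le hZK hZK'
  have hnK : n ∈ K := hLK hn
  have hhK : h ∈ K := hLK hh
  -- the conjugates of `h`
  have hhe : ∀ i, e i * h * (e i)⁻¹ ∈ K := by
    intro i
    have h4 : cc (e i) (Z ⊔ cc n Z) ≤ K := by
      have h5 : cc (e i) (Z ⊔ cc n Z) = cc (e i) Z ⊔ cc (e i) (cc n Z) := Subgroup.map_sup _ _ _
      rw [h5]
      refine sup_le ?_ (hZe i)
      rintro _ ⟨z, hz, rfl⟩
      have h5 := H.c2.cen z hz _ ((hCmem _).1 (he i)).1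
      show e i * z * (e i)⁻¹ ∈ K
      rw [← h5, mul_inv_cancel_right]
      exact hZK hz
    exact h4 (conj_mem_cc hh)
  -- `e i ∈ K`
  have heK : ∀ i, e i ∈ K := by
    intro i
    let V : Subgroup Y := K ⊓ Q
    have hV : ∀ y ∈ V, h * y * h⁻¹ ∈ V := fun y hy =>
      mem_inf.2 ⟨mul_mem (mul_mem hhK (mem_inf.1 hy).1) (inv_mem hhK), S.hQ y (mem_inf.1 hy).2⟩
    have hZV : Z ≤ V := le_inf hZK H.c2.le
    have heQ := ((hCmem _).1 (he i)).1
    have h4 : ⁅h, e i⁆ ∈ V := by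
      refine mem_inf.2 ⟨?_, ?_⟩
      · have h5 : ⁅h, e i⁆ = h * (e i * h * (e i)⁻¹)⁻¹ := by rw [commutatorElement_def]; group
        rw [h5]
        exact mul_mem hhK (inv_mem (hhe i))
      · rw [commutatorElement_def]
        exact mul_mem (S.hQ _ heQ) (inv_mem heQ)
    have hf : ∀ v ∈ Q, ⁅h, v⁆ ∈ Z → v ∈ Z := by
      intro v hv h5
      apply S.free 1 one_pos (by have := S.two; omega) v hv
      rwa [pow_one]
    exact (mem_inf.1 (H.c2.free_sub S.hZ hf hZV inf_le_right hV heQ h4)).1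
  have hCK : C ≤ K := hgenC K hZK (fun y hy => mul_mem (mul_mem hhK hy) (inv_mem hhK)) heK
  have hback : ∀ g ∈ K, ∀ V : Subgroup Y, cc g V ≤ K → V ≤ K := by
    intro g hg V hV
    have h1 := cc_le (inv_mem hg) hV
    rwa [cc_cc, inv_mul_cancel, cc_one] at h1
  have hRK : RQ H ≤ K := by
    rcases hR with h1 | h1 | ⟨i, h1⟩
    · exact h1
    · exact hback _ hnK _ h1
    · exact hback _ hnK _ (hback _ (heK i) _ h1)
  have hQK : Q ≤ K := by
    intro w hw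
    obtain ⟨c, hc, v, hv, hxc, rfl⟩ := H.decomp hw
    exact mul_mem (hCK ((hCmem c).2 ⟨hc, hxc.symm⟩)) (hRK hv)
  rw [eq_top_iff, ← hgen]
  exact sup_le hQK (cc_le hnK hQK)

end Grp

open CoxeterSystem Cfsg.Agent.ChevalleyStructure.CoxeterGeom Cfsg.Agent.Tits.Roots Cfsg.Agent.Tits.Core
  Cfsg.Agent.Tits.Exchange Cfsg.Agent.Nodes.Reps Cfsg.Agent.Nodes.BNOf Cfsg.Agent.Nodes.StabComb
  Cfsg.Agent.Nodes.Bruhat Cfsg.Agent.Nodes.OppDec Cfsg.Agent.Nodes.PosPair Cfsg.Agent.Nodes.Coroot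
  Cfsg.Agent.KFacts.RgdPar Cfsg.Agent.KFacts.RgdSL Cfsg.Agent.KFacts.RgdTI Cfsg.Agent.Nodes.LeviDec
  Cfsg.Agent.H400.TwoExc

variable {I W Y : Type*} [Fintype I] [DecidableEq I] [Group W] [Group Y] {M : CoxeterMatrix I}
  {cs : CoxeterSystem M W} {A : I → I → ℤ} {h : IsCartan M A} {p : ℕ} {T : Subgroup Y} {n : I → Y}
  {X : (I → ℤ) → Subgroup Y}

/-- generation by two opposite Heisenberg groups -/
theorem QQ_gen {R : RGD cs h p T n X} {r : I → ℤ} [Finite W] [Finite Y] (H : Hs R r) (hs : IsSimpleGroup Y)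
    (hG1 : Cfsg.Agent.Nodes.RGDLib.G1 cs h X = ⊤) {m : Y} (hm : m ∈ X r ⊔ X (-r))
    (hcjQ : cj m (QQ cs h X r) = QQ cs h X (-r)) :
    QQ cs h X r ⊔ cc m (QQ cs h X r) = ⊤ := by
  have hr := H.L.root
  have hX2 : ∀ s, IsRoot cs h s → s ∈ Gt cs h r ∨ cpr cs h s r = 0 ∨ s ∈ Gt cs h (-r) := by
    intro s hs
    rcases lt_trichotomy (cpr cs h s r) 0 with h0 | h0 | h0
    · exact Or.inr (Or.inr ⟨hs, by rw [cpr_neg_right cs h _ hr]; omega⟩)
    · exact Or.inr (Or.inl h0)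
    · exact Or.inl ⟨hs, h0⟩
  rw [cc_eq_cj]
  set K := QQ cs h X r ⊔ cj m (QQ cs h X r) with hK
  have hnorm : K.Normal := by
    have h1 : Cfsg.Agent.Nodes.RGDLib.G1 cs h X ≤ Subgroup.normalizer (K : Set Y) := by
      refine RGD.Sup_le fun s hs => ?_
      rcases hX2 s hs with h0 | h0 | h0
      · exact ((H.X_le h0).trans le_sup_left).trans Subgroup.le_normalizer
      · intro a ha
        have haL : a ∈ L0 cs h X r := RGD.le_Sup (S := {s | IsRoot cs h s ∧ cpr cs h s r = 0}) ⟨hs, h0⟩ ha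
        have ham : a * m = m * a := L0_comm H haL hm
        have h2 := L0_norm H haL
        refine norm_iff.2 ?_
        have h3 : K ≤ K.comap (MulAut.conj a).toMonoidHom := by
          refine sup_le (fun y hy => Subgroup.mem_sup_left (h2 y hy)) ?_
          rintro _ ⟨y, hy, rfl⟩
          show a * (m * y * m⁻¹) * a⁻¹ ∈ K
          have h4 : a * (m * y * m⁻¹) * a⁻¹ = m * (a * y * a⁻¹) * m⁻¹ := by
            calc a * (m * y * m⁻¹) * a⁻¹ = (a * m) * y * (a * m)⁻¹ := by group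
              _ = (m * a) * y * (m * a)⁻¹ := by rw [ham]
              _ = _ := by group
          rw [h4]
          exact Subgroup.mem_sup_right (conj_mem_cj.2 (h2 y hy))
        exact fun y hy => h3 hy
      · have h1 : X s ≤ cj m (QQ cs h X r) := by
          rw [hcjQ]
          exact RGD.le_Sup h0
        exact (h1.trans le_sup_right).trans Subgroup.le_normalizer
    rw [hG1, top_le_iff] at h1
    exact Subgroup.normalizer_eq_top_iff.1 h1
  rcases hs.eq_bot_or_eq_top_of_normal K hnorm with h1 | h1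
  · exfalso
    have h2 : X r ≤ K := H.X_le_QQ.trans le_sup_left
    rw [h1, le_bot_iff] at h2
    exact X_ne_bot R hr h2
  · exact h1

/-- the basic data for an element of the Levi subgroup -/
theorem hx_rgd {R : RGD cs h p T n X} {r : I → ℤ} [Finite W] [Finite Y] [Fact p.Prime] (H : Hs R r)
    {ℓ k : ℕ} (hℓ : ℓ.Prime) (hℓp : ℓ ≠ p) {x : Y} (hx : x ∈ L0 cs h X r) (hxk : x ^ ℓ ^ k = 1)
    (hQp : IsPGroup p (QQ cs h X r)) : HX p (ℓ ^ k) (X r) (QQ cs h X r) x := by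
  have hp : p.Prime := Fact.out
  refine ⟨c2_of_hs H, fun a ha haz z hz => H.surj ha haz hz, hQp, hxk, ?_, ?_, L0_norm H hx⟩
  · intro s
    exact Nat.Coprime.pow _ _ ((Nat.coprime_primes hℓ hp).2 hℓp)
  · intro z hz
    exact L0_comm H hx (Subgroup.mem_sup_left hz)

/-- an element of the Levi subgroup moves `Q` -/
theorem exists_moved {R : RGD cs h p T n X} {r : I → ℤ} [Finite W] [Finite Y] (H : Hs R r)
    (hcen : Subgroup.center Y = ⊥) {m : Y} (hgen : QQ cs h X r ⊔ cc m (QQ cs h X r) = ⊤) {x : Y} (hx1 : x ≠ 1)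
    (hmx : m * x = x * m) : ∃ w ∈ QQ cs h X r, x * w ≠ w * x := by
  by_contra hcon
  push Not at hcon
  apply hx1
  have h1 : (⊤ : Subgroup Y) ≤ Subgroup.centralizer {x} := by
    rw [← hgen]
    have h2 : QQ cs h X r ≤ Subgroup.centralizer {x} := fun w hw =>
      Subgroup.mem_centralizer_singleton_iff.2 (hcon w hw).symm
    exact sup_le h2 (cc_le (Subgroup.mem_centralizer_singleton_iff.2 hmx) h2)
  rw [← Subgroup.mem_bot, ← hcen, Subgroup.mem_center_iff]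
  intro y
  exact Subgroup.mem_centralizer_singleton_iff.1 (h1 (Subgroup.mem_top y))

/-- **The sharp Heisenberg lemma** for a long root, `q > 2`; `|[Q, x] Z / Z| ≥ q ^ c`, `|Q / Z| ≤ q ^ (c + D)`. -/
theorem sharp_rgd {R : RGD cs h p T n X} {r : I → ℤ} [Finite W] [Finite Y] [Fact p.Prime] (H : Hs R r)
    (hs : IsSimpleGroup Y) (hcen : Subgroup.center Y = ⊥) (hG1 : Cfsg.Agent.Nodes.RGDLib.G1 cs h X = ⊤)
    {q c D ℓ k M' : ℕ} {g : Y} (S : ScR R r q g) (hℓ : ℓ.Prime) (hℓp : ℓ ≠ p) {x : Y} (hx : x ∈ L0 cs h X r)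
    (hxk : x ^ ℓ ^ k = 1) (hx1 : x ≠ 1) (hQp : IsPGroup p (QQ cs h X r))
    (hV : ∀ V : Subgroup Y, X r ≤ V → V ≤ QQ cs h X r → (∀ w ∈ QQ cs h X r, ⁅x, w⁆ ∈ V) →
      q ^ (2 * c) * Nat.card (X r) ≤ Nat.card V)
    (hcard : Nat.card (QQ cs h X r) ≤ q ^ (2 * c + D) * Nat.card (X r))
    (hM : ∀ t : ℕ, t ≠ 0 → p ^ t ≡ 1 [MOD ℓ] → M' ≤ p ^ t) (hD : (D + 2) * M' + 1 ≤ q ^ c + (D + 2)) :
    UGood 1 M' x := by
  have hp : p.Prime := Fact.out
  have hr := H.L.root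
  obtain ⟨m, hm, hmX⟩ := exists_refl R hr
  have hcj : cj m (X r) = X (-r) := by
    rw [hmX r hr, cpr_self cs h hr]
    congr 1
    rw [two_smul]; abel
  have hcjQ := cj_QQ (R := R) hr hmX
  have HXx := hx_rgd H hℓ hℓp hx hxk hQp
  have hgen := QQ_gen H hs hG1 hm hcjQ
  have hmx : m * x = x * m := (L0_comm H hx hm).symm
  have hRc := hV (RQ HXx) HXx.Z_le_RQ HXx.RQ_le (fun w hw => HXx.comm_mem_RQ hw)
  have hZ0 : 0 < Nat.card (X r) := Nat.card_pos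
  have hq0 : 0 < q := by have := S.two; omega
  refine heis_sharp_sc hp hℓ rfl HXx (S.sc H) ?_ ?_ hgen hmx (L0_comm H hx S.mem).symm
    (exists_moved H hcen hgen hx1 hmx) hM (B := q ^ c) ?_ ?_ hD
  · rw [cc_eq_cj, hcj]; exact hm
  · rw [cc_eq_cj, hcj]; exact S.mem
  · rw [← pow_mul, mul_comm c 2]; exact hRc
  · have h1 := HXx.card_mul
    have h2 : Nat.card (QQ cs h X r ⊓ centralizer {x} : Subgroup Y) * (q ^ (2 * c) * Nat.card (X r)) ≤
        (q ^ D * Nat.card (X r)) * (q ^ (2 * c) * Nat.card (X r)) := by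
      calc _ ≤ Nat.card (QQ cs h X r ⊓ centralizer {x} : Subgroup Y) * Nat.card (RQ HXx) :=
            Nat.mul_le_mul_left _ hRc
        _ ≤ Nat.card (QQ cs h X r) * Nat.card (X r) := h1
        _ ≤ q ^ (2 * c + D) * Nat.card (X r) * Nat.card (X r) := Nat.mul_le_mul_right _ hcard
        _ = _ := by rw [pow_add]; ring
    have h3 := Nat.le_of_mul_le_mul_right h2 (Nat.mul_pos (pow_pos hq0 _) hZ0)
    refine h3.trans_lt ((Nat.mul_lt_mul_right hZ0).2 ?_)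
    exact Nat.pow_lt_pow_right (by have := S.two; omega) (Nat.lt_succ_self D)

/-- **The sharp Heisenberg lemma** for a long root; `[Q, x] Z` contains the root groups outside `S₀`, the root groups in
`S₀` have order `2` and commute with `x`. -/
theorem sharp_root {R : RGD cs h p T n X} {r : I → ℤ} [Finite W] [Finite Y] [Fact p.Prime] (H : Hs R r)
    (hs : IsSimpleGroup Y) (hcen : Subgroup.center Y = ⊥) (hG1 : Cfsg.Agent.Nodes.RGDLib.G1 cs h X = ⊤)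
    {ℓ k M' B D : ℕ} (hℓ : ℓ.Prime) (hℓp : ℓ ≠ p) {x : Y} (hx : x ∈ L0 cs h X r)
    (hxk : x ^ ℓ ^ k = 1) (hx1 : x ≠ 1) (hQp : IsPGroup p (QQ cs h X r)) (s0 : Fin D → I → ℤ)
    (h0 : ∀ i, s0 i ∈ Gt cs h r) (h0r : ∀ i, s0 i ≠ r) (h02 : ∀ i, Nat.card (X (s0 i)) = 2)
    (h0x : ∀ i, ∀ u ∈ X (s0 i), u * x = x * u)
    (h0c : ∀ i, ∃ z ∈ X (-r), ∀ u ∈ X (s0 i), u ≠ 1 → ⁅z, u⁆ ∈ X (s0 i - r) ∧ ⁅z, u⁆ ≠ 1)
    (h0s : ∀ i, cpr cs h (s0 i) r = 1)
    (h1 : ∀ s ∈ Gt cs h r, s ≠ r → (∃ i, s = s0 i) ∨ ∀ V : Subgroup Y, X r ≤ V → V ≤ QQ cs h X r →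
      (∀ w ∈ QQ cs h X r, ⁅x, w⁆ ∈ V) → X s ≤ V)
    (hV : ∀ V : Subgroup Y, X r ≤ V → V ≤ QQ cs h X r → (∀ w ∈ QQ cs h X r, ⁅x, w⁆ ∈ V) →
      B ^ 2 * Nat.card (X r) ≤ Nat.card V)
    (hM : ∀ t : ℕ, t ≠ 0 → p ^ t ≡ 1 [MOD ℓ] → M' ≤ p ^ t) (hD : (D + 2) * M' + 1 ≤ B + (D + 2)) :
    UGood 1 M' x := by
  have hp : p.Prime := Fact.out
  have hr := H.L.root
  obtain ⟨m, hm, hmX⟩ := exists_refl R hr
  have hcj : cj m (X r) = X (-r) := by
    rw [hmX r hr, cpr_self cs h hr]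
    congr 1
    rw [two_smul]; abel
  have hcjQ := cj_QQ (R := R) hr hmX
  have HXx := hx_rgd H hℓ hℓp hx hxk hQp
  have hgen := QQ_gen H hs hG1 hm hcjQ
  have hmx : m * x = x * m := (L0_comm H hx hm).symm
  -- the generators
  have he0 : ∀ i, ∃ u ∈ X (s0 i), u ≠ 1 := fun i =>
    (Subgroup.bot_or_exists_ne_one (X (s0 i))).resolve_left (X_ne_bot R (h0 i).1)
  choose e he he1 using he0
  have hX2 : ∀ i, ∀ u ∈ X (s0 i), u = 1 ∨ u = e i := by
    intro i u hu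
    have h3 := (Nat.card_eq_two_iff' (1 : X (s0 i))).1 (h02 i)
    obtain ⟨v, hv, huniq⟩ := h3
    by_cases hu1 : u = 1
    · exact Or.inl hu1
    · right
      have e1 := huniq ⟨u, hu⟩ (fun h => hu1 (congrArg Subtype.val h))
      have e2 := huniq ⟨e i, he i⟩ (fun h => he1 i (congrArg Subtype.val h))
      exact congrArg Subtype.val (e1.trans e2.symm)
  refine heis_sharp hp hℓ rfl HXx hmx (exists_moved H hcen hgen hx1 hmx) hM
    (hV (RQ HXx) HXx.Z_le_RQ HXx.RQ_le (fun w hw => HXx.comm_mem_RQ hw)) hD e (fun i => h0x i _ (he i)) ?_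
  intro K hxK hZK hZK' hZe hR
  rw [cc_eq_cj, hcj] at hZK'
  have hmK : m ∈ K := (sup_le hZK hZK' : X r ⊔ X (-r) ≤ K) hm
  have heK : ∀ i, e i ∈ K := by
    intro i
    obtain ⟨z, hz, hzu⟩ := h0c i
    obtain ⟨h2, h3⟩ := hzu _ (he i) (he1 i)
    have h4 : ⁅z, e i⁆ ∈ K := by
      have h5 : e i * z * (e i)⁻¹ ∈ K := by
        refine hZe i ?_
        rw [cc_eq_cj m, hcj]
        exact conj_mem_cc hz
      have h6 : ⁅z, e i⁆ = z * (e i * z * (e i)⁻¹)⁻¹ := by rw [commutatorElement_def]; group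
      rw [h6]
      exact mul_mem (hZK' hz) (inv_mem h5)
    have hroot : IsRoot cs h (s0 i - r) := by
      rcases eq_or_ne (s0 i) r with h7 | h7
      · exact absurd h7 (h0r i)
      · have h8 := (H.sub _ (h0 i) h7).1.neg
        rwa [neg_sub] at h8
    have h7 : cj m (X (s0 i - r)) = X (s0 i) := by
      have e1 : cpr cs h (s0 i - r) r = -1 := by
        rw [sub_eq_add_neg, cpr_add cs h _ _ hr, h0s i, cpr_neg cs h _ hr, cpr_self cs h hr]
        norm_num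
      rw [hmX _ hroot, e1]
      congr 1
      module
    have h8 : m * ⁅z, e i⁆ * m⁻¹ ∈ X (s0 i) := by
      rw [← h7]; exact conj_mem_cj.2 h2
    have h9 : m * ⁅z, e i⁆ * m⁻¹ ≠ 1 := by
      intro h10
      apply h3
      have h11 : ⁅z, e i⁆ = m⁻¹ * (m * ⁅z, e i⁆ * m⁻¹) * m := by group
      rw [h11, h10]; group
    rcases hX2 i _ h8 with h10 | h10
    · exact absurd h10 h9
    · rw [← h10]
      exact mul_mem (mul_mem hmK h4) (inv_mem hmK)
  have hback : ∀ g ∈ K, ∀ V : Subgroup Y, cc g V ≤ K → V ≤ K := by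
    intro g hg V hV
    have h1 := cc_le (inv_mem hg) hV
    rwa [cc_cc, inv_mul_cancel, cc_one] at h1
  have hRK : RQ HXx ≤ K := by
    rcases hR with h1 | h1 | ⟨i, h1⟩
    · exact h1
    · exact hback _ hmK _ h1
    · exact hback _ hmK _ (hback _ (heK i) _ h1)
  have hQK : QQ cs h X r ≤ K := by
    refine RGD.Sup_le fun s hs' => ?_
    rcases eq_or_ne s r with h2 | h2
    · rw [h2]; exact hZK
    · rcases h1 s hs' h2 with ⟨i, rfl⟩ | h3
      · intro u hu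
        rcases hX2 i u hu with h4 | h4
        · rw [h4]; exact one_mem _
        · rw [h4]; exact heK i
      · exact (h3 (RQ HXx) HXx.Z_le_RQ HXx.RQ_le (fun w hw => HXx.comm_mem_RQ hw)).trans hRK
  rw [eq_top_iff, ← hgen]
  exact sup_le hQK (cc_le hmK hQK)

end Cfsg.Agent.H400.Fpr
end

-- part: H400/FprE6A
section
/-!
# Fixed point ratios of `p`-elements: `²E₆(q)`, the nodes and the scalar torus elements (helper400, TEAM FPR)
-/

set_option autoImplicit false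
set_option linter.unusedSectionVars false
set_option linter.unusedVariables false

namespace Cfsg.Agent.H400.Fpr.E6

open CoxeterSystem Cfsg.Agent.ChevalleyStructure.CoxeterGeom Cfsg.Agent.Tits.Roots Cfsg.Agent.Tits.Core
  Cfsg.Agent.Nodes.Reps Cfsg.Agent.Nodes.BNOf Cfsg.Agent.Nodes.RGDTwGen Cfsg.Agent.Nodes.RGDChev Cfsg.Agent.Nodes.RGDFold
  Cfsg.Agent.Nodes.RGDFoldSL Cfsg.Agent.Nodes.RGDTwE6 Cfsg.Agent.Nodes.RGDTwCoord Cfsg.Agent.Nodes.RGDTwCoordE6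
  Cfsg.Agent.Nodes.RGDTwComE6 Cfsg.Agent.Nodes.RGDTwActE6 Cfsg.Agent.Nodes.KindChev Cfsg.Agent.Nodes.Coroot
  Cfsg.Agent.Nodes.PosPair Cfsg.Agent.Nodes.LeviDec Cfsg.Agent.Nodes.StabComb Cfsg.Agent.Nodes.Bruhat
  Cfsg.Agent.Nodes.Unique Cfsg.Agent.KFacts.RgdTI
open Cfsg.Lie Cfsg.Agent.ChevalleyStructure
open Cfsg.Agent.H400.TwoExc Cfsg.Agent.H400.TwoExc.TwE
open Cfsg.Agent.H398.FPR (CommFull UGood Pair)
open Cfsg.Agent.H400.Fpr.D4 (up_zero hS_mul hS_one hS_pow)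
open Cfsg.Agent.ChevalleyStructure.SL2Hom (up lo mem_closure_SL2)
open scoped commutatorElement MatrixGroups

universe u

local notation "cl" => Nodes.RGDTwCoord.cl chevE6 J O

variable {K : Type u} [Field K] [Fintype K] {q : ℕ} {φ : K →+* K}

section Nodes

variable (hφ : ∀ x, φ x = x ^ q) (hqq : ∀ t : K, (t ^ q) ^ q = t)

theorem hf (φ : K →+* K) (i : Fin 4) : ∀ s ∈ Nodes.RGDTwNode.E6.rep i :: Nodes.RGDTwNode.E6.rest i, ∀ t,
    ((TwistedE6Sigma.eps s : ℤ) : K) * φ t = φ t :=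
  fun s hs t => by rw [Nodes.RGDTwNode.E6.eps_one i s hs, Int.cast_one, one_mul]

/-- the homomorphism of the node `i` -/
noncomputable def Ph (i : Fin 4) :
    Matrix.SpecialLinearGroup (Fin 2) (Fx φ ((Nodes.RGDTwNode.E6.rest i).length + 1)) →* ↥(twistedE6 K q) :=
  Phi (foldGrp hφ hqq) (Nodes.RGDTwNode.E6.nodeOK i) (hf φ i)

theorem mem_X_Ph (i : Fin 4) (g : ↥(twistedE6 K q)) : g ∈ X φ q (sr i) ↔ ∃ a, g = Ph hφ hqq i (up a) :=
  mem_X_iff (foldGrp hφ hqq) (Nodes.RGDTwNode.E6.nodeOK i) (hf φ i) g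

theorem Ph_wS (i : Fin 4) : Ph hφ hqq i (wS 1) = _root_.Cfsg.Agent.Nodes.RGDTwE6.nn hφ i :=
  Phi_wS (foldGrp hφ hqq) (Nodes.RGDTwNode.E6.nodeOK i) (hf φ i)

theorem Ph_up_lo (i : Fin 4)
    (t : Fx φ ((Nodes.RGDTwNode.E6.rest i).length + 1)) : Ph hφ hqq i (lo t) ∈ X φ q (-sr i) := by
  obtain ⟨p, hp'⟩ := CharP.exists K
  have : Fact p.Prime := ⟨CharP.char_is_prime K p⟩
  have R := Nodes.RGDTwE6.rgd (K := K) CoxeterMatrix.F₄.toCoxeterSystem hφ hqq p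
  have hcj : cj (_root_.Cfsg.Agent.Nodes.RGDTwE6.nn hφ i) (X φ q (sr i)) = X φ q (-sr i) := by
    rw [R.conj i _ (isRoot_sr CoxeterMatrix.F₄.toCoxeterSystem isCartan i), rep_simple_sr]
  rw [lo_eq, map_mul, map_mul, map_inv, Ph_wS, ← hcj]
  exact conj_mem_cj.2 ((mem_X_Ph hφ hqq i _).2 ⟨_, rfl⟩)

theorem Ph_mem (i : Fin 4)
    (g : Matrix.SpecialLinearGroup (Fin 2) (Fx φ ((Nodes.RGDTwNode.E6.rest i).length + 1))) :
    Ph hφ hqq i g ∈ X φ q (sr i) ⊔ X φ q (-sr i) := by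
  have h1 : Subgroup.closure (Set.range (up (F := Fx φ ((Nodes.RGDTwNode.E6.rest i).length + 1))) ∪
      Set.range (lo (F := Fx φ ((Nodes.RGDTwNode.E6.rest i).length + 1)))) ≤
      (X φ q (sr i) ⊔ X φ q (-sr i)).comap (Ph hφ hqq i) := by
    refine (Subgroup.closure_le _).2 ?_
    rintro x (⟨t, rfl⟩ | ⟨t, rfl⟩)
    · exact Subgroup.mem_sup_left ((mem_X_Ph hφ hqq i _).2 ⟨t, rfl⟩)
    · exact Subgroup.mem_sup_right (Ph_up_lo hφ hqq i t)
  exact h1 (mem_closure_SL2 g)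

theorem up_inj (i : Fin 4) {a b : Fx φ ((Nodes.RGDTwNode.E6.rest i).length + 1)}
    (h : Ph hφ hqq i (up a) = Ph hφ hqq i (up b)) : a = b :=
  Phi_up_injective (foldGrp hφ hqq) (Nodes.RGDTwNode.E6.nodeOK i) (hf φ i) h

theorem Ph_disj (i : Fin 4) (a b : Fx φ ((Nodes.RGDTwNode.E6.rest i).length + 1))
    (h : Ph hφ hqq i (up a) = Ph hφ hqq i (lo b)) : a = 0 ∧ b = 0 := by
  obtain ⟨p, hp'⟩ := CharP.exists K
  have : Fact p.Prime := ⟨CharP.char_is_prime K p⟩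
  have hW : Finite CoxeterMatrix.F₄.Group := Nodes.RGDFold.finite_W (hp := Nodes.RGDTwE6.hp)
    CoxeterMatrix.F₄.toCoxeterSystem isCartan foldData
  have R := Nodes.RGDTwE6.rgd (K := K) CoxeterMatrix.F₄.toCoxeterSystem hφ hqq p
  have h1 : Ph hφ hqq i (lo b) ∈ X φ q (-sr i) ⊓ RGD.B CoxeterMatrix.F₄.toCoxeterSystem isCartan
      (T K q) (X φ q) := by
    refine ⟨Ph_up_lo hφ hqq i b, ?_⟩
    rw [← h]
    exact RGD.X_le_B (isRoot_sr _ isCartan i) (sr_nonneg i) ((mem_X_Ph hφ hqq i _).2 ⟨a, rfl⟩)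
  rw [neg_inf_B R i, Subgroup.mem_bot] at h1
  have ha : a = 0 := by
    apply up_inj hφ hqq i
    rw [h, h1, up_zero, map_one]
  refine ⟨ha, ?_⟩
  rw [lo_eq, map_mul, map_mul, map_inv, conj_eq_one_iff] at h1
  have h2 := up_inj hφ hqq i (a := -b) (b := 0) (by rw [h1, up_zero, map_one])
  exact neg_eq_zero.1 h2

include hφ hqq in
theorem okN_iff {j : Fin 4} {d : K} (hdj : OkN φ j d) : φ^[(Nodes.RGDTwNode.E6.rest j).length + 1] d = d := by
  rcases hdj with h | h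
  · have h2 : ∀ j : Fin 4, 2 ≤ (j : ℕ) → (Nodes.RGDTwNode.E6.rest j).length = 1 := by decide
    rw [h2 j h]
    exact phi_phi hφ hqq d
  · have h2 : ∀ k : ℕ, φ^[k] d = d := by
      intro k
      induction k with
      | zero => rfl
      | succ k ih => rw [Function.iterate_succ_apply, h, ih]
    exact h2 _

include hφ hqq

/-- the torus elements of the nodes -/
theorem hh_eq {j : Fin 4} {d : K} (hd : d ≠ 0) (hdj : OkN φ j d) :
    hh φ q j d = Ph hφ hqq j (hS ⟨d, mem_Fx.2 (okN_iff hφ hqq hdj)⟩) := by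
  apply Subtype.ext
  rw [(coe_hh hφ hqq hd hdj).1]
  show _ = Nodes.RGDFoldSL.Ph hp K (Nodes.RGDTwNode.E6.nodeOK j) φ (Matrix.SpecialLinearGroup.map _ (hS _))
  rw [map_hS]
  exact (hv_eq_hI (Nodes.RGDTwNode.E6.nodeOK j).Jn (Nodes.RGDTwNode.E6.nodeOK j).lt _).symm

theorem hh_mem {j : Fin 4} {d : K} (hd : d ≠ 0) (hdj : OkN φ j d) :
    hh φ q j d ∈ X φ q (sr j) ⊔ X φ q (-sr j) := by
  rw [hh_eq hφ hqq hd hdj]
  exact Ph_mem hφ hqq j _

theorem hh_pow {j : Fin 4} {d : K} (hd : d ≠ 0) (hdj : OkN φ j d) {i : ℕ} (hi : d ^ i = 1) :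
    hh φ q j d ^ i = 1 := by
  rw [hh_eq hφ hqq hd hdj, ← map_pow, hS_pow (fun h => hd (congrArg Subtype.val h))]
  have h1 : (⟨d, mem_Fx.2 (okN_iff hφ hqq hdj)⟩ : Fx φ ((Nodes.RGDTwNode.E6.rest j).length + 1)) ^ i = 1 :=
    Subtype.ext hi
  rw [h1, hS_one, map_one]

end Nodes

/-! ### Transport of scalar actions -/

/-- `SPar` is compatible with conjugation -/
theorem SPar.cj {Y : Type*} [Group Y] {K : Type*} [Field K] {V : Subgroup Y} {g : Y} {t : K} (h : SPar V g t) (w : Y) :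
    SPar (cj w V) (w * g * w⁻¹) t := by
  obtain ⟨F, ev, h1, h2, h3, h4, h5⟩ := h
  refine ⟨F, fun a => w * ev a * w⁻¹, h1, ?_, ?_, ?_, ?_⟩
  · intro u
    constructor
    · intro hu
      obtain ⟨v, hv, rfl⟩ := hu
      obtain ⟨a, ha, rfl⟩ := (h2 v).1 hv
      exact ⟨a, ha, rfl⟩
    · rintro ⟨a, ha, rfl⟩
      exact conj_mem_cj.2 ((h2 _).2 ⟨a, ha, rfl⟩)
  · intro a ha b hb
    show w * ev (a + b) * w⁻¹ = w * ev a * w⁻¹ * (w * ev b * w⁻¹)
    rw [h3 a ha b hb]; group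
  · intro a ha b hb hab
    exact h4 a ha b hb (mul_left_cancel (mul_right_cancel hab))
  · intro a ha
    show w * g * w⁻¹ * (w * ev a * w⁻¹) * (w * g * w⁻¹)⁻¹ = w * ev (t * a) * w⁻¹
    rw [← h5 a ha]; group

end Cfsg.Agent.H400.Fpr.E6
end

-- part: H400/FprE6B
section
/-!
# Fixed point ratios of `p`-elements: `²E₆(q)`, the Heisenberg group and its scalars (helper400, TEAM FPR)
-/

set_option autoImplicit false
set_option linter.unusedSectionVars false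
set_option linter.unusedVariables false

namespace Cfsg.Agent.H400.Fpr.E6

open CoxeterSystem Cfsg.Agent.ChevalleyStructure.CoxeterGeom Cfsg.Agent.Tits.Roots Cfsg.Agent.Tits.Core
  Cfsg.Agent.Nodes.Reps Cfsg.Agent.Nodes.BNOf Cfsg.Agent.Nodes.RGDTwGen Cfsg.Agent.Nodes.RGDChev Cfsg.Agent.Nodes.RGDFold
  Cfsg.Agent.Nodes.RGDFoldSL Cfsg.Agent.Nodes.RGDTwE6 Cfsg.Agent.Nodes.RGDTwCoord Cfsg.Agent.Nodes.RGDTwCoordE6
  Cfsg.Agent.Nodes.RGDTwComE6 Cfsg.Agent.Nodes.RGDTwActE6 Cfsg.Agent.Nodes.KindChev Cfsg.Agent.Nodes.Coroot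
  Cfsg.Agent.Nodes.PosPair Cfsg.Agent.Nodes.LeviDec Cfsg.Agent.Nodes.StabComb Cfsg.Agent.Nodes.Bruhat
  Cfsg.Agent.Nodes.Unique Cfsg.Agent.KFacts.RgdTI
open Cfsg.Lie Cfsg.Agent.ChevalleyStructure
open Cfsg.Agent.H400.TwoExc Cfsg.Agent.H400.TwoExc.TwE
open Cfsg.Agent.H398.FPR (CommFull UGood Pair)
open scoped commutatorElement MatrixGroups

universe u

local notation "cl" => Nodes.RGDTwCoord.cl chevE6 J O

/-- the highest root -/
def rr : Fin 4 → ℤ := toV [2, 3, 4, 2]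

variable {K : Type u} [Field K] [Fintype K] {q : ℕ} {φ : K →+* K}

section

variable {W : Type*} [Group W] [Finite W] {cs : CoxeterSystem CoxeterMatrix.F₄ W}

theorem exists_w (cs : CoxeterSystem CoxeterMatrix.F₄ W) : ∃ w : W, rep cs isCartan w rr = sr 0 := by
  have H := pr cs
  refine (orbit_iff (cs := cs) (h := isCartan) H.1 (d := toV dlF4t) (gr (cs := cs)).hd (r := rr) ?_
    (isRoot_sr cs isCartan 0)).2 (by decide +kernel)
  intro v hv h1 h2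
  have h3 : ∀ px ∈ PF4t, (∀ i : Fin 4, 0 ≤ pairing Nodes.RGDTwE6.A i (toV px.1)) →
      qf Nodes.RGDTwE6.A (toV dlF4t) (toV px.1 : Fin 4 → ℤ) (toV px.1) =
        qf Nodes.RGDTwE6.A (toV dlF4t) rr rr → (toV px.1 : Fin 4 → ℤ) = rr := by decide +kernel
  obtain ⟨px, hpx, rfl⟩ := List.mem_map.1 hv
  exact h3 px hpx h1 h2

variable (hφ : ∀ x, φ x = x ^ q) (hqq : ∀ t : K, (t ^ q) ^ q = t)

include hφ hqq

/-- scalar action of `h_{α₀}(t)` -/
theorem spar_node {z : Fin 4 → ℤ} (hz : IsRoot cs isCartan z) {t : K} (ht : φ t = t) (ht0 : t ≠ 0) {c : ℕ}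
    (hc : pairing Nodes.RGDTwE6.A 0 z = c) : SPar (X φ q z) (hh φ q 0 t) (t ^ c) := by
  have hdj : OkN φ 0 t := Or.inr ht
  have hsc : sc φ 0 z t = t ^ c := by
    unfold sc
    rw [if_pos (by norm_num), hc, zpow_natCast]
  rcases long_or_short hz with lz | sz
  · refine ⟨Fx φ 1, _root_.Cfsg.Agent.Nodes.RGDTwComE6.x φ q z, _root_.pow_mem (show t ∈ Fx φ 1 from mem_Fx.2 ht) c, ?_, ?_, ?_, ?_⟩
    · intro u
      rw [mem_X_long hφ hqq hz lz]
      exact ⟨fun ⟨a, ha, h⟩ => ⟨a, mem_Fx.2 ha, h⟩, fun ⟨a, ha, h⟩ => ⟨a, mem_Fx.1 ha, h⟩⟩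
    · intro a ha b hb
      exact x_add hφ hqq hz (ok_long hz lz (mem_Fx.1 ha)) (ok_long hz lz (mem_Fx.1 hb))
    · intro a ha b hb h
      exact x_inj hφ hqq hz (ok_long hz lz (mem_Fx.1 ha)) (ok_long hz lz (mem_Fx.1 hb)) h
    · intro a ha
      have h1 := (conj_hh hφ hqq hz ht0 hdj (ok_long hz lz (mem_Fx.1 ha))).2
      rwa [hsc] at h1
  · refine ⟨⊤, _root_.Cfsg.Agent.Nodes.RGDTwComE6.x φ q z, Subfield.mem_top _, ?_, ?_, ?_, ?_⟩
    · intro u
      rw [mem_X_short hφ hqq hz sz]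
      simp
    · intro a ha b hb
      exact x_add hφ hqq hz (ok_short hφ hqq hz sz a) (ok_short hφ hqq hz sz b)
    · intro a ha b hb h
      exact x_inj hφ hqq hz (ok_short hφ hqq hz sz a) (ok_short hφ hqq hz sz b) h
    · intro a ha
      have h1 := (conj_hh hφ hqq hz ht0 hdj (ok_short hφ hqq hz sz a)).2
      rwa [hsc] at h1

/-- **The scalar elements** of the highest root. -/
theorem exists_scalar (cs : CoxeterSystem CoxeterMatrix.F₄ W) {t : K} (ht : φ t = t) (ht0 : t ≠ 0) :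
    ∃ g ∈ X φ q rr ⊔ X φ q (-rr), (∀ s ∈ Gt cs isCartan rr, s ≠ rr → SPar (X φ q s) g t) ∧
      SPar (X φ q rr) g (t ^ 2) ∧ ∀ i, t ^ i = 1 → g ^ i = 1 := by
  obtain ⟨p, hp'⟩ := CharP.exists K
  have : Fact p.Prime := ⟨CharP.char_is_prime K p⟩
  have R := Nodes.RGDTwE6.rgd (K := K) cs hφ hqq p
  obtain ⟨w, hw⟩ := exists_w cs
  obtain ⟨g, hg⟩ := exists_rp cs R.nsys w⁻¹
  have hr : IsRoot cs isCartan rr := (gr (cs := cs)).rr
  have hX : ∀ z, IsRoot cs isCartan z → cj g (X φ q (rep cs isCartan w z)) = X φ q z := by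
    intro z hz
    rw [R.conj_rp hg (hz.act w), rep_inv_apply]
  have hwn : rep cs isCartan w (-rr) = -sr 0 := by rw [map_neg, hw]
  have hpair : ∀ s, IsRoot cs isCartan s → pairing Nodes.RGDTwE6.A 0 (rep cs isCartan w s) = cpr cs isCartan s rr := by
    intro s hs
    rw [← cpr_rep cs isCartan w s hr, hw, cpr_sr]
  refine ⟨g * hh φ q 0 t * g⁻¹, ?_, ?_, ?_, ?_⟩
  · have h1 := hh_mem hφ hqq ht0 (Or.inr ht : OkN φ 0 t)
    have h2 : cj g (X φ q (sr 0) ⊔ X φ q (-sr 0)) = X φ q rr ⊔ X φ q (-rr) := by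
      rw [cj_sup, ← hw, hX _ hr, ← map_neg, hX _ hr.neg]
    rw [← h2]
    exact conj_mem_cj.2 h1
  · intro s hs hsr
    have h1 : cpr cs isCartan s rr = 1 := (gr (cs := cs)).cpr_one hs.1 hsr hs.2
    have h2 := SPar.cj (spar_node hφ hqq (hs.1.act w) ht ht0 (c := 1) (by rw [hpair s hs.1, h1]; rfl)) g
    rwa [hX s hs.1, pow_one] at h2
  · have h2 := SPar.cj (spar_node hφ hqq (hr.act w) ht ht0 (c := 2) (by rw [hpair _ hr, cpr_self cs _ hr]; rfl)) g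
    rwa [hX _ hr] at h2
  · intro i hi
    rw [conj_pow, hh_pow hφ hqq ht0 (Or.inr ht) hi, mul_one, mul_inv_cancel]

omit hqq in
theorem exists_gen' (hK : Fintype.card K = q ^ 2) (hq1 : 1 < q) :
    ∃ t : K, φ t = t ∧ t ≠ 0 ∧ orderOf t = q - 1 := by
  have hc : Nat.card (Fx φ 1) = q := by
    refine Eq.trans (Nat.card_congr (Equiv.subtypeEquivRight fun x => ?_))
      (ChevalleyStructure.FixedCard.card_fixed hq1 hK)
    rw [mem_Fx, Function.iterate_one, hφ]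
  obtain ⟨g, hg⟩ := IsCyclic.exists_generator (α := (Fx φ 1)ˣ)
  have h1 : orderOf g = q - 1 := by
    rw [orderOf_eq_card_of_forall_mem_zpowers hg, Nat.card_units, hc]
  refine ⟨((g : Fx φ 1) : K), mem_Fx.1 (g : Fx φ 1).2, fun h => g.ne_zero (Subtype.ext h), ?_⟩
  rw [← h1, ← orderOf_units, ← orderOf_injective (Fx φ 1).subtype.toMonoidHom (Fx φ 1).subtype.injective]
  rfl

theorem exists_scR (hK : Fintype.card K = q ^ 2) (hq2 : 2 < q) (p : ℕ) [Fact p.Prime] [CharP K p] :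
    ∃ g, ScR (Nodes.RGDTwE6.rgd cs hφ hqq p) rr q g := by
  obtain ⟨t, ht, ht0, hto⟩ := exists_gen' hφ hK (by omega)
  obtain ⟨g, hg, h1, h2, -⟩ := exists_scalar hφ hqq cs ht ht0
  exact ⟨g, scR_of_par hq2 hg h1 h2 fun i hi hiq h3 => by
    have := Nat.le_of_dvd hi (orderOf_dvd_of_pow_eq_one h3)
    omega⟩

theorem card_QQE (hK : Fintype.card K = q ^ 2) (hq1 : 1 < q) (p : ℕ) [Fact p.Prime]
    [CharP K p] : Nat.card (QQ cs isCartan (X φ q) rr) = q ^ 21 := by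
  have hc := card_QQ (Nodes.RGDTwE6.rgd cs hφ hqq p) (pr cs).1 (gr (cs := cs)).hd (gr (cs := cs)).rr
    (by decide +kernel) ((gr (cs := cs)).hdr) (q := q) eF4t
    (fun t ht => card_X (cs := cs) hφ hqq hK hq1 ((pr cs).1.isRoot ht))
  show Nat.card (QQ cs isCartan (X φ q) (toV [2, 3, 4, 2])) = _
  rw [hc]
  congr 1

omit hφ hqq in
theorem exists_powE (hK : Fintype.card K = q ^ 2) (p : ℕ) [Fact p.Prime] [CharP K p] : ∃ f, q = p ^ f := by
  have hp : p.Prime := Fact.out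
  obtain ⟨n, -, hn⟩ := FiniteField.card K p
  have h1 : q ∣ p ^ (n : ℕ) := by
    rw [← hn, hK]; exact dvd_pow_self q (by norm_num)
  obtain ⟨f, -, hf⟩ := (Nat.dvd_prime_pow hp).1 h1
  exact ⟨f, hf⟩

theorem isPGroup_QQE (hK : Fintype.card K = q ^ 2) (hq1 : 1 < q) (p : ℕ) [Fact p.Prime]
    [CharP K p] : IsPGroup p (QQ cs isCartan (X φ q) rr) := by
  obtain ⟨f, hf⟩ := exists_powE hK p
  refine IsPGroup.of_card (n := f * 21) ?_
  rw [card_QQE hφ hqq hK hq1 p, hf, pow_mul]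

theorem card_Xr (hK : Fintype.card K = q ^ 2) (hq1 : 1 < q) : Nat.card (X φ q rr) = q := by
  have h1 := card_X (cs := CoxeterMatrix.F₄.toCoxeterSystem) hφ hqq hK hq1 (t := rr)
    (gr (cs := CoxeterMatrix.F₄.toCoxeterSystem)).rr
  have he1 : eF4t rr = 1 := by decide +kernel
  rwa [he1, pow_one] at h1

end

end Cfsg.Agent.H400.Fpr.E6
end

-- part: H441/FPR/TwEA
section
/-!
# Fixed point ratios of `p`-elements: `²E₆(q)`, `q > 2`, orders `6` and `10`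
-/

set_option autoImplicit false
set_option linter.unusedSectionVars false
set_option linter.unusedVariables false
set_option maxRecDepth 100000

namespace Cfsg.Agent.H441.FPR.TwE

open CoxeterSystem Cfsg.Agent.ChevalleyStructure.CoxeterGeom Cfsg.Agent.Tits.Roots Cfsg.Agent.Tits.Core
  Cfsg.Agent.Nodes.Reps Cfsg.Agent.Nodes.BNOf Cfsg.Agent.Nodes.RGDTwGen Cfsg.Agent.Nodes.RGDChev Cfsg.Agent.Nodes.RGDFold
  Cfsg.Agent.Nodes.RGDFoldSL Cfsg.Agent.Nodes.RGDTwE6 Cfsg.Agent.Nodes.RGDTwCoord Cfsg.Agent.Nodes.RGDTwCoordE6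
  Cfsg.Agent.Nodes.RGDTwComE6 Cfsg.Agent.Nodes.RGDTwActE6 Cfsg.Agent.Nodes.KindChev Cfsg.Agent.Nodes.Coroot
  Cfsg.Agent.Nodes.PosPair Cfsg.Agent.Nodes.LeviDec Cfsg.Agent.Nodes.StabComb Cfsg.Agent.Nodes.Bruhat
  Cfsg.Agent.Nodes.Unique Cfsg.Agent.KFacts.RgdTI Cfsg.Agent.KFacts.RgdPar Cfsg.Agent.KFacts.RgdSL Cfsg.Agent.Nodes.PosPair
open Cfsg.Lie Cfsg.Agent.ChevalleyStructure Cfsg.Agent.ChevalleyStructure.Elts
open Cfsg.Agent.H400.TwoExc Cfsg.Agent.H400.TwoExc.TwE Cfsg.Agent.H400.Fpr Cfsg.Agent.H400.Fpr.E6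
open Cfsg.Agent.H398.FPR (UGood Good)
open Cfsg.Agent.H409 (FprRow)
open Cfsg.Agent.H441.FPR.Heis

universe u

/-! ### The order of the parabolic subgroup -/

theorem idE6t (q : ℤ) : ((exF4t.map fun z => q ^ z.1 + q ^ z.2).sum) * ((q - 1) * (q ^ 3 + 1) * (q ^ 4 - 1)) =
    (q ^ 8 - 1) * (q ^ 9 + 1) * (q ^ 12 - 1) := by
  unfold exF4t
  simp only [List.map_cons, List.map_nil, List.sum_cons, List.sum_nil]
  ring

variable {K : Type u} [Field K] [Fintype K] {q : ℕ} {φ : K →+* K}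

/-- the exponent of the torus -/
theorem tor_pow {D : ChevalleyDatum} (hD : InList D) {g : GL D.Idx K} (hg : g ∈ D.diagonalSubgroup K) :
    g ^ (Fintype.card K - 1) = 1 := by
  obtain ⟨χ, hχ⟩ := HMatDiagAll.mem_torus.1 (HMatDiagAll.diagonalSubgroup_le_torus hD hg)
  have hinv : ((g⁻¹ : GL D.Idx K) : Matrix D.Idx D.Idx K) * ((g : GL D.Idx K) : Matrix _ _ K) = 1 := by
    rw [← Units.val_mul, inv_mul_cancel]; rfl
  have hne : ∀ i, χ i ≠ 0 := by
    intro i h0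
    rw [hχ] at hinv
    have h1 := congrFun (congrFun hinv (Sum.inr i)) (Sum.inr i)
    rw [Matrix.mul_diagonal, Matrix.one_apply_eq, Sum.elim_inr, h0, mul_zero] at h1
    exact zero_ne_one h1
  apply Units.ext
  rw [Units.val_pow_eq_pow_val, hχ, Matrix.diagonal_pow, Units.val_one, ← Matrix.diagonal_one]
  congr 1
  funext i
  rcases i with i | i
  · simp [Sum.elim_inl]
  · rw [Pi.pow_apply, Sum.elim_inr]
    exact FiniteField.pow_card_sub_one_eq_one _ (hne i)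

section

variable {W : Type} [Group W] [Finite W] (cs : CoxeterSystem CoxeterMatrix.F₄ W) (hφ : ∀ x, φ x = x ^ q)
  (hqq : ∀ t : K, (t ^ q) ^ q = t)

include hφ hqq

theorem index_P (hK : Fintype.card K = q ^ 2) (hq1 : 1 < q) (p : ℕ) [Fact p.Prime] [CharP K p] :
    (PS (Nodes.RGDTwE6.T K q) (Nodes.RGDTwE6.X φ q) (Ge cs isCartan rr)).index =
      (exF4t.map fun z => q ^ z.1 + q ^ z.2).sum := by
  have R := Nodes.RGDTwE6.rgd cs hφ hqq p
  have hG1 := Nodes.RGDTwE6.G1_eq_top cs hφ hqq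
  have hG : GG cs isCartan (Nodes.RGDTwE6.T K q) (Nodes.RGDTwE6.X φ q) = ⊤ := KFacts.RgdRigid.GG_eq_top hG1
  have hfin : Finite ↥(twistedE6 K q) := inferInstance
  obtain ⟨H, F⟩ := pr cs
  have GG' := gi (cs := cs) hφ hqq p hK hq1
  have hN : qf Nodes.RGDTwE6.A (toV dlF4t) (toV [2, 3, 4, 2]) (toV [2, 3, 4, 2]) = 4 := by decide +kernel
  have hdom := dom_of_chk hA F domF4t hN
  have hindex := index_tab (R := R) hG H GG'.hd GG'.lr (GG'.qf_pos GG'.rr) GG'.dom hdom (q := q) eF4t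
    (fun t ht => card_X (cs := cs) hφ hqq hK hq1 (H.isRoot ht))
  rw [F.sum_eq, hN, expF4t] at hindex
  exact hindex

theorem card_P (hq : IsPrimePow q) (hK : Fintype.card K = q ^ 2) (p : ℕ) [Fact p.Prime] [CharP K p] :
    ((Nat.gcd 3 (q + 1) : ℕ) : ℤ) *
    (Nat.card ↥(PS (Nodes.RGDTwE6.T K q) (Nodes.RGDTwE6.X φ q) (Ge cs isCartan rr)) : ℤ) =
    (q : ℤ) ^ 36 * ((q : ℤ) - 1) * ((q : ℤ) ^ 2 - 1) * ((q : ℤ) ^ 3 + 1) * ((q : ℤ) ^ 4 - 1) * ((q : ℤ) ^ 5 + 1) *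
      ((q : ℤ) ^ 6 - 1) := by
  have hq1 := hq.one_lt
  have h1 := index_P cs hφ hqq hK hq1 p
  have h2 := Subgroup.card_mul_index (PS (Nodes.RGDTwE6.T K q) (Nodes.RGDTwE6.X φ q) (Ge cs isCartan rr))
  have h0 := Cfsg.Agent.S1066.result hq hK
  rw [h1] at h2
  rw [← h2] at h0
  have h3 := congrArg (Nat.cast : ℕ → ℤ) h0
  push_cast [cast_sub (q := q) (by omega : 0 < q)] at h3
  have h4 := cast_sum exF4t q
  push_cast at h4
  rw [h4] at h3
  have h5 := idE6t (q : ℤ)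
  have h6 : ((q : ℤ) ^ 8 - 1) * ((q : ℤ) ^ 9 + 1) * ((q : ℤ) ^ 12 - 1) ≠ 0 :=
    mul_ne_zero (mul_ne_zero (pow_sub_ne hq1 (by norm_num)) (by positivity)) (pow_sub_ne hq1 (by norm_num))
  refine mul_right_cancel₀ h6 ?_
  set S := (exF4t.map fun z => (q : ℤ) ^ z.1 + (q : ℤ) ^ z.2).sum with hS
  set P := (Nat.card ↥(PS (Nodes.RGDTwE6.T K q) (Nodes.RGDTwE6.X φ q) (Ge cs isCartan rr)) : ℤ) with hP
  set g := ((Nat.gcd 3 (q + 1) : ℕ) : ℤ) with hg
  rw [← h5]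
  calc g * P * (S * ((↑q - 1) * (↑q ^ 3 + 1) * (↑q ^ 4 - 1))) = (g * (P * S)) * ((↑q - 1) * (↑q ^ 3 + 1) * (↑q ^ 4 - 1)) := by ring
    _ = _ := by rw [h3, h5]; ring

end

theorem ord_pow_ne {ℓ e m : ℕ} (ho : orderOf (q : ZMod ℓ) = e) (hm : 0 < m) (hme : m < e) : ¬ (ℓ : ℤ) ∣ (q : ℤ) ^ m - 1 := by
  intro h
  rw [← ZMod.intCast_zmod_eq_zero_iff_dvd] at h
  push_cast at h
  rw [sub_eq_zero] at h
  have := Nat.le_of_dvd hm (orderOf_dvd_of_pow_eq_one h)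
  omega

theorem ord_pow_dvd {ℓ e : ℕ} (ho : orderOf (q : ZMod ℓ) = e) : (ℓ : ℤ) ∣ (q : ℤ) ^ e - 1 := by
  rw [← ZMod.intCast_zmod_eq_zero_iff_dvd]
  push_cast
  rw [sub_eq_zero, ← ho]
  exact pow_orderOf_eq_one _

/-- **`²E₆(q)`, `q > 2`, order `6` and `10`.** -/
theorem good_six_ten (hs : IsSimpleGroup ↥(twistedE6 K q)) (hcen : Subgroup.center ↥(twistedE6 K q) = ⊥)
    (hK : Fintype.card K = q ^ 2) (hφ : ∀ x, φ x = x ^ q) (hqq : ∀ t : K, (t ^ q) ^ q = t)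
    (hq2 : 2 < q) (p : ℕ) [Fact p.Prime] [CharP K p] {ℓ : ℕ} (hℓ : ℓ.Prime) (hℓp : ℓ ≠ p)
    (ho : orderOf (q : ZMod ℓ) = 6 ∨ orderOf (q : ZMod ℓ) = 10) : _root_.Cfsg.Agent.H398.FPR.Good 1 (ℓ + 1) ℓ ↥(twistedE6 K q) := by
  obtain ⟨e, he⟩ : ∃ e, orderOf (q : ZMod ℓ) = e := ⟨_, rfl⟩
  rw [he] at ho
  let cs : CoxeterSystem CoxeterMatrix.F₄ _ := CoxeterMatrix.F₄.toCoxeterSystem
  have hW : Finite CoxeterMatrix.F₄.Group := Nodes.RGDFold.finite_W (hp := Nodes.RGDTwE6.hp) cs isCartan foldData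
  have hp : p.Prime := Fact.out
  have hfin : Finite ↥(twistedE6 K q) := inferInstance
  have hq1 : 1 < q := by omega
  obtain ⟨f, hf⟩ := exists_powE hK p
  have hf0 : f ≠ 0 := by rintro rfl; rw [pow_zero] at hf; omega
  have hqp : IsPrimePow q := by rw [hf]; exact hp.isPrimePow.pow hf0
  obtain ⟨b, hb, hb0, hM⟩ := exists_base (e := e) hp hℓ hℓp (a := f) (by rw [← hf]; exact he)
  obtain ⟨hb1, hb2⟩ := hb0 hf0
  obtain ⟨s, hsd⟩ : ∃ s, s = p ^ b := ⟨_, rfl⟩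
  rw [← hsd] at hb hM
  have hs2 : 2 ≤ s := by rw [hsd]; exact two_le_pow hp hb1
  have hℓ2 : ¬ ℓ ∣ q ^ 2 - 1 := by
    intro h1
    refine ord_pow_ne he (m := 2) (by norm_num) (by rcases ho with rfl | rfl <;> norm_num) ?_
    have h2 := Int.natCast_dvd_natCast.2 h1
    rwa [cast_sub (by omega)] at h2
  have hgcd : ¬ ℓ ∣ Nat.gcd 3 (q + 1) := by
    intro h1
    apply hℓ2
    have h2 := h1.trans (Nat.gcd_dvd_right _ _)
    have h3 : q ^ 2 - 1 = (q + 1) * (q - 1) := by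
      obtain ⟨m, rfl⟩ : ∃ m, q = m + 1 := ⟨q - 1, by omega⟩
      rw [Nat.add_sub_cancel]
      have e2 : (m + 1) ^ 2 = (m + 1 + 1) * m + 1 := by ring
      rw [e2, Nat.add_sub_cancel]
    rw [h3]
    exact h2.mul_right _
  -- the element of order `ℓ`
  have hd : ℓ ∣ Nat.card ↥(PS (Nodes.RGDTwE6.T K q) (Nodes.RGDTwE6.X φ q) (Ge cs isCartan rr)) := by
    have h1 := card_P cs hφ hqq hqp hK p
    have hℓi : Prime (ℓ : ℤ) := Nat.prime_iff_prime_int.1 hℓ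
    have h2 : (ℓ : ℤ) ∣ ((q : ℤ) ^ 5 + 1) * ((q : ℤ) ^ 6 - 1) := by
      rcases ho with rfl | rfl
      · exact (ord_pow_dvd he).mul_left _
      · have h3 : (ℓ : ℤ) ∣ ((q : ℤ) ^ 5 - 1) * ((q : ℤ) ^ 5 + 1) := by
          have : ((q : ℤ) ^ 5 - 1) * ((q : ℤ) ^ 5 + 1) = (q : ℤ) ^ 10 - 1 := by ring
          rw [this]
          exact ord_pow_dvd he
        exact ((hℓi.dvd_or_dvd h3).resolve_left (ord_pow_ne he (by norm_num) (by norm_num))).mul_right _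
    have h4 : (ℓ : ℤ) ∣ ((Nat.gcd 3 (q + 1) : ℕ) : ℤ) *
        (Nat.card ↥(PS (Nodes.RGDTwE6.T K q) (Nodes.RGDTwE6.X φ q) (Ge cs isCartan rr)) : ℤ) := by
      rw [h1, mul_assoc]
      exact h2.mul_left _
    have h5 : ℓ ∣ Nat.gcd 3 (q + 1) *
        Nat.card ↥(PS (Nodes.RGDTwE6.T K q) (Nodes.RGDTwE6.X φ q) (Ge cs isCartan rr)) := by exact_mod_cast h4
    exact ((hℓ.dvd_mul).1 h5).resolve_left hgcd
  have H : Hs (Nodes.RGDTwE6.rgd cs hφ hqq p) rr := (gi hφ hqq p hK hq1).hs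
  have hQp := isPGroup_QQE (cs := cs) hφ hqq hK hq1 p
  obtain ⟨x, hx, hxo⟩ := exists_L0 (N := q ^ 2 - 1) H hℓ hℓp (((Nat.Prime.coprime_iff_not_dvd hℓ).2 hℓ2).symm) (by
    intro t ht
    have h1 : ((t : ↥(twistedE6 K q)) : GL chevE6.Idx K) ∈ chevE6.diagonalSubgroup K := (Subgroup.mem_subgroupOf.1 ht).1
    apply Subtype.ext
    rw [Subgroup.coe_pow, Subgroup.coe_one, ← hK]
    exact tor_pow (by simp) h1) hQp hd
  obtain ⟨h, S⟩ := exists_scR (cs := cs) hφ hqq hK hq2 p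
  have key := heis_rgd (D := 20) (k := 1) (M' := s ^ e) H hs hcen (Nodes.RGDTwE6.G1_eq_top cs hφ hqq) S hℓ hℓp hx
    (by rw [pow_one, ← hxo]; exact pow_orderOf_eq_one x) (by
      rintro rfl
      rw [orderOf_one] at hxo
      exact hℓ.one_lt.ne hxo) hQp (by
      rw [card_QQE hφ hqq hK hq1 p, card_Xr hφ hqq hK hq1, ← pow_succ]
      exact Nat.pow_lt_pow_right hq1 (by norm_num)) hM (Nat.one_le_pow _ _ (by omega))
  refine good_of_uGood (k := 1) hℓ (by rw [pow_one, ← hxo]; exact pow_orderOf_eq_one x) key ?_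
  have := hℓ.two_le
  rcases ho with rfl | rfl
  · have h1 := ar_six (by exact_mod_cast base_six hℓ hb hs2) (le_six hℓ hb)
    have h2 : 22 * (ℓ + 1) ≤ s ^ 6 + 15 := by exact_mod_cast h1
    omega
  · have hs' : (2 : ℤ) ≤ s := by exact_mod_cast hs2
    have h1 := ar58 (e := 10) (ℓ := (ℓ : ℤ)) hs' (Or.inl ⟨rfl, le_ten hℓ hb hs2⟩)
    have h2 : 58 * (ℓ + 1) ≤ s ^ 10 + 57 := by exact_mod_cast h1
    omega

end Cfsg.Agent.H441.FPR.TwE
end
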